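import Cfsg.Agent.RelGlauberman.Correspondence
import Cfsg.Agent.CharactersDeep.Clifford
import Cfsg.Agent.CharactersDeep.ExtensionCriteria
import Cfsg.Agent.OddOrderChar.Clifford
import Cfsg.Prelude.Def_BlockLocal

/-!
# Characters of subgroups of a fixed finite group: conjugacy, stabilisers, restriction

All subgroups live in one finite group `G`; multiplicities of restriction are the `multNat` of the
relative Glauberman library.
-/

set_option autoImplicit false
set_option linter.unusedSectionVars false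

namespace CfsgLib.RelMcKay

open Cfsg CfsgLib.Characters CfsgLib.RelGlauberman
open CfsgLib.OddOrderChar (conjBy)
open scoped ComplexConjugate Classical

variable {G : Type*} [Group G] [Finite G]

noncomputable local instance instFintypeSub (H : Subgroup G) : Fintype H := Fintype.ofFinite H
noncomputable local instance instFintypeIrr (H : Subgroup G) : Fintype (IrrCharacter H) :=
  Fintype.ofFinite _

/-- The degree. -/
noncomputable abbrev deg {H : Subgroup G} (χ : IrrCharacter H) : ℕ :=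
  Cfsg.charDegree (χ : H → ℂ)

theorem deg_spec {H : Subgroup G} (χ : IrrCharacter H) : (χ : H → ℂ) 1 = deg χ := by
  obtain ⟨n, hn⟩ := exists_degree (isCharacter_of_isIrr χ.2)
  rw [deg, Cfsg.charDegree, hn]
  simp

theorem deg_pos {H : Subgroup G} (χ : IrrCharacter H) : 0 < deg χ :=
  Nat.pos_of_ne_zero fun h => irr_one_ne_zero χ.2 (by rw [deg_spec, h, Nat.cast_zero])

/-- `θ'` is the conjugate of `θ` by `x`, which normalises `K`. -/
def Conj (K : Subgroup G) (x : G) (θ θ' : IrrCharacter K) : Prop :=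
  x ∈ Subgroup.normalizer (K : Set G) ∧ Cfsg.IsConjCharOf K x (θ : K → ℂ) (θ' : K → ℂ)

variable {K L C H : Subgroup G}

theorem exists_conj {x : G} (hx : x ∈ Subgroup.normalizer (K : Set G)) (θ : IrrCharacter K) :
    ∃ θ', Conj K x θ θ' := by
  let P : Subgroup G := Subgroup.normalizer (K : Set G)
  have hn : Normalises P K := normalises_of_le_normalizer le_rfl
  refine ⟨(irrAction hn).smul ⟨x, hx⟩ θ, hx, fun k k' hk => ?_⟩
  rw [irrAction_apply]
  exact congrArg _ (Subtype.ext (by simp [conjAutInv, hk, mul_assoc]))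

theorem Conj.unique {x : G} {θ θ₁ θ₂ : IrrCharacter K} (h₁ : Conj K x θ θ₁)
    (h₂ : Conj K x θ θ₂) : θ₁ = θ₂ := by
  refine Subtype.ext (funext fun k' => ?_)
  have hk : x⁻¹ * (k' : G) * x ∈ K := by
    have := (Subgroup.mem_normalizer_iff.1 (inv_mem h₁.1) (k' : G)).1 k'.2
    simpa using this
  rw [h₁.2 ⟨_, hk⟩ k' (by group), h₂.2 ⟨_, hk⟩ k' (by group)]

theorem Conj.symm {x : G} {θ θ' : IrrCharacter K} (h : Conj K x θ θ') : Conj K x⁻¹ θ' θ :=
  ⟨inv_mem h.1, fun k k' hk => (h.2 k' k (by rw [hk]; group)).symm⟩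

theorem Conj.refl_one (θ : IrrCharacter K) : Conj K 1 θ θ :=
  ⟨one_mem _, fun k k' hk => congrArg _ (Subtype.ext (by simpa using hk))⟩

theorem Conj.trans {x y : G} {θ θ' θ'' : IrrCharacter K} (h : Conj K x θ θ')
    (h' : Conj K y θ' θ'') : Conj K (y * x) θ θ'' := by
  refine ⟨mul_mem h'.1 h.1, fun k k'' hk => ?_⟩
  have hk' : x * (k : G) * x⁻¹ ∈ K := (Subgroup.mem_normalizer_iff.1 h.1 _).1 k.2
  rw [h'.2 ⟨_, hk'⟩ k'' (by rw [hk]; group), h.2 k ⟨_, hk'⟩ rfl]

/-- The elements fixing `θ`. -/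
def fixer (θ : IrrCharacter K) : Subgroup G where
  carrier := {x | Conj K x θ θ}
  one_mem' := Conj.refl_one θ
  mul_mem' hx hy := hy.trans hx
  inv_mem' hx := hx.symm

theorem mem_fixer {θ : IrrCharacter K} {x : G} : x ∈ fixer θ ↔ Conj K x θ θ := Iff.rfl

theorem fixer_le_normalizer (θ : IrrCharacter K) :
    fixer θ ≤ Subgroup.normalizer (K : Set G) := fun _ hx => hx.1

theorem le_fixer_self (θ : IrrCharacter K) : K ≤ fixer θ := fun x hx =>
  ⟨Subgroup.le_normalizer hx, fun k k' hk => by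
    rw [← isClassFunction_of_isIrr θ.2 k ⟨x, hx⟩]
    exact congrArg _ (Subtype.ext hk)⟩

theorem le_fixer_iff {P : Subgroup G} (hn : P ≤ Subgroup.normalizer (K : Set G))
    (θ : IrrCharacter K) : P ≤ fixer θ ↔ PInv P K (θ : K → ℂ) :=
  ⟨fun h x hx k k' hk => (h hx).2 k k' hk, fun h x hx => ⟨hn hx, h x hx⟩⟩

theorem pInv_of_le_fixer {P : Subgroup G} {θ : IrrCharacter K} (h : P ≤ fixer θ) :
    PInv P K (θ : K → ℂ) := fun _ hx k k' hk => (h hx).2 k k' hk

theorem Conj.fixer_map {x y : G} {θ θ' : IrrCharacter K} (h : Conj K x θ θ') :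
    x * y * x⁻¹ ∈ fixer θ' ↔ y ∈ fixer θ := by
  constructor
  · intro hy
    have := h.trans (hy : Conj K (x * y * x⁻¹) θ' θ') |>.trans h.symm
    have e : x⁻¹ * (x * y * x⁻¹ * x) = y := by group
    rwa [e] at this
  · intro hy
    have := h.symm.trans (hy : Conj K y θ θ) |>.trans h
    have e : x * (y * x⁻¹) = x * y * x⁻¹ := by group
    rwa [e] at this

/-- Multiplicities are conjugation invariant. -/
theorem multNat_conj (hCK : C ≤ K) {x : G} {χ χ' : IrrCharacter K} {ξ ξ' : IrrCharacter C}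
    (h : Conj K x χ χ') (h' : Conj C x ξ ξ') : multNat hCK χ' ξ' = multNat hCK χ ξ := by
  let P : Subgroup G := Subgroup.normalizer (K : Set G) ⊓ Subgroup.normalizer (C : Set G)
  have hnK : Normalises P K := normalises_of_le_normalizer inf_le_left
  have hnC : Normalises P C := normalises_of_le_normalizer inf_le_right
  let y : P := ⟨x, h.1, h'.1⟩
  have e1 : (irrAction hnK).smul y χ = χ' := by
    refine Conj.unique (x := x) (θ := χ) ⟨h.1, fun k k' hk => ?_⟩ h
    rw [irrAction_apply]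
    exact congrArg _ (Subtype.ext (by simp [conjAutInv, hk, y, mul_assoc]))
  have e2 : (irrAction hnC).smul y ξ = ξ' := by
    refine Conj.unique (x := x) (θ := ξ) ⟨h'.1, fun k k' hk => ?_⟩ h'
    rw [irrAction_apply]
    exact congrArg _ (Subtype.ext (by simp [conjAutInv, hk, y, mul_assoc]))
  rw [← e1, ← e2]
  exact multNat_smul hnK hnC hCK y χ ξ

theorem multNat_self (χ ξ : IrrCharacter K) :
    multNat (le_refl K) χ ξ = if χ = ξ then 1 else 0 := by
  apply multNat_unique
  rw [multRes_eq_classInner]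
  show Cfsg.classInner (χ : K → ℂ) (ξ : K → ℂ) = _
  rw [classInner_irr]
  split_ifs <;> simp

theorem multNat_eq_classInner (hCK : C ≤ K) (χ : IrrCharacter K) (ξ : IrrCharacter C) :
    (multNat hCK χ ξ : ℂ) =
      Cfsg.classInner (fun c : C => (χ : K → ℂ) (Subgroup.inclusion hCK c)) (ξ : C → ℂ) := by
  rw [← multRes_eq_classInner, multNat_spec]

theorem deg_eq_sum (hCK : C ≤ K) (χ : IrrCharacter K) :
    deg χ = ∑ ξ, multNat hCK χ ξ * deg ξ := by
  apply Nat.cast_injective (R := ℂ)
  have h := congrFun (res_expansion hCK χ) 1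
  simp only [map_one, Finset.sum_apply, Pi.smul_apply, smul_eq_mul, deg_spec] at h
  rw [h]
  push_cast
  rfl

theorem exists_constituent_of (hCK : C ≤ K) (χ : IrrCharacter K) :
    ∃ ξ, multNat hCK χ ξ ≠ 0 := by
  by_contra hno
  push Not at hno
  have := deg_eq_sum hCK χ
  simp only [hno, zero_mul, Finset.sum_const_zero] at this
  exact (deg_pos χ).ne' this

theorem multNat_trans_ne_zero {D : Subgroup G} (hCD : C ≤ D) (hDK : D ≤ K) {χ : IrrCharacter K}
    {η : IrrCharacter D} {ξ : IrrCharacter C} (h₁ : multNat hDK χ η ≠ 0)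
    (h₂ : multNat hCD η ξ ≠ 0) : multNat (hCD.trans hDK) χ ξ ≠ 0 := by
  rw [multNat_trans hCD hDK]
  intro h
  exact mul_ne_zero h₁ h₂ (Finset.sum_eq_zero_iff.1 h η (Finset.mem_univ _))

theorem exists_between {D : Subgroup G} (hCD : C ≤ D) (hDK : D ≤ K) {χ : IrrCharacter K}
    {ξ : IrrCharacter C} (h : multNat (hCD.trans hDK) χ ξ ≠ 0) :
    ∃ η, multNat hDK χ η ≠ 0 ∧ multNat hCD η ξ ≠ 0 := by
  rw [multNat_trans hCD hDK] at h
  obtain ⟨η, -, hη⟩ := Finset.exists_ne_zero_of_sum_ne_zero h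
  exact ⟨η, left_ne_zero_of_mul hη, right_ne_zero_of_mul hη⟩

/-- `θ` read on the subgroup `K` of `H`. -/
noncomputable def pull (hKH : K ≤ H) : IrrCharacter K ≃ IrrCharacter (K.subgroupOf H) :=
  irrCongr (Subgroup.subgroupOfEquivOfLe hKH)

theorem classInner_pull (hKH : K ≤ H) [Fintype (K.subgroupOf H)] (χ : IrrCharacter H)
    (θ : IrrCharacter K) :
    Cfsg.classInner (fun x : K.subgroupOf H => (χ : H → ℂ) x)
      (pull hKH θ : K.subgroupOf H → ℂ) = multNat hKH χ θ := by
  rw [multNat_eq_classInner, ← classInner_comp_mulEquiv (Subgroup.subgroupOfEquivOfLe hKH)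
    (fun c : K => (χ : H → ℂ) (Subgroup.inclusion hKH c)) (θ : K → ℂ)]
  rfl

theorem subgroupOf_normal (hn : H ≤ Subgroup.normalizer (K : Set G)) (hKH : K ≤ H) :
    (K.subgroupOf H).Normal :=
  (Subgroup.normal_subgroupOf_iff_le_normalizer hKH).2 hn

theorem mem_fixer_iff_conjBy (hn : H ≤ Subgroup.normalizer (K : Set G)) (hKH : K ≤ H)
    (θ : IrrCharacter K) (x : H) :
    (x : G) ∈ fixer θ ↔
      (haveI := subgroupOf_normal hn hKH
       conjBy (K.subgroupOf H) (pull hKH θ : K.subgroupOf H → ℂ) x) =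
        (pull hKH θ : K.subgroupOf H → ℂ) := by
  haveI := subgroupOf_normal hn hKH
  constructor
  · intro h
    funext k
    exact h.2 (Subgroup.subgroupOfEquivOfLe hKH k) _ (by simp [Subgroup.subgroupOfEquivOfLe])
  · intro h
    refine ⟨hn x.2, fun k k' hk => ?_⟩
    have h1 := congrFun h ((Subgroup.subgroupOfEquivOfLe hKH).symm k)
    rw [CfsgLib.OddOrderChar.conjBy_apply] at h1
    simp only [pull, irrCongr_apply, MulEquiv.apply_symm_apply] at h1
    rw [← h1]
    exact congrArg _ (Subtype.ext hk)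

/-- Constituents of a restriction to a normalised subgroup are conjugate. -/
theorem exists_conj_of_constituents (hn : H ≤ Subgroup.normalizer (K : Set G)) (hKH : K ≤ H)
    {χ : IrrCharacter H} {θ θ' : IrrCharacter K} (h : multNat hKH χ θ ≠ 0)
    (h' : multNat hKH χ θ' ≠ 0) : ∃ x ∈ H, Conj K x θ θ' := by
  haveI := subgroupOf_normal hn hKH
  obtain ⟨g, hg⟩ := CfsgLib.CharactersDeep.Clifford.exists_conjBy_of_constituents (K.subgroupOf H)
    χ.2 (pull hKH θ).2 (pull hKH θ').2 (by rw [classInner_pull]; exact_mod_cast h)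
    (by rw [classInner_pull]; exact_mod_cast h')
  refine ⟨(g : G)⁻¹, inv_mem g.2, inv_mem (hn g.2), fun k k' hk => ?_⟩
  have h1 := congrFun hg ((Subgroup.subgroupOfEquivOfLe hKH).symm k')
  rw [CfsgLib.OddOrderChar.conjBy_apply] at h1
  simp only [pull, irrCongr_apply, MulEquiv.apply_symm_apply] at h1
  rw [h1]
  exact congrArg _ (Subtype.ext (show (g : G) * (k' : G) * (g : G)⁻¹ = k by rw [hk]; group))

/-- An invariant constituent is the only constituent. -/
theorem eq_of_fixed (hKH : K ≤ H) {θ : IrrCharacter K} (hfix : H ≤ fixer θ) {χ : IrrCharacter H}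
    {θ' : IrrCharacter K} (h : multNat hKH χ θ ≠ 0) (h' : multNat hKH χ θ' ≠ 0) : θ' = θ := by
  obtain ⟨x, hx, hc⟩ := exists_conj_of_constituents (hfix.trans (fixer_le_normalizer θ)) hKH h h'
  exact hc.unique (hfix hx)

theorem res_eq_of_fixed (hKH : K ≤ H) {θ : IrrCharacter K} (hfix : H ≤ fixer θ)
    {χ : IrrCharacter H} (h : multNat hKH χ θ ≠ 0) (k : K) :
    (χ : H → ℂ) (Subgroup.inclusion hKH k) = (multNat hKH χ θ : ℂ) * (θ : K → ℂ) k := by
  have h1 := congrFun (res_expansion hKH χ) k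
  simp only [Finset.sum_apply, Pi.smul_apply, smul_eq_mul] at h1
  rw [h1, Finset.sum_eq_single θ]
  · intro θ' _ hne
    rw [show multNat hKH χ θ' = 0 from by_contra fun h' => hne (eq_of_fixed hKH hfix h h')]
    simp
  · simp

theorem deg_eq_of_fixed (hKH : K ≤ H) {θ : IrrCharacter K} (hfix : H ≤ fixer θ)
    {χ : IrrCharacter H} (h : multNat hKH χ θ ≠ 0) : deg χ = multNat hKH χ θ * deg θ := by
  apply Nat.cast_injective (R := ℂ)
  have := res_eq_of_fixed hKH hfix h 1
  rw [map_one, deg_spec, deg_spec] at this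
  rw [this]
  push_cast
  rfl

/-- The degree of a character over `θ`. -/
theorem deg_eq (hn : H ≤ Subgroup.normalizer (K : Set G)) (hKH : K ≤ H) {θ : IrrCharacter K}
    {χ : IrrCharacter H} (h : multNat hKH χ θ ≠ 0) :
    deg χ = multNat hKH χ θ * ((fixer θ).relIndex H * deg θ) := by
  haveI := subgroupOf_normal hn hKH
  have h1 := CfsgLib.OddOrderChar.clifford_degree (K.subgroupOf H) χ.2 (pull hKH θ).2
    ((fixer θ).subgroupOf H) (fun x => mem_fixer_iff_conjBy hn hKH θ x)
    (by rw [classInner_pull]; exact_mod_cast h)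
  rw [classInner_pull, deg_spec] at h1
  apply Nat.cast_injective (R := ℂ)
  rw [h1]
  have e : (pull hKH θ : K.subgroupOf H → ℂ) 1 = (deg θ : ℂ) := by
    rw [pull, irrCongr_apply, map_one, deg_spec]
  rw [e, Subgroup.relIndex]
  push_cast
  rfl

/-- Every irreducible character of `K` lies under one of `H`. -/
theorem exists_over (hKH : K ≤ H) (θ : IrrCharacter K) :
    ∃ χ : IrrCharacter H, multNat hKH χ θ ≠ 0 := by
  by_contra hno
  push Not at hno
  let θ' := pull hKH θ
  have h0 : Cfsg.indFun (K.subgroupOf H) (θ' : K.subgroupOf H → ℂ) = 0 := by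
    refine classFunction_eq_zero (isClassFunction_indFun _ _) fun χ => ?_
    rw [classInner_indFun _ _ (isClassFunction_of_isIrr χ.2), classInner_conj_symm,
      classInner_pull hKH, hno χ]
    simp
  have h1 := indFun_one (K.subgroupOf H) (θ' : K.subgroupOf H → ℂ)
  rw [h0, Pi.zero_apply, eq_comm, mul_eq_zero] at h1
  exact h1.elim (Nat.cast_ne_zero.2 Subgroup.index_ne_zero_of_finite) (irr_one_ne_zero θ'.2)

end CfsgLib.RelMcKay
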