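import Cfsg.Agent.RelMcKay.Basic
import Cfsg.Agent.FrobComp.SylowStructure
import Cfsg.Agent.OddOrderChar.CoprimeCoset
import Mathlib.GroupTheory.Solvable
import Mathlib.GroupTheory.SpecificGroups.ZGroup

/-!
# Group theory for the chain: chief factors of a `p`-section under an abelian group of operators
-/

set_option autoImplicit false
set_option linter.unusedSectionVars false
set_option linter.style.haveILetI false

namespace CfsgLib.RelMcKay

open CfsgLib.RelGlauberman
open scoped Classical Pointwise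

variable {G : Type*} [Group G] [Finite G]

theorem le_normalizer_of_normalises {A H : Subgroup G} (h : Normalises A H) :
    A ≤ Subgroup.normalizer (H : Set G) := fun a ha => by
  rw [Subgroup.mem_normalizer_iff]
  refine fun k => ⟨fun hk => h a ha k hk, fun hk => ?_⟩
  have := h a⁻¹ (inv_mem ha) _ hk
  simpa [mul_assoc] using this

theorem conj_mem_sup {a : G} {A B : Subgroup G} (hA : a ∈ Subgroup.normalizer (A : Set G))
    (hB : a ∈ Subgroup.normalizer (B : Set G)) :
    a ∈ Subgroup.normalizer ((A ⊔ B : Subgroup G) : Set G) := by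
  rw [Subgroup.mem_normalizer_iff]
  intro x
  have key : ∀ {a : G}, a ∈ Subgroup.normalizer (A : Set G) → a ∈ Subgroup.normalizer (B : Set G) →
      ∀ y ∈ A ⊔ B, a * y * a⁻¹ ∈ A ⊔ B := by
    intro a hA hB
    have hle : A ⊔ B ≤ (A ⊔ B).comap (MulAut.conj a).toMonoidHom :=
      sup_le (fun y hy => Subgroup.mem_sup_left ((Subgroup.mem_normalizer_iff.1 hA y).1 hy))
        (fun y hy => Subgroup.mem_sup_right ((Subgroup.mem_normalizer_iff.1 hB y).1 hy))
    exact fun y hy => hle hy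
  refine ⟨key hA hB x, fun hx => ?_⟩
  have := key (inv_mem hA) (inv_mem hB) _ hx
  simpa [mul_assoc] using this

theorem conj_mem_commutator {a : G} {P : Subgroup G} (hP : a ∈ Subgroup.normalizer (P : Set G)) :
    a ∈ Subgroup.normalizer ((⁅P, P⁆ : Subgroup G) : Set G) := by
  rw [Subgroup.mem_normalizer_iff]
  intro x
  have key : ∀ {a : G}, a ∈ Subgroup.normalizer (P : Set G) →
      ∀ y ∈ ⁅P, P⁆, a * y * a⁻¹ ∈ ⁅P, P⁆ := by
    intro a ha y hy
    have h1 : P.map (MulAut.conj a).toMonoidHom ≤ P := by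
      rintro _ ⟨z, hz, rfl⟩
      exact (Subgroup.mem_normalizer_iff.1 ha z).1 hz
    have h2 : (⁅P, P⁆ : Subgroup G).map (MulAut.conj a).toMonoidHom ≤ ⁅P, P⁆ := by
      rw [Subgroup.map_commutator]; exact Subgroup.commutator_mono h1 h1
    exact h2 ⟨y, hy, rfl⟩
  refine ⟨key hP x, fun hx => ?_⟩
  have := key (inv_mem hP) _ hx
  simpa [mul_assoc] using this

/-- A maximal proper subgroup between `L` and `L ⊔ S` stable under given operators contains the
derived subgroup. -/
theorem exists_maximal_invariant {p : ℕ} [Fact p.Prime] (L S : Subgroup G) (hS : IsPGroup p S)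
    (hSL : S ≤ Subgroup.normalizer (L : Set G)) (hne : ¬ S ≤ L) (A : Subgroup G)
    (hAL : A ≤ Subgroup.normalizer (L : Set G))
    (hAP : A ≤ Subgroup.normalizer ((L ⊔ S : Subgroup G) : Set G)) :
    ∃ P₁ : Subgroup G, L ≤ P₁ ∧ P₁ < L ⊔ S ∧ L ⊔ S ≤ Subgroup.normalizer (P₁ : Set G) ∧
      A ≤ Subgroup.normalizer (P₁ : Set G) ∧ ⁅L ⊔ S, L ⊔ S⁆ ≤ P₁ ∧
      ∀ Q : Subgroup G, P₁ ≤ Q → Q ≤ L ⊔ S → A ≤ Subgroup.normalizer (Q : Set G) →
        Q = P₁ ∨ Q = L ⊔ S := by
  set P := L ⊔ S with hPdef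
  have hLP : L ≤ P := le_sup_left
  have hPL : P ≤ Subgroup.normalizer (L : Set G) := sup_le Subgroup.le_normalizer hSL
  haveI : Fintype (Subgroup G) := Fintype.ofFinite _
  let 𝒬 : Finset (Subgroup G) := Finset.univ.filter fun Q => L ≤ Q ∧ Q < P ∧
    P ≤ Subgroup.normalizer (Q : Set G) ∧ A ≤ Subgroup.normalizer (Q : Set G)
  have hL : L ∈ 𝒬 := by
    simp only [𝒬, Finset.mem_filter, Finset.mem_univ, true_and]
    exact ⟨le_rfl, lt_of_le_of_ne hLP fun e => hne (e ▸ le_sup_right), hPL, hAL⟩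
  obtain ⟨P₁, hP₁, hmax⟩ := 𝒬.exists_max_image (fun Q => Nat.card Q) ⟨L, hL⟩
  simp only [𝒬, Finset.mem_filter, Finset.mem_univ, true_and] at hP₁ hmax
  obtain ⟨hLP₁, hlt, hPn, hAn⟩ := hP₁
  have hmax' : ∀ Q : Subgroup G, P₁ ≤ Q → Q < P → P ≤ Subgroup.normalizer (Q : Set G) →
      A ≤ Subgroup.normalizer (Q : Set G) → Q = P₁ := fun Q h1 h2 h3 h4 =>
    (Subgroup.eq_of_le_of_card_ge h1 (hmax Q ⟨hLP₁.trans h1, h2, h3, h4⟩)).symm
  have hcomm : ⁅P, P⁆ ≤ P₁ := by
    have hle : P₁ ⊔ ⁅P, P⁆ ≤ P := sup_le hlt.le (Subgroup.commutator_le_self P)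
    rcases lt_or_eq_of_le hle with h | h
    · rw [← hmax' _ le_sup_left h
        (fun x hx => conj_mem_sup (hPn hx) (conj_mem_commutator (Subgroup.le_normalizer hx)))
        (fun x hx => conj_mem_sup (hAn hx) (conj_mem_commutator (hAP hx)))]
      exact le_sup_right
    · exfalso
      haveI : (P₁.subgroupOf P).Normal := subgroupOf_normal hPn hlt.le
      let X := P ⧸ P₁.subgroupOf P
      have hmk := QuotientGroup.mk'_surjective (P₁.subgroupOf P)
      have hX : IsPGroup p X := by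
        refine hS.of_surjective
          ((QuotientGroup.mk' (P₁.subgroupOf P)).comp (Subgroup.inclusion le_sup_right)) fun x => ?_
        obtain ⟨⟨y, hy⟩, rfl⟩ := hmk x
        have he := Subgroup.coe_mul_of_right_le_normalizer_left L S hSL
        have hy' : y ∈ (L : Set G) * (S : Set G) := by rw [← he]; exact hy
        obtain ⟨l, hl, s, hs, e⟩ := hy'
        refine ⟨⟨s, hs⟩, ?_⟩
        show QuotientGroup.mk _ = QuotientGroup.mk _
        rw [QuotientGroup.eq_iff_div_mem, Subgroup.mem_subgroupOf]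
        simpa [← e, div_eq_mul_inv, mul_assoc] using P₁.inv_mem (hLP₁ hl)
      have htop : commutator X = ⊤ := by
        rw [eq_top_iff]
        intro x _
        obtain ⟨y, rfl⟩ := hmk x
        have he := Subgroup.coe_mul_of_right_le_normalizer_left P₁ (⁅P, P⁆ : Subgroup G)
          ((Subgroup.commutator_le_self P).trans hPn)
        have hy' : (y : G) ∈ (P₁ : Set G) * ((⁅P, P⁆ : Subgroup G) : Set G) := by
          rw [← he, h]; exact y.2
        obtain ⟨q, hq, c, hc, e⟩ := hy'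
        have hc' : c ∈ (commutator P).map P.subtype := by
          rw [Subgroup.map_subtype_commutator]; exact hc
        obtain ⟨c', hc'', rfl⟩ := hc'
        have : QuotientGroup.mk' (P₁.subgroupOf P) y = QuotientGroup.mk' (P₁.subgroupOf P) c' := by
          show QuotientGroup.mk _ = QuotientGroup.mk _
          rw [QuotientGroup.eq_iff_div_mem, Subgroup.mem_subgroupOf]
          simpa [← e, div_eq_mul_inv, mul_assoc] using hq
        rw [this]
        have h5 : (commutator P).map (QuotientGroup.mk' (P₁.subgroupOf P)) ≤ commutator X := by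
          rw [commutator_def, Subgroup.map_commutator]
          exact Subgroup.commutator_mono le_top le_top
        exact h5 (Subgroup.mem_map_of_mem _ hc'')
      haveI : Nontrivial X := by
        by_contra hnt
        rw [not_nontrivial_iff_subsingleton] at hnt
        refine hlt.ne (le_antisymm hlt.le fun y hy => ?_)
        have := (QuotientGroup.eq_one_iff (N := P₁.subgroupOf P) ⟨y, hy⟩).1 (Subsingleton.elim _ _)
        exact this
      haveI := hX.isNilpotent
      exact (Group.IsSolvable.commutator_lt_top_of_nontrivial (G := X)).ne htop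
  refine ⟨P₁, hLP₁, hlt, hPn, hAn, hcomm, fun Q h1 h2 h3 => ?_⟩
  rcases lt_or_eq_of_le h2 with h | h
  · refine Or.inl (hmax' Q h1 h (fun x hx => ?_) h3)
    rw [Subgroup.mem_normalizer_iff]
    have key : ∀ x ∈ P, ∀ y ∈ Q, x * y * x⁻¹ ∈ Q := fun x hx y hy => by
      have hc : x * y * x⁻¹ * y⁻¹ ∈ Q := h1 (hcomm (Subgroup.commutator_mem_commutator hx (h2 hy)))
      simpa [mul_assoc] using mul_mem hc hy
    refine fun y => ⟨key x hx y, fun hy => ?_⟩
    have := key x⁻¹ (inv_mem hx) _ hy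
    simpa [mul_assoc] using this
  · exact Or.inr h

set_option maxHeartbeats 2000000 in
/-- An abelian group of operators irreducible on `P ⧸ P₁` acts through a cyclic quotient. -/
theorem exists_generator_mod_kernel (P P₁ A : Subgroup G) (hP₁P : P₁ ≤ P)
    (hne : P₁ ≠ P)
    (hcomm : ⁅P, P⁆ ≤ P₁) (hAP : A ≤ Subgroup.normalizer (P : Set G))
    (hAP₁ : A ≤ Subgroup.normalizer (P₁ : Set G))
    (htriv : ∀ a ∈ A, ∀ b ∈ A, ∀ x ∈ P,
      (a * b * a⁻¹ * b⁻¹) * x * (a * b * a⁻¹ * b⁻¹)⁻¹ * x⁻¹ ∈ P₁)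
    (hirr : ∀ Q : Subgroup G, P₁ ≤ Q → Q ≤ P → A ≤ Subgroup.normalizer (Q : Set G) →
      Q = P₁ ∨ Q = P) :
    ∃ b ∈ A, ∀ a ∈ A, ∃ (i : ℕ) (a₀ : G), a₀ ∈ A ∧ (∀ x ∈ P, a₀ * x * a₀⁻¹ * x⁻¹ ∈ P₁) ∧
      a = b ^ i * a₀ := by
  have hPP₁ : P ≤ Subgroup.normalizer (P₁ : Set G) := by
    intro x hx
    rw [Subgroup.mem_normalizer_iff]
    have key : ∀ x ∈ P, ∀ y ∈ P₁, x * y * x⁻¹ ∈ P₁ := fun x hx y hy => by
      have hc : x * y * x⁻¹ * y⁻¹ ∈ P₁ := hcomm (Subgroup.commutator_mem_commutator hx (hP₁P hy))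
      simpa [mul_assoc] using mul_mem hc hy
    refine fun y => ⟨key x hx y, fun hy => ?_⟩
    have := key x⁻¹ (inv_mem hx) _ hy
    simpa [mul_assoc] using this
  haveI : (P₁.subgroupOf P).Normal := subgroupOf_normal hPP₁ hP₁P
  let V := P ⧸ P₁.subgroupOf P
  letI : CommGroup V :=
    { (inferInstance : Group V) with
      mul_comm := fun x y => by
        obtain ⟨u, rfl⟩ := QuotientGroup.mk_surjective x
        obtain ⟨v, rfl⟩ := QuotientGroup.mk_surjective y
        rw [← QuotientGroup.mk_mul, ← QuotientGroup.mk_mul, QuotientGroup.eq_iff_div_mem,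
          Subgroup.mem_subgroupOf]
        simpa [div_eq_mul_inv, mul_assoc, commutatorElement_def] using
          hcomm (Subgroup.commutator_mem_commutator u.2 v.2) }
  let cj : A → P →* P := fun a =>
    { toFun := fun x => ⟨a * x * (a : G)⁻¹, (Subgroup.mem_normalizer_iff.1 (hAP a.2) _).1 x.2⟩
      map_one' := Subtype.ext (by simp)
      map_mul' := fun x y => Subtype.ext (by simp [mul_assoc]) }
  have hle : ∀ a, P₁.subgroupOf P ≤ (P₁.subgroupOf P).comap (cj a) := fun a x hx =>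
    (Subgroup.mem_normalizer_iff.1 (hAP₁ a.2) _).1 hx
  let act : A → V →* V := fun a => QuotientGroup.map _ _ (cj a) (hle a)
  let ρ : A →* AddMonoid.End (Additive V) :=
    { toFun := fun a => (act a).toAdditive
      map_one' := by
        refine AddMonoidHom.ext fun x => ?_
        obtain ⟨u, hu⟩ := QuotientGroup.mk_surjective (Additive.toMul x)
        show Additive.ofMul (act 1 (Additive.toMul x)) = x
        rw [← hu]
        show Additive.ofMul (QuotientGroup.mk (cj 1 u) : V) = _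
        rw [show cj 1 u = u from Subtype.ext (by simp [cj])]
        exact congrArg Additive.ofMul hu
      map_mul' := fun a b => by
        refine AddMonoidHom.ext fun x => ?_
        obtain ⟨u, hu⟩ := QuotientGroup.mk_surjective (Additive.toMul x)
        show Additive.ofMul (act (a * b) (Additive.toMul x)) =
          Additive.ofMul (act a (act b (Additive.toMul x)))
        rw [← hu]
        exact congrArg (fun z : P => Additive.ofMul (QuotientGroup.mk z : V))
          (Subtype.ext (by simp [cj, mul_assoc])) }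
  have hker : ∀ a : A, ρ a = 1 ↔ ∀ x ∈ P, (a : G) * x * (a : G)⁻¹ * x⁻¹ ∈ P₁ := by
    intro a
    constructor
    · intro h x hx
      have h1 : ((cj a ⟨x, hx⟩ : P) : V) = ((⟨x, hx⟩ : P) : V) :=
        congrArg Additive.toMul (DFunLike.congr_fun h (Additive.ofMul (QuotientGroup.mk ⟨x, hx⟩ : V)))
      rw [QuotientGroup.eq_iff_div_mem, Subgroup.mem_subgroupOf] at h1
      simpa [cj, div_eq_mul_inv] using h1
    · intro h
      refine AddMonoidHom.ext fun x => ?_
      obtain ⟨u, hu⟩ := QuotientGroup.mk_surjective (Additive.toMul x)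
      show Additive.ofMul (act a (Additive.toMul x)) = x
      rw [← hu]
      show Additive.ofMul ((cj a u : P) : V) = _
      rw [show ((cj a u : P) : V) = (u : V) by
        rw [QuotientGroup.eq_iff_div_mem, Subgroup.mem_subgroupOf]
        simpa [cj, div_eq_mul_inv] using h u u.2]
      exact congrArg Additive.ofMul hu
  have hρc : ∀ a b : A, ρ a * ρ b = ρ b * ρ a := by
    intro a b
    have h1 : ρ (a * b * a⁻¹ * b⁻¹) = 1 := (hker _).2 fun x hx => by
      simpa using htriv a a.2 b b.2 x hx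
    have h2 : a * b = (a * b * a⁻¹ * b⁻¹) * (b * a) := by group
    rw [← map_mul, h2, map_mul, h1, one_mul, map_mul]
  let ρu : A →* (AddMonoid.End (Additive V))ˣ := ρ.toHomUnits
  have hρu : ∀ a, ((ρu a : (AddMonoid.End (Additive V))ˣ) : AddMonoid.End (Additive V)) = ρ a :=
    fun a => MonoidHom.coe_toHomUnits ρ a
  let B : Subgroup (AddMonoid.End (Additive V))ˣ := ρu.range
  let ρB : B →* AddMonoid.End (Additive V) := (Units.coeHom _).comp B.subtype
  letI : CommGroup B :=
    { (inferInstance : Group B) with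
      mul_comm := fun x y => by
        obtain ⟨u, hu⟩ := x.2
        obtain ⟨v, hv⟩ := y.2
        refine Subtype.ext ?_
        rw [Subgroup.coe_mul, Subgroup.coe_mul, ← hu, ← hv]
        exact Units.ext (by rw [Units.val_mul, Units.val_mul, hρu, hρu]; exact hρc u v) }
  haveI : Finite B := Finite.of_surjective ρu.rangeRestrict ρu.rangeRestrict_surjective
  have hfree : CfsgLib.FrobComp.IsFree ρB := by
    intro x hx1 v hv'
    obtain ⟨a, rfl⟩ := ρu.rangeRestrict_surjective x
    have hv : ρ a v = v := by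
      rw [← hρu]; exact hv'
    obtain ⟨u, hu⟩ := QuotientGroup.mk_surjective (Additive.toMul v)
    let S : Subgroup V :=
      { carrier := {z | act a z = z}
        one_mem' := map_one _
        mul_mem' := fun {z w} hz hw => by
          show act a (z * w) = z * w
          rw [map_mul, hz, hw]
        inv_mem' := fun {z} hz => by
          show act a z⁻¹ = z⁻¹
          rw [map_inv, hz] }
    let Q : Subgroup G := (S.comap (QuotientGroup.mk' (P₁.subgroupOf P))).map P.subtype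
    have hP₁Q : P₁ ≤ Q := fun y hy => ⟨⟨y, hP₁P hy⟩, by
      show QuotientGroup.mk' (P₁.subgroupOf P) ⟨y, hP₁P hy⟩ ∈ S
      rw [show QuotientGroup.mk' (P₁.subgroupOf P) ⟨y, hP₁P hy⟩ = 1 from
        (QuotientGroup.eq_one_iff _).2 hy]
      exact one_mem S, rfl⟩
    have hQP : Q ≤ P := Subgroup.map_subtype_le _
    have hAQ : A ≤ Subgroup.normalizer (Q : Set G) := by
      refine le_normalizer_of_normalises ?_
      rintro b hb _ ⟨w, hw, rfl⟩
      refine ⟨cj ⟨b, hb⟩ w, ?_, rfl⟩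
      show act a (act ⟨b, hb⟩ (QuotientGroup.mk w)) = act ⟨b, hb⟩ (QuotientGroup.mk w)
      have := DFunLike.congr_fun (hρc a ⟨b, hb⟩) (Additive.ofMul (QuotientGroup.mk w : V))
      have h3 : act a (act ⟨b, hb⟩ (QuotientGroup.mk w)) =
          act ⟨b, hb⟩ (act a (QuotientGroup.mk w)) := congrArg Additive.toMul this
      rw [h3]
      exact congrArg _ hw
    rcases hirr Q hP₁Q hQP hAQ with h | h
    · have hu' : (u : G) ∈ Q := ⟨u, by
        show act a (QuotientGroup.mk u) = QuotientGroup.mk u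
        rw [hu]
        exact congrArg Additive.toMul hv, rfl⟩
      rw [h] at hu'
      rw [← ofMul_toMul v, ← hu, (QuotientGroup.eq_one_iff u).2 hu']
      rfl
    · refine absurd (Subtype.ext (Units.ext ((hρu a).trans ?_))) hx1
      show ρ a = 1
      rw [hker]
      intro y hy
      rw [← h] at hy
      obtain ⟨w, hw, rfl⟩ := hy
      have hw' : ((cj a w : P) : V) = (w : V) := hw
      rw [QuotientGroup.eq_iff_div_mem, Subgroup.mem_subgroupOf] at hw'
      simpa [cj, div_eq_mul_inv] using hw'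
  haveI : Nontrivial V := by
    by_contra hnt
    rw [not_nontrivial_iff_subsingleton] at hnt
    refine hne (le_antisymm hP₁P fun y hy => ?_)
    exact (QuotientGroup.eq_one_iff (N := P₁.subgroupOf P) ⟨y, hy⟩).1 (Subsingleton.elim _ _)
  haveI : Nontrivial (Additive V) := inferInstanceAs (Nontrivial V)
  haveI : IsZGroup B := ⟨fun q hq Q => by
    haveI := Fact.mk hq
    exact CfsgLib.FrobComp.isCyclic_of_uniqueOrderP Q.isPGroup'
      (CfsgLib.FrobComp.uniqueOrderP_of_free hfree Q.isPGroup')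
      (Or.inl fun x y => Subtype.ext (mul_comm (x : B) y))⟩
  haveI : IsCyclic B := inferInstance
  obtain ⟨β, hβ⟩ := IsCyclic.exists_generator (α := B)
  obtain ⟨b, rfl⟩ := ρu.rangeRestrict_surjective β
  refine ⟨b, b.2, fun a ha => ?_⟩
  obtain ⟨i, hi⟩ := (mem_powers_iff_mem_zpowers (x := ρu.rangeRestrict b)).2
    (hβ (ρu.rangeRestrict ⟨a, ha⟩))
  refine ⟨i, ((b ^ i)⁻¹ * ⟨a, ha⟩ : A), ((b ^ i)⁻¹ * ⟨a, ha⟩ : A).2, (hker _).1 ?_, by simp⟩
  have h1 : ρu b ^ i = ρu ⟨a, ha⟩ := congrArg Subtype.val hi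
  rw [← hρu, map_mul, map_inv, map_pow, h1, inv_mul_cancel, Units.val_one]

/-- Coprime lifting of fixed points of an element acting on `P ⧸ L`. -/
theorem exists_centralized_of_coprime {p : ℕ} [Fact p.Prime] {L P₁ S : Subgroup G} {a : G}
    (hS : IsPGroup p S) (hSL : S ≤ Subgroup.normalizer (L : Set G))
    (hP₁ : P₁ ≤ L ⊔ S) (hLP₁ : L ≤ P₁) (haL : a ∈ Subgroup.normalizer (L : Set G))
    (haP₁ : a ∈ Subgroup.normalizer (P₁ : Set G)) {m : ℕ} (hm : a ^ m ∈ L) (hmp : ¬ p ∣ m)
    (htriv : ∀ x ∈ S, a * x * a⁻¹ * x⁻¹ ∈ P₁) :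
    ∀ x ∈ S, ∃ q ∈ P₁, ∃ s ∈ S, s * a * s⁻¹ * a⁻¹ ∈ L ∧ x = q * s := by
  intro x hx
  let NL : Subgroup G := Subgroup.normalizer (L : Set G)
  have hLNL : L ≤ NL := Subgroup.le_normalizer
  haveI : (L.subgroupOf NL).Normal := subgroupOf_normal le_rfl hLNL
  let π := QuotientGroup.mk' (L.subgroupOf NL)
  have hP₁NL : P₁ ≤ NL := hP₁.trans (sup_le hLNL hSL)
  let H : Subgroup (NL ⧸ L.subgroupOf NL) := (P₁.subgroupOf NL).map π
  let ab : NL ⧸ L.subgroupOf NL := π ⟨a, haL⟩
  have hHp : ∃ k : ℕ, Nat.card H = p ^ k := by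
    refine (IsPGroup.iff_card).1 ?_
    refine IsPGroup.to_le (IsPGroup.map (H := S.subgroupOf NL) ?_ π) ?_
    · exact hS.of_equiv (Subgroup.subgroupOfEquivOfLe hSL).symm
    · rintro _ ⟨⟨y, hyN⟩, hy, rfl⟩
      have he := Subgroup.coe_mul_of_right_le_normalizer_left L S hSL
      have hy' : y ∈ (L : Set G) * (S : Set G) := by rw [← he]; exact hP₁ hy
      obtain ⟨l, hl, s, hs, e⟩ := hy'
      refine ⟨⟨s, hSL hs⟩, hs, ?_⟩
      show QuotientGroup.mk _ = QuotientGroup.mk _
      rw [QuotientGroup.eq_iff_div_mem, Subgroup.mem_subgroupOf]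
      simpa [← e, div_eq_mul_inv, mul_assoc] using L.inv_mem hl
  obtain ⟨k, hk⟩ := hHp
  have hord : orderOf ab ∣ m := by
    refine orderOf_dvd_of_pow_eq_one ?_
    show π ⟨a, haL⟩ ^ m = 1
    rw [← map_pow]
    exact (QuotientGroup.eq_one_iff _).2 hm
  have hcop : Nat.Coprime (orderOf ab) (Nat.card H) := by
    rw [hk]
    exact Nat.Coprime.coprime_dvd_left hord
      (Nat.Coprime.pow_right k ((Fact.out : p.Prime).coprime_iff_not_dvd.2 hmp).symm)
  have hnorm : ab ∈ Subgroup.normalizer (H : Set (NL ⧸ L.subgroupOf NL)) := by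
    refine le_normalizer_of_normalises (A := Subgroup.zpowers ab) ?_ (Subgroup.mem_zpowers ab)
    intro y hy
    obtain ⟨i, rfl⟩ := Subgroup.mem_zpowers_iff.1 hy
    rintro _ ⟨w, hw, rfl⟩
    refine ⟨⟨a, haL⟩ ^ i * w * (⟨a, haL⟩ ^ i)⁻¹, ?_, by simp [ab]⟩
    show ((⟨a, haL⟩ ^ i * w * (⟨a, haL⟩ ^ i)⁻¹ : NL) : G) ∈ P₁
    simpa using (Subgroup.mem_normalizer_iff.1 (zpow_mem haP₁ i) (w : G)).1 hw
  let xb : NL ⧸ L.subgroupOf NL := π ⟨x, hSL hx⟩
  have hzmem : (ab * xb * ab⁻¹ * xb⁻¹)⁻¹ ∈ H := inv_mem ⟨⟨a, haL⟩ * ⟨x, hSL hx⟩ *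
    (⟨a, haL⟩ : NL)⁻¹ * (⟨x, hSL hx⟩ : NL)⁻¹, htriv x hx, by
      rw [map_mul, map_mul, map_mul, map_inv, map_inv]⟩
  obtain ⟨u, hu, c, hc, hcc, he⟩ :=
    CfsgLib.OddOrderChar.exists_conj_coset_fixed H ab hnorm hcop _ hzmem
  have he2 : (u * xb) * ab * (u * xb)⁻¹ = c * ab := by rw [← he]; group
  have hc1 : c = 1 := by
    have h1 : orderOf (c * ab) = orderOf ab := by
      rw [← he2]
      exact orderOf_injective (MulAut.conj (u * xb)).toMonoidHom (MulEquiv.injective _) ab
    have hcc' : Nat.Coprime (orderOf c) (orderOf ab) :=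
      (Nat.Coprime.coprime_dvd_right (Subgroup.orderOf_dvd_natCard H hc) hcop).symm
    rw [(show Commute c ab from hcc).orderOf_mul_eq_mul_orderOf_of_coprime hcc'] at h1
    exact orderOf_eq_one_iff.1 ((Nat.mul_eq_right (orderOf_pos ab).ne').1 h1)
  rw [hc1, one_mul] at he2
  obtain ⟨w, hw, hwu⟩ := hu
  have hwxS : (w : G) * x ∈ L ⊔ S :=
    mul_mem (hP₁ hw) (Subgroup.mem_sup_right hx)
  have he' := Subgroup.coe_mul_of_right_le_normalizer_left L S hSL
  have hwx' : (w : G) * x ∈ (L : Set G) * (S : Set G) := by rw [← he']; exact hwxS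
  obtain ⟨l, hl, s, hs, e⟩ := hwx'
  have hs' : π ⟨s, hSL hs⟩ = u * xb := by
    rw [← hwu]
    show π _ = π w * π _
    rw [← map_mul]
    show QuotientGroup.mk _ = QuotientGroup.mk _
    rw [QuotientGroup.eq_iff_div_mem, Subgroup.mem_subgroupOf]
    simp only [div_eq_mul_inv, Subgroup.coe_mul, Subgroup.coe_inv]
    rw [← e]
    simpa [mul_assoc] using L.inv_mem hl
  refine ⟨(w : G)⁻¹ * l, mul_mem (inv_mem hw) (hLP₁ hl), s, hs, ?_, ?_⟩
  · have h1 : π (⟨s, hSL hs⟩ * ⟨a, haL⟩ * (⟨s, hSL hs⟩ : NL)⁻¹ * (⟨a, haL⟩ : NL)⁻¹) = 1 := by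
      simp only [map_mul, map_inv, hs']
      rw [show (u * xb) * π ⟨a, haL⟩ * (u * xb)⁻¹ = ab from he2, mul_inv_cancel]
    exact (QuotientGroup.eq_one_iff (N := L.subgroupOf NL) _).1 h1
  · rw [mul_assoc, show l * s = (w : G) * x from e, inv_mul_cancel_left]

end CfsgLib.RelMcKay
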