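import Cfsg.Agent.RelMcKay.Pairing
import Cfsg.Agent.RelMcKay.Action

/-!
# Corresponding characters have the same commutator pairing

`S` is a `p`-group acting on `K ⧸ L` of order prime to `p`, `C ⧸ L` its fixed points, and `θ`, `φ`
correspond.  For commuting `p'`-elements `g`, `h` modulo `C` normalising `L ⊔ S` and fixing both,
`θ` and `φ` have the same pairing.
-/

set_option autoImplicit false
set_option linter.unusedSectionVars false
set_option linter.style.haveILetI false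

namespace CfsgLib.RelMcKay

open Cfsg CfsgLib.Characters CfsgLib.RelGlauberman
open scoped Classical Pointwise

variable {G : Type*} [Group G] [Finite G]

noncomputable local instance instFintypeSub4 (H : Subgroup G) : Fintype H := Fintype.ofFinite H
noncomputable local instance instFintypeIrr4 (H : Subgroup G) : Fintype (IrrCharacter H) :=
  Fintype.ofFinite _

theorem le_normalizer_of_conj_mem {D L : Subgroup G} (h : ∀ k ∈ D, ∀ l ∈ L, k * l * k⁻¹ ∈ L) :
    D ≤ Subgroup.normalizer (L : Set G) := le_normalizer_of_normalises h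

theorem exists_mul_of_mem_sup' {L S : Subgroup G} (hSL : S ≤ Subgroup.normalizer (L : Set G))
    {x : G} (hx : x ∈ L ⊔ S) : ∃ l ∈ L, ∃ s ∈ S, l * s = x := by
  have he := Subgroup.coe_mul_of_right_le_normalizer_left L S hSL
  have hx' : x ∈ (L : Set G) * (S : Set G) := by rw [← he]; exact hx
  obtain ⟨l, hl, s, hs, e⟩ := hx'
  exact ⟨l, hl, s, hs, e⟩

/-- Fixed points modulo `L` only depend on `L ⊔ S`. -/
theorem fixedMod_sup {S K L C : Subgroup G} (hSL : S ≤ Subgroup.normalizer (L : Set G))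
    (hLn : ∀ k ∈ K, ∀ l ∈ L, k * l * k⁻¹ ∈ L) (hC : IsFixedMod S K L C) :
    IsFixedMod (L ⊔ S) K L C := by
  intro k
  refine ⟨fun hk => ⟨((hC k).1 hk).1, fun x hx => ?_⟩,
    fun ⟨hk, hk'⟩ => (hC k).2 ⟨hk, fun s hs => hk' s (Subgroup.mem_sup_right hs)⟩⟩
  obtain ⟨l, hl, s, hs, rfl⟩ := exists_mul_of_mem_sup' hSL hx
  rw [show l * s * k * (l * s)⁻¹ * k⁻¹ = l * (s * k * s⁻¹ * k⁻¹) * (k * l⁻¹ * k⁻¹) by group]
  exact mul_mem (mul_mem hl (((hC k).1 hk).2 s hs)) (hLn k ((hC k).1 hk).1 _ (inv_mem hl))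

variable {p : ℕ} [Fact p.Prime]

theorem omega_eq : ∀ (S : Subgroup G) (K L C : Subgroup G), IsPGroup p S → Normalises S K →
    Normalises S L → L ≤ K → (∀ k ∈ K, ∀ l ∈ L, k * l * k⁻¹ ∈ L) → ¬ p ∣ L.relIndex K →
    ∀ hC : IsFixedMod S K L C, ∀ (θ : IrrCharacter K) (φ : IrrCharacter C),
      S ≤ fixer θ → S ≤ fixer φ → (multNat hC.le θ φ : ZMod p) ≠ 0 →
      ∀ g h : G, g ∈ fixer θ → h ∈ fixer θ → g ∈ fixer φ → h ∈ fixer φ →
        g ∈ Subgroup.normalizer (L : Set G) → h ∈ Subgroup.normalizer (L : Set G) →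
        g ∈ Subgroup.normalizer ((L ⊔ S : Subgroup G) : Set G) →
        h ∈ Subgroup.normalizer ((L ⊔ S : Subgroup G) : Set G) →
        ∀ r : ℕ, ¬ p ∣ r → g ^ r ∈ C → h ^ r ∈ C → g * h * g⁻¹ * h⁻¹ ∈ C →
          omega θ g h = omega φ g h := by
  intro S
  induction hn : Nat.card S using Nat.strong_induction_on generalizing S with
  | _ n ih =>
  intro K L C hS hSK hSL hLK hLn hidx hC θ φ hSθ hSφ hm g h hgθ hhθ hgφ hhφ hgL hhL hgP hhP r hr
    hgr hhr hz
  subst hn
  have hSLn : S ≤ Subgroup.normalizer (L : Set G) := le_normalizer_of_normalises hSL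
  have hKL : K ≤ Subgroup.normalizer (L : Set G) := le_normalizer_of_conj_mem hLn
  by_cases hle : S ≤ L
  · -- nothing acts
    have hCK : C = K := le_antisymm hC.le fun k hk => (hC k).2 ⟨hk, fun s hs => by
      rw [show s * k * s⁻¹ * k⁻¹ = s * (k * s⁻¹ * k⁻¹) by group]
      exact mul_mem (hle hs) (hLn k hk _ (inv_mem (hle hs)))⟩
    subst hCK
    have : θ = φ := by
      by_contra hne
      exact hm (by rw [multNat_self, if_neg hne, Nat.cast_zero])
    rw [this]
  have hCK : C ≤ K := hC.le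
  have hLC : L ≤ C := fun l hl => (hC l).2 ⟨hLK hl, fun s hs =>
    mul_mem (hSL s hs l hl) (inv_mem hl)⟩
  have hCn : C ≤ Subgroup.normalizer (L : Set G) := hCK.trans hKL
  have hCP := fixedMod_sup hSLn hLn hC
  -- the group of operators
  let A : Subgroup G := Subgroup.closure {g, h} ⊔ C
  have hA : ∀ (B : Subgroup G), g ∈ B → h ∈ B → C ≤ B → A ≤ B := fun B h1 h2 h3 =>
    sup_le ((Subgroup.closure_le _).2 (Set.insert_subset h1 (Set.singleton_subset_iff.2 h2))) h3
  have hgA : g ∈ A := Subgroup.mem_sup_left (Subgroup.subset_closure (Set.mem_insert g _))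
  have hhA : h ∈ A := Subgroup.mem_sup_left (Subgroup.subset_closure (Set.mem_insert_of_mem g rfl))
  have hCA : C ≤ A := le_sup_right
  have hAθ : A ≤ fixer θ := hA _ hgθ hhθ (hCK.trans (le_fixer_self θ))
  have hAφ : A ≤ fixer φ := hA _ hgφ hhφ (le_fixer_self φ)
  have hAL : A ≤ Subgroup.normalizer (L : Set G) := hA _ hgL hhL hCn
  have hAC : A ≤ Subgroup.normalizer (C : Set G) := hAφ.trans (fixer_le_normalizer φ)
  have hAK : A ≤ Subgroup.normalizer (K : Set G) := hAθ.trans (fixer_le_normalizer θ)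
  have hctriv : ∀ c ∈ C, ∀ x ∈ L ⊔ S, c * x * c⁻¹ * x⁻¹ ∈ L := by
    intro c hc x hx
    have h1 := ((hCP c).1 hc).2 x hx
    rw [show c * x * c⁻¹ * x⁻¹ = (x * c * x⁻¹ * c⁻¹)⁻¹ by group]
    exact inv_mem h1
  have hAP : A ≤ Subgroup.normalizer ((L ⊔ S : Subgroup G) : Set G) := by
    refine hA _ hgP hhP (le_normalizer_of_normalises fun c hc x hx => ?_)
    rw [show c * x * c⁻¹ = (c * x * c⁻¹ * x⁻¹) * x by group]
    exact mul_mem (Subgroup.mem_sup_left (hctriv c hc x hx)) hx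
  -- `A ⧸ C` is abelian of exponent dividing `r`
  have hAC' : ∀ a ∈ A, ∀ b ∈ A, a * b * a⁻¹ * b⁻¹ ∈ C := by
    let N : Subgroup G := Subgroup.normalizer (C : Set G)
    haveI : (C.subgroupOf N).Normal := subgroupOf_normal le_rfl Subgroup.le_normalizer
    let π := QuotientGroup.mk' (C.subgroupOf N)
    have hgN : g ∈ N := hAC hgA
    have hhN : h ∈ N := hAC hhA
    have hc1 : Commute (π ⟨g, hgN⟩) (π ⟨h, hhN⟩) := by
      rw [commute_iff_eq, ← map_mul, ← map_mul]
      show QuotientGroup.mk _ = QuotientGroup.mk _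
      rw [QuotientGroup.eq_iff_div_mem, Subgroup.mem_subgroupOf]
      simpa [div_eq_mul_inv, mul_assoc] using hz
    let B : Subgroup N := (Subgroup.closure {π ⟨g, hgN⟩, π ⟨h, hhN⟩}).comap π
    have hAB : A ≤ B.map N.subtype := by
      refine hA _ ⟨⟨g, hgN⟩, Subgroup.subset_closure (Set.mem_insert _ _), rfl⟩
        ⟨⟨h, hhN⟩, Subgroup.subset_closure (Set.mem_insert_of_mem _ rfl), rfl⟩ fun c hc => ?_
      refine ⟨⟨c, Subgroup.le_normalizer hc⟩, ?_, rfl⟩
      show π _ ∈ Subgroup.closure _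
      rw [show π ⟨c, Subgroup.le_normalizer hc⟩ = 1 from (QuotientGroup.eq_one_iff _).2 hc]
      exact one_mem _
    intro a ha b hb
    obtain ⟨a', ha', rfl⟩ := hAB ha
    obtain ⟨b', hb', rfl⟩ := hAB hb
    have hcomm : π a' * π b' = π b' * π a' := by
      have key : ∀ x ∈ Subgroup.closure {π ⟨g, hgN⟩, π ⟨h, hhN⟩},
          ∀ y ∈ Subgroup.closure {π ⟨g, hgN⟩, π ⟨h, hhN⟩}, x * y = y * x := by
        intro x hx y hy
        induction hx, hy using Subgroup.closure_induction₂ with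
        | mem u v hu hv =>
          rcases hu with rfl | rfl <;> rcases hv with rfl | rfl
          exacts [rfl, hc1.eq, hc1.symm.eq, rfl]
        | one_left u hu => simp
        | one_right u hu => simp
        | mul_left u v w hu hv hw h1 h2 => rw [mul_assoc, h2, ← mul_assoc, h1, mul_assoc]
        | mul_right u v w hu hv hw h1 h2 => rw [← mul_assoc, h1, mul_assoc, h2, ← mul_assoc]
        | inv_left u v hu hv h1 => exact (Commute.inv_left h1).eq
        | inv_right u v hu hv h1 => exact (Commute.inv_right h1).eq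
      exact key _ ha' _ hb'
    have h1 : π (a' * b' * a'⁻¹ * b'⁻¹) = 1 := by
      rw [map_mul, map_mul, map_mul, map_inv, map_inv, hcomm]; group
    exact (QuotientGroup.eq_one_iff (N := C.subgroupOf N) _).1 h1
  have hpow : ∀ a ∈ A, a ^ r ∈ C := by
    haveI : (C.subgroupOf A).Normal := subgroupOf_normal hAC hCA
    let E : Subgroup A :=
      { carrier := {a | (a : G) ^ r ∈ C}
        one_mem' := by simp
        mul_mem' := fun {a b} ha hb => by
          have hc : Commute (QuotientGroup.mk a : A ⧸ C.subgroupOf A) (QuotientGroup.mk b) := by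
            rw [commute_iff_eq, ← QuotientGroup.mk_mul, ← QuotientGroup.mk_mul,
              QuotientGroup.eq_iff_div_mem, Subgroup.mem_subgroupOf]
            simpa [div_eq_mul_inv, mul_assoc] using hAC' a a.2 b b.2
          have h1 : ((a * b) ^ r : A) ∈ C.subgroupOf A := by
            rw [← QuotientGroup.eq_one_iff, QuotientGroup.mk_pow, QuotientGroup.mk_mul, hc.mul_pow,
              ← QuotientGroup.mk_pow, ← QuotientGroup.mk_pow,
              (QuotientGroup.eq_one_iff _).2 (show a ^ r ∈ C.subgroupOf A from ha),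
              (QuotientGroup.eq_one_iff _).2 (show b ^ r ∈ C.subgroupOf A from hb), one_mul]
          exact h1
        inv_mem' := fun {a} ha => by
          show ((a⁻¹ : A) : G) ^ r ∈ C
          rw [Subgroup.coe_inv, inv_pow]; exact inv_mem ha }
    intro a ha
    have hle : A ≤ E.map A.subtype :=
      hA _ ⟨⟨g, hgA⟩, hgr, rfl⟩ ⟨⟨h, hhA⟩, hhr, rfl⟩
        fun c hc => ⟨⟨c, hCA hc⟩, show c ^ r ∈ C from pow_mem hc r, rfl⟩
    obtain ⟨a', ha', rfl⟩ := hle ha
    exact ha'
  -- a maximal invariant subgroup of the acting group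
  obtain ⟨P₁, hLP₁, hlt, hPn₁, hAP₁, hcomm, hirr⟩ :=
    exists_maximal_invariant (p := p) L S hS hSLn hle A hAL hAP
  let S₁ : Subgroup G := P₁ ⊓ S
  have hS₁ : S₁ ≤ S := inf_le_right
  have hP₁eq : P₁ = L ⊔ S₁ := by
    refine le_antisymm (fun x hx => ?_) (sup_le hLP₁ inf_le_left)
    obtain ⟨l, hl, s, hs, rfl⟩ := exists_mul_of_mem_sup' hSLn (hlt.le hx)
    refine mul_mem (Subgroup.mem_sup_left hl) (Subgroup.mem_sup_right ⟨?_, hs⟩)
    simpa using mul_mem (inv_mem (hLP₁ hl)) hx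
  have hcard : Nat.card S₁ < Nat.card S := by
    refine lt_of_le_of_ne (Subgroup.card_le_of_le hS₁) fun e => ?_
    have : S₁ = S := Subgroup.eq_of_le_of_card_ge hS₁ e.ge
    exact hlt.not_ge (sup_le hLP₁ (this ▸ inf_le_left))
  obtain ⟨D, hD⟩ := exists_fixedMod S₁ K L hLn
  have hDK : D ≤ K := hD.le
  have hDP₁ : IsFixedMod P₁ K L D :=
    hP₁eq ▸ fixedMod_sup (hS₁.trans hSLn) hLn hD
  have hSS₁ : S ≤ Subgroup.normalizer (P₁ : Set G) := le_sup_right.trans hPn₁
  have hnorm : ∀ (B : Subgroup G), B ≤ Subgroup.normalizer (K : Set G) →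
      B ≤ Subgroup.normalizer (L : Set G) → B ≤ Subgroup.normalizer (P₁ : Set G) → Normalises B D :=
    fun B h1 h2 h3 => hDP₁.normalises (normalises_of_le_normalizer h1)
      (normalises_of_le_normalizer h2) (normalises_of_le_normalizer h3)
  have hSD : Normalises S D := hnorm S (le_normalizer_of_normalises hSK) hSLn hSS₁
  have hAD : Normalises A D := hnorm A hAK hAL hAP₁
  obtain ⟨f, hf⟩ := (hasCorr_iff hD.le).1 (relative_glauberman S₁ K L D (hS.to_le hS₁)
    (fun s hs => hSK s (hS₁ hs)) (fun s hs => hSL s (hS₁ hs)) hLK hLn hidx hD)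
  let θi : Inv S₁ K := ⟨θ, pInv_of_le_fixer (hS₁.trans hSθ)⟩
  set η := (f θi).1 with hη
  have hmθη : (multNat hDK θ η : ZMod p) ≠ 0 := by
    rcases (hf θi (f θi)).1 rfl with e | e <;> rw [e] <;> simp
  have hS₁D : S₁ ≤ Subgroup.normalizer (D : Set G) :=
    le_normalizer_of_normalises fun s hs => hSD s (hS₁ hs)
  have hS₁η : S₁ ≤ fixer η := (le_fixer_iff hS₁D η).2 (f θi).2
  have hLD : L ≤ D := fun l hl => (hD l).2 ⟨hLK hl, fun s hs =>
    mul_mem (hSL s (hS₁ hs) l hl) (inv_mem hl)⟩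
  -- whatever fixes `θ` and normalises `P₁` fixes `η`
  have hfixη : ∀ x : G, x ∈ fixer θ → x ∈ Subgroup.normalizer (D : Set G) →
      x ∈ Subgroup.normalizer (P₁ : Set G) → x ∈ fixer η := by
    intro x hxθ hxD hxP
    obtain ⟨η', hη'⟩ := exists_conj hxD η
    have hP₁η : P₁ ≤ fixer η := hP₁eq ▸ sup_le (hLD.trans (le_fixer_self η)) hS₁η
    have hinv : S₁ ≤ fixer η' := by
      intro s hs
      have h1 : x⁻¹ * s * x ∈ P₁ := by
        have := (Subgroup.mem_normalizer_iff.1 (inv_mem hxP) s).1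
          (show s ∈ P₁ from (inf_le_left : S₁ ≤ P₁) hs)
        simpa using this
      have := hη'.fixer_map.2 (hP₁η h1)
      simpa [mul_assoc] using this
    have heq : (⟨η', pInv_of_le_fixer hinv⟩ : Inv S₁ D) = f θi := by
      by_contra hne
      have h0 := (hf θi ⟨η', pInv_of_le_fixer hinv⟩).2 hne
      simp only at h0
      rw [multNat_conj hDK (hxθ : Conj K x θ θ) hη'] at h0
      exact hmθη h0
    rw [show η' = η from congrArg Subtype.val heq] at hη'
    exact hη'
  have hSη : S ≤ fixer η := fun s hs =>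
    hfixη s (hSθ hs) (le_normalizer_of_normalises hSD hs) (hSS₁ hs)
  have hAη : A ≤ fixer η := fun a ha =>
    hfixη a (hAθ ha) (le_normalizer_of_normalises hAD ha) (hAP₁ ha)
  have hCD : C ≤ D := fun c hc => (hD c).2 ⟨hCK hc, fun s hs => ((hC c).1 hc).2 s (hS₁ hs)⟩
  -- first leg: induction
  have leg₁ : omega θ g h = omega η g h := by
    have := ih _ hcard S₁ rfl K L D (hS.to_le hS₁) (fun s hs => hSK s (hS₁ hs))
      (fun s hs => hSL s (hS₁ hs)) hLK hLn hidx hD θ η (hS₁.trans hSθ) hS₁η hmθη g h hgθ hhθ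
      (hAη hgA) (hAη hhA) hgL hhL
    rw [← hP₁eq] at this
    exact this (hAP₁ hgA) (hAP₁ hhA) r hr (hCD hgr) (hCD hhr) (hCD hz)
  rw [leg₁]
  -- second leg
  have hLnD : ∀ k ∈ D, ∀ l ∈ L, k * l * k⁻¹ ∈ L := fun k hk => hLn k (hDK hk)
  have hidxD : ¬ p ∣ L.relIndex D := fun hd =>
    hidx (hd.trans (Dvd.intro _ (Subgroup.relIndex_mul_relIndex L D K hLD hDK)))
  have hmηφ : (multNat hCD η φ : ZMod p) ≠ 0 := by
    intro h0
    apply hm
    rw [show multNat hC.le θ φ = _ from multNat_trans hCD hDK θ φ]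
    push_cast
    have hnC : Normalises S C := hC.normalises hSK hSL fun x hx y hy =>
      mul_mem (mul_mem hx hy) (inv_mem hx)
    rw [sum_irr_mod_p hS hSD _ fun s η' => by
      have h1 := multNat_smul hSK hSD hDK s θ η'
      rw [(pInv_iff_fixed hSK _).1 (pInv_of_le_fixer hSθ) s] at h1
      have h2 := multNat_smul hSD hnC hCD s η' φ
      rw [(pInv_iff_fixed hnC _).1 (pInv_of_le_fixer hSφ) s] at h2
      rw [h1, h2]]
    refine Finset.sum_eq_zero fun η' hη' => ?_
    by_cases he : η' = η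
    · rw [he, h0, mul_zero]
    · have hinv : PInv S₁ D (η' : D → ℂ) :=
        fun x hx => (Finset.mem_filter.1 hη').2 x (hS₁ hx)
      rw [(hf θi ⟨η', hinv⟩).2 fun e => he (congrArg Subtype.val e), zero_mul]
  have step : ∀ a ∈ A, (∀ x ∈ L ⊔ S, a * x * a⁻¹ * x⁻¹ ∈ P₁) → ∀ y ∈ A,
      omega η a y = omega φ a y := by
    intro a ha hat y hy
    have ham : a ^ (r * L.relIndex C) ∈ L := by
      rw [pow_mul]
      haveI : (L.subgroupOf C).Normal := subgroupOf_normal hCn hLC
      exact Subgroup.pow_index_mem (L.subgroupOf C) ⟨a ^ r, hpow a ha⟩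
    have hmp : ¬ p ∣ r * L.relIndex C := fun hd =>
      ((Fact.out : p.Prime).dvd_mul.1 hd).elim hr fun hd => hidx
        (hd.trans (Dvd.intro _ (Subgroup.relIndex_mul_relIndex L C K hLC hCK)))
    let E : Subgroup G :=
      { carrier := {s | s ∈ S ∧ s * a * s⁻¹ * a⁻¹ ∈ L}
        one_mem' := ⟨one_mem S, by simp⟩
        mul_mem' := fun {s t} hs ht => ⟨mul_mem hs.1 ht.1, by
          rw [show s * t * a * (s * t)⁻¹ * a⁻¹ =
            s * (t * a * t⁻¹ * a⁻¹) * s⁻¹ * (s * a * s⁻¹ * a⁻¹) by group]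
          exact mul_mem (hSL s hs.1 _ ht.2) hs.2⟩
        inv_mem' := fun {s} hs => ⟨inv_mem hs.1, by
          rw [show s⁻¹ * a * s⁻¹⁻¹ * a⁻¹ = s⁻¹ * (s * a * s⁻¹ * a⁻¹)⁻¹ * s by group]
          simpa using hSL s⁻¹ (inv_mem hs.1) _ (inv_mem hs.2)⟩ }
    have hES : E ≤ S := fun s hs => hs.1
    have hcover := exists_centralized_of_coprime hS hSLn hlt.le hLP₁ (hAL ha) (hAP₁ ha) ham hmp
      (fun x hx => hat x (Subgroup.mem_sup_right hx))
    have hfixE : IsFixedMod E D L C := by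
      intro k
      refine ⟨fun hk => ⟨hCD hk, fun s hs => ((hC k).1 hk).2 s (hES hs)⟩, fun ⟨hk, hk'⟩ => ?_⟩
      refine (hC k).2 ⟨hDK hk, fun x hx => ?_⟩
      obtain ⟨q, hq, s, hs, hsa, rfl⟩ := hcover x hx
      have h1 := ((hDP₁ k).1 hk).2 q hq
      have h2 := hk' s ⟨hs, hsa⟩
      rw [show q * s * k * (q * s)⁻¹ * k⁻¹ =
        q * (s * k * s⁻¹ * k⁻¹) * q⁻¹ * (q * k * q⁻¹ * k⁻¹) by group]
      refine mul_mem ?_ h1
      have hqL : q ∈ Subgroup.normalizer (L : Set G) :=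
        (sup_le Subgroup.le_normalizer hSLn) (hlt.le hq)
      exact (Subgroup.mem_normalizer_iff.1 hqL _).1 h2
    exact omega_eq_of_centralizes (hS.to_le hES) (fun s hs => hSD s (hES hs))
      (fun s hs => hSL s (hES hs)) hLD hLnD hidxD hfixE (hES.trans hSη) (hES.trans hSφ) hmηφ
      (hAL ha) (hpow a ha) hr (fun s hs => hs.2) (hAη ha) (hAφ ha) (hAη hy) (hAφ hy)
      (hAC' a ha y hy)
  obtain ⟨b, hb, hgen⟩ := exists_generator_mod_kernel (L ⊔ S) P₁ A hlt.le hlt.ne hcomm hAP hAP₁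
    (fun a ha b hb x hx => hLP₁ (hctriv _ (hAC' a ha b hb) x hx)) hirr
  -- bilinearity
  have hmul : ∀ x ∈ A, ∀ x' ∈ A, ∀ y ∈ A, omega η x y = omega φ x y →
      omega η x' y = omega φ x' y → omega η (x * x') y = omega φ (x * x') y := by
    intro x hx x' hx' y hy h1 h2
    rw [omega_mul_left (hAη hx) (hAη hx') (hAη hy) (hCD (hAC' x hx y hy))
        (hCD (hAC' x' hx' y hy)),
      omega_mul_left (hAφ hx) (hAφ hx') (hAφ hy) (hAC' x hx y hy) (hAC' x' hx' y hy), h1, h2]
  have hswap : ∀ x ∈ A, ∀ y ∈ A, omega η x y = omega φ x y → omega η y x = omega φ y x := by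
    intro x hx y hy h1
    have e1 := omega_mul_swap (hAη hx) (hAη hy) (hCD (hAC' x hx y hy))
    have e2 := omega_mul_swap (hAφ hx) (hAφ hy) (hAC' x hx y hy)
    rw [h1] at e1
    exact mul_left_cancel₀ (left_ne_zero_of_mul_eq_one e2) (e1.trans e2.symm)
  have hone : ∀ y ∈ A, omega η 1 y = omega φ 1 y := fun y hy =>
    step 1 (one_mem A) (fun x _ => by simp) y hy
  have hpowb : ∀ y ∈ A, omega η b y = omega φ b y → ∀ i : ℕ, omega η (b ^ i) y = omega φ (b ^ i) y := by
    intro y hy h1 i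
    induction i with
    | zero => rw [pow_zero]; exact hone y hy
    | succ i ih => rw [pow_succ]; exact hmul _ (pow_mem hb i) _ hb y hy ih h1
  have hbb : omega η b b = omega φ b b := by rw [omega_self (hAη hb), omega_self (hAφ hb)]
  have hby : ∀ y ∈ A, omega η b y = omega φ b y := by
    intro y hy
    refine hswap y hy b hb ?_
    obtain ⟨i, a₀, ha₀, hat, rfl⟩ := hgen y hy
    exact hmul _ (pow_mem hb i) _ ha₀ b hb (hpowb b hb hbb i) (step a₀ ha₀ hat b hb)
  obtain ⟨i, a₀, ha₀, hat, hgeq⟩ := hgen g hgA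
  rw [hgeq]
  exact hmul _ (pow_mem hb i) _ ha₀ h hhA (hpowb h hhA (hby h hhA) i) (step a₀ ha₀ hat h hhA)

end CfsgLib.RelMcKay
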