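import Cfsg.Agent.RelMcKay.Omega
import Cfsg.Agent.OddOrderChar.Clifford

/-!
# Counting the characters over a character of a normal subgroup
-/

set_option autoImplicit false
set_option linter.unusedSectionVars false
set_option linter.style.haveILetI false

namespace CfsgLib.RelMcKay

open Cfsg CfsgLib.Characters CfsgLib.RelGlauberman
open scoped ComplexConjugate Classical

variable {G : Type*} [Group G] [Finite G]

noncomputable local instance instFintypeSub5 (H : Subgroup G) : Fintype H := Fintype.ofFinite H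
noncomputable local instance instFintypeIrr5 (H : Subgroup G) : Fintype (IrrCharacter H) :=
  Fintype.ofFinite _

/-- The number of irreducible characters of `H` over `θ` whose degree satisfies `Q`. -/
noncomputable def count {K H : Subgroup G} (hKH : K ≤ H) (θ : IrrCharacter K) (Q : ℕ → Prop) : ℕ :=
  Nat.card {χ : IrrCharacter H // Q (deg χ) ∧ multNat hKH χ θ ≠ 0}

variable {K H : Subgroup G}

/-- The idempotent of `θ` acts as one or zero. -/
theorem sum_conj_mul (hKH : K ≤ H) {θ : IrrCharacter K} (hfix : H ≤ fixer θ)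
    (χ : IrrCharacter H) (g : H) :
    (deg θ : ℂ) / (Nat.card K : ℂ) *
        ∑ k : K, conj ((θ : K → ℂ) k) * (χ : H → ℂ) (Subgroup.inclusion hKH k * g) =
      if multNat hKH χ θ ≠ 0 then (χ : H → ℂ) g else 0 := by
  obtain ⟨d, R, hR, hχ⟩ := χ.2
  haveI := hR
  haveI := nontrivial_of_isIrreducible R
  let X : Module.End ℂ (Fin d → ℂ) :=
    ∑ k : K, conj ((θ : K → ℂ) k) • R (Subgroup.inclusion hKH k)
  obtain ⟨c, hc⟩ := schur_scalar R X fun h v => by
    have hh : (h : G) ∈ fixer θ := hfix h.2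
    let e : K ≃ K :=
      { toFun := fun k => ⟨(h : G) * k * (h : G)⁻¹,
          (Subgroup.mem_normalizer_iff.1 (hh : Conj K _ θ θ).1 _).1 k.2⟩
        invFun := fun k => ⟨(h : G)⁻¹ * k * h, by
          simpa using (Subgroup.mem_normalizer_iff.1 (inv_mem (hh : Conj K _ θ θ).1) _).1 k.2⟩
        left_inv := fun k => Subtype.ext (by simp [mul_assoc])
        right_inv := fun k => Subtype.ext (by simp [mul_assoc]) }
    simp only [X, LinearMap.sum_apply, LinearMap.smul_apply, map_sum, map_smul]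
    refine Fintype.sum_equiv e.symm _ _ fun k => ?_
    have h1 : (θ : K → ℂ) k = (θ : K → ℂ) (e.symm k) :=
      (hh : Conj K _ θ θ).2 (e.symm k) k (by simp [e, mul_assoc])
    rw [h1, ← Module.End.mul_apply, ← Module.End.mul_apply, ← map_mul, ← map_mul]
    congr 3
    exact Subtype.ext (by simp [e, mul_assoc])
  have hd : (d : ℂ) = deg χ := by
    rw [← deg_spec, ← hχ, Representation.char_one, Module.finrank_fin_fun]
  have hcd : c * d = (Nat.card K : ℂ) * multNat hKH χ θ := by
    have ht := congrArg (LinearMap.trace ℂ (Fin d → ℂ)) hc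
    rw [map_smul, LinearMap.trace_id, Module.finrank_fin_fun, smul_eq_mul] at ht
    rw [← ht, multNat_eq_classInner, Cfsg.classInner, ← mul_assoc,
      mul_inv_cancel₀ (Nat.cast_ne_zero.2 Nat.card_pos.ne'), one_mul]
    simp only [X, map_sum, map_smul, smul_eq_mul, ← hχ]
    exact Finset.sum_congr rfl fun k _ => mul_comm _ _
  have hsum : ∑ k : K, conj ((θ : K → ℂ) k) * (χ : H → ℂ) (Subgroup.inclusion hKH k * g) =
      c * (χ : H → ℂ) g := by
    have ht := congrArg (fun Y => LinearMap.trace ℂ (Fin d → ℂ) (Y * R g)) hc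
    simp only [X, Finset.sum_mul, smul_mul_assoc, map_sum, map_smul, smul_eq_mul, ← map_mul,
      ← Module.End.one_eq_id, one_mul] at ht
    simp only [← hχ, Representation.character]
    exact ht
  rw [hsum]
  have hK : (Nat.card K : ℂ) ≠ 0 := Nat.cast_ne_zero.2 Nat.card_pos.ne'
  have hd0 : (d : ℂ) ≠ 0 := by rw [hd]; exact_mod_cast (deg_pos χ).ne'
  split_ifs with h0
  · have h1 : (d : ℂ) = (multNat hKH χ θ : ℂ) * deg θ := by
      rw [hd, deg_eq_of_fixed hKH hfix h0, Nat.cast_mul]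
    have hm : (multNat hKH χ θ : ℂ) ≠ 0 := by exact_mod_cast h0
    rw [h1] at hcd
    have h2 : c * deg θ = (Nat.card K : ℂ) := mul_right_cancel₀ hm (by linear_combination hcd)
    rw [div_mul_eq_mul_div, div_eq_iff hK, ← mul_assoc, mul_comm (deg θ : ℂ) c, h2, mul_comm]
  · push Not at h0
    rw [h0, Nat.cast_zero, mul_zero, mul_eq_zero, or_iff_left hd0] at hcd
    rw [hcd, zero_mul, mul_zero]

/-- The number of characters over an invariant `θ`, as an average over commutators. -/
theorem count_mul_card (hKH : K ≤ H) {θ : IrrCharacter K} (hfix : H ≤ fixer θ) :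
    (count hKH θ fun _ => True : ℂ) * Nat.card H = (deg θ : ℂ) / (Nat.card K : ℂ) *
      conj (∑ x : H, ∑ y : H, Cfsg.extendByZero K (θ : K → ℂ)
        ((x : G) * y * (x : G)⁻¹ * (y : G)⁻¹)) := by
  have h1 : (count hKH θ fun _ => True : ℂ) * Nat.card H =
      ∑ χ : IrrCharacter H, ∑ g : H,
        (if multNat hKH χ θ ≠ 0 then (χ : H → ℂ) g else 0) * conj ((χ : H → ℂ) g) := by
    have h2 : ∀ χ : IrrCharacter H, (∑ g : H,
        (if multNat hKH χ θ ≠ 0 then (χ : H → ℂ) g else 0) * conj ((χ : H → ℂ) g)) =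
        if multNat hKH χ θ ≠ 0 then (Nat.card H : ℂ) else 0 := by
      intro χ
      split_ifs
      · have := classInner_isIrr_self χ.2
        rw [Cfsg.classInner, inv_mul_eq_one₀ (Nat.cast_ne_zero.2 Nat.card_pos.ne')] at this
        exact this.symm
      · simp
    simp only [h2]
    rw [Finset.sum_ite, Finset.sum_const_zero, add_zero, Finset.sum_const, nsmul_eq_mul, count]
    congr 2
    rw [Nat.card_eq_fintype_card, Fintype.card_subtype]
    simp
  rw [h1]
  simp only [← sum_conj_mul hKH hfix, mul_assoc, ← Finset.mul_sum, Finset.sum_mul]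
  congr 1
  rw [map_sum]
  have key : ∀ g : H, ∑ χ : IrrCharacter H, ∑ k : K,
      conj ((θ : K → ℂ) k) * ((χ : H → ℂ) (Subgroup.inclusion hKH k * g) *
        conj ((χ : H → ℂ) g)) =
      ∑ x : H, conj (Cfsg.extendByZero K (θ : K → ℂ) ((x : G) * g * (x : G)⁻¹ * (g : G)⁻¹)) := by
    intro g
    rw [Finset.sum_comm]
    simp only [← Finset.mul_sum, sum_irr_mul_conj]
    simp only [Nat.card_eq_fintype_card, Fintype.card_subtype, Finset.card_filter, Nat.cast_sum,
      Finset.mul_sum]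
    rw [Finset.sum_comm]
    refine Fintype.sum_equiv (Equiv.inv H) _ _ fun x => ?_
    simp only [Equiv.inv_apply, Subgroup.coe_inv, inv_inv, Nat.cast_ite, Nat.cast_one,
      Nat.cast_zero, mul_ite, mul_one, mul_zero]
    have hiff : ∀ k : K, x * (Subgroup.inclusion hKH k * g) * x⁻¹ = g ↔
        (k : G) = (x : G)⁻¹ * g * x * (g : G)⁻¹ := fun k => by
      refine Subtype.ext_iff.trans ⟨fun h => ?_, fun h => ?_⟩
      · rw [Subgroup.coe_mul, Subgroup.coe_mul, Subgroup.coe_mul, Subgroup.coe_inv,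
          Subgroup.coe_inclusion] at h
        calc (k : G) = (x : G)⁻¹ * ((x : G) * (k * g) * (x : G)⁻¹) * x * (g : G)⁻¹ := by group
          _ = _ := by rw [h]
      · rw [Subgroup.coe_mul, Subgroup.coe_mul, Subgroup.coe_mul, Subgroup.coe_inv,
          Subgroup.coe_inclusion, h]
        group
    simp only [hiff]
    by_cases hz : (x : G)⁻¹ * g * x * (g : G)⁻¹ ∈ K
    · rw [extendByZero_of_mem K _ hz, Finset.sum_eq_single ⟨_, hz⟩]
      · rw [if_pos rfl]
      · intro k _ hk
        rw [if_neg fun h => hk (Subtype.ext h)]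
      · simp
    · rw [extendByZero_of_not_mem K _ hz, map_zero, Finset.sum_eq_zero]
      intro k _
      rw [if_neg]
      intro h
      exact hz (by rw [← h]; exact k.2)
  simp only [map_sum]
  rw [Finset.sum_comm, Finset.sum_congr rfl fun g _ => key g, Finset.sum_comm]
  simp only [mul_assoc]

/-- The same count through the pairing, on a subgroup meeting every coset. -/
theorem count_eq_sum_omega {M W : Subgroup G} (hMH : M ≤ H) (hWH : W ≤ H)
    (hdec : ∀ x ∈ H, ∃ w ∈ W, ∃ m ∈ M, x = w * m) {ρ : IrrCharacter M} (hfix : H ≤ fixer ρ) :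
    (count hMH ρ fun _ => True : ℂ) * (Nat.card W * Nat.card (W ⊓ M : Subgroup G)) =
      conj (∑ w : W, ∑ w' : W,
        if (w : G) * w' * (w : G)⁻¹ * (w' : G)⁻¹ ∈ M then omega ρ w w' else 0) := by
  set C : Subgroup G := W ⊓ M with hC
  have hfibre : ∀ F : H → ℂ, ∑ w : W, ∑ m : M,
      F (Subgroup.inclusion hWH w * Subgroup.inclusion hMH m) =
      (Nat.card C : ℂ) * ∑ x : H, F x := by
    intro F
    rw [← Fintype.sum_prod_type' (f := fun (w : W) (m : M) =>
        F (Subgroup.inclusion hWH w * Subgroup.inclusion hMH m)),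
      ← Finset.sum_fiberwise Finset.univ
        (fun q : W × M => Subgroup.inclusion hWH q.1 * Subgroup.inclusion hMH q.2), Finset.mul_sum]
    refine Finset.sum_congr rfl fun x _ => ?_
    rw [Finset.sum_congr rfl fun q hq => by rw [(Finset.mem_filter.1 hq).2], Finset.sum_const,
      nsmul_eq_mul]
    congr 2
    obtain ⟨w₀, hw₀, m₀, hm₀, hx⟩ := hdec x x.2
    rw [← Fintype.card_subtype, Nat.card_eq_fintype_card]
    refine Fintype.card_congr
      { toFun := fun q => ⟨w₀⁻¹ * q.1.1,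
          Subgroup.mem_inf.2 ⟨mul_mem (inv_mem hw₀) q.1.1.2, ?_⟩⟩
        invFun := fun c => ⟨(⟨w₀ * c, mul_mem hw₀ (Subgroup.mem_inf.1 c.2).1⟩, ⟨(c : G)⁻¹ * m₀,
          mul_mem (inv_mem (Subgroup.mem_inf.1 c.2).2) hm₀⟩), ?_⟩
        left_inv := ?_
        right_inv := ?_ }
    · have h := congrArg Subtype.val q.2
      simp only [Subgroup.coe_mul, Subgroup.coe_inclusion] at h
      rw [hx] at h
      have : w₀⁻¹ * (q.1.1 : G) = m₀ * (q.1.2 : G)⁻¹ := by
        rw [eq_mul_inv_iff_mul_eq, mul_assoc, h, inv_mul_cancel_left]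
      show w₀⁻¹ * (q.1.1 : G) ∈ M
      rw [this]
      exact mul_mem hm₀ (inv_mem q.1.2.2)
    · apply Subtype.ext
      simp [hx, mul_assoc]
    · intro q
      have h := congrArg Subtype.val q.2
      simp only [Subgroup.coe_mul, Subgroup.coe_inclusion] at h
      rw [hx] at h
      refine Subtype.ext (Prod.ext (Subtype.ext ?_) (Subtype.ext ?_))
      · simp
      · simp only [mul_inv_rev, inv_inv]
        rw [mul_assoc, ← h, inv_mul_cancel_left]
    · intro c
      exact Subtype.ext (by simp)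
  have hM : (Nat.card M : ℂ) ≠ 0 := Nat.cast_ne_zero.2 Nat.card_pos.ne'
  have hHc : (Nat.card W : ℂ) * Nat.card M = Nat.card C * Nat.card H := by
    have := hfibre fun _ => 1
    simpa [Nat.card_eq_fintype_card] using this
  have hterm : ∀ w w' : W, ∑ a : M, ∑ b : M, Cfsg.extendByZero M (ρ : M → ℂ)
      ((w : G) * a * (w' * b) * ((w : G) * a)⁻¹ * ((w' : G) * b)⁻¹) =
      (Nat.card M : ℂ) ^ 2 / deg ρ *
        if (w : G) * w' * (w : G)⁻¹ * (w' : G)⁻¹ ∈ M then omega ρ w w' else 0 := by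
    intro w w'
    have hρ : (deg ρ : ℂ) ≠ 0 := by exact_mod_cast (deg_pos ρ).ne'
    split_ifs with hz
    · rw [omega, ← mul_assoc, div_mul_div_comm, mul_comm, mul_comm ((Nat.card M : ℂ) ^ 2),
        div_self (mul_ne_zero hρ (pow_ne_zero 2 hM)), mul_one]
    · rw [mul_zero]
      refine Finset.sum_eq_zero fun a _ => Finset.sum_eq_zero fun b _ => ?_
      refine extendByZero_of_not_mem M _ fun hmem => hz ?_
      have hn : ∀ v : W, ∀ k ∈ M, (v : G) * k * (v : G)⁻¹ ∈ M := fun v k hk =>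
        (Subgroup.mem_normalizer_iff.1 (fixer_le_normalizer ρ (hfix (hWH v.2))) k).1 hk
      have e : (w : G) * w' * (w : G)⁻¹ * (w' : G)⁻¹ =
          ((w : G) * ((w' : G) * ((b : G) * (a : G)⁻¹) * (w' : G)⁻¹) * (w : G)⁻¹)⁻¹ *
            ((w : G) * a * (w : G)⁻¹)⁻¹ *
            ((w : G) * a * (w' * b) * ((w : G) * a)⁻¹ * ((w' : G) * b)⁻¹) *
            ((w' : G) * (b : G)⁻¹ * (w' : G)⁻¹)⁻¹ := by group
      rw [e]
      exact mul_mem (mul_mem (mul_mem (inv_mem (hn w _ (hn w' _ (mul_mem b.2 (inv_mem a.2)))))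
        (inv_mem (hn w _ a.2))) hmem) (inv_mem (hn w' _ (inv_mem b.2)))
  set Ω : ℂ := ∑ w : W, ∑ w' : W,
    if (w : G) * w' * (w : G)⁻¹ * (w' : G)⁻¹ ∈ M then omega ρ w w' else 0
  have hS : (Nat.card C : ℂ) * ((Nat.card C : ℂ) * ∑ x : H, ∑ y : H,
      Cfsg.extendByZero M (ρ : M → ℂ) ((x : G) * y * (x : G)⁻¹ * (y : G)⁻¹)) =
      (Nat.card M : ℂ) ^ 2 / deg ρ * Ω := by
    rw [Finset.mul_sum]
    simp only [← hfibre, Subgroup.coe_mul, Subgroup.coe_inclusion]
    rw [Finset.mul_sum]
    refine Finset.sum_congr rfl fun w _ => ?_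
    rw [Finset.sum_comm, Finset.mul_sum]
    refine Finset.sum_congr rfl fun w' _ => ?_
    exact hterm w w'
  have h1 := count_mul_card hMH hfix
  set Sx : ℂ := ∑ x : H, ∑ y : H,
      Cfsg.extendByZero M (ρ : M → ℂ) ((x : G) * y * (x : G)⁻¹ * (y : G)⁻¹)
  have hS' := congrArg conj hS
  rw [map_mul, map_mul, Complex.conj_natCast, map_mul, map_div₀, map_pow, Complex.conj_natCast,
    Complex.conj_natCast] at hS'
  have hρ : (deg ρ : ℂ) ≠ 0 := by exact_mod_cast (deg_pos ρ).ne'
  apply mul_right_cancel₀ (mul_ne_zero hM hM)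
  calc (count hMH ρ fun _ => True : ℂ) * (Nat.card W * Nat.card C) * (Nat.card M * Nat.card M)
      = (count hMH ρ fun _ => True : ℂ) * Nat.card H * (Nat.card C * Nat.card C) * Nat.card M := by
        linear_combination ((count hMH ρ fun _ => True : ℂ) * Nat.card C * Nat.card M) * hHc
    _ = deg ρ * ((Nat.card C : ℂ) * ((Nat.card C : ℂ) * conj Sx)) := by
        rw [h1]; field_simp
    _ = _ := by rw [hS']; field_simp

/-- The Clifford correspondence, as a count. -/
theorem count_stabilizer (hn : H ≤ Subgroup.normalizer (K : Set G)) (hKH : K ≤ H)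
    (θ : IrrCharacter K) (Q : ℕ → Prop) :
    count hKH θ Q = count (le_inf hKH (le_fixer_self θ)) θ
      fun d => Q ((fixer θ).relIndex H * d) := by
  haveI := subgroupOf_normal hn hKH
  let K' := K.subgroupOf H
  let T : Subgroup G := H ⊓ fixer θ
  let T' : Subgroup H := (fixer θ).subgroupOf H
  have hKT : K ≤ T := le_inf hKH (le_fixer_self θ)
  let eT : T' ≃* T :=
    { toFun := fun x => ⟨(x : H), (x : H).2, x.2⟩
      invFun := fun x => ⟨⟨x, x.2.1⟩, x.2.2⟩
      left_inv := fun x => rfl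
      right_inv := fun x => rfl
      map_mul' := fun x y => rfl }
  have hT : ∀ x : H, x ∈ T' ↔ CfsgLib.OddOrderChar.conjBy K' (pull hKH θ : K' → ℂ) x =
      (pull hKH θ : K' → ℂ) := fun x => mem_fixer_iff_conjBy hn hKH θ x
  have hmult : ∀ ψ : IrrCharacter T, Cfsg.classInner
      (fun x : K'.subgroupOf T' => (irrCongr eT ψ : T' → ℂ) x)
      (CfsgLib.OddOrderChar.onSubgroupOf K' T' (pull hKH θ : K' → ℂ)) = multNat hKT ψ θ := by
    intro ψ
    let e : K'.subgroupOf T' ≃* K :=
      (Subgroup.subgroupOfEquivOfLe (H := K') (K := T')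
        (fun x hx => le_fixer_self θ hx)).trans (Subgroup.subgroupOfEquivOfLe hKH)
    rw [multNat_eq_classInner, ← classInner_comp_mulEquiv e
      (fun c : K => (ψ : T → ℂ) (Subgroup.inclusion hKT c)) (θ : K → ℂ)]
    rfl
  have hcl : ∀ ψ : {ψ : IrrCharacter T // multNat hKT ψ θ ≠ 0},
      Cfsg.IsIrrCharacter H (Cfsg.indFun T' (irrCongr eT ψ.1 : T' → ℂ)) ∧
      Cfsg.classInner (fun h : K' => Cfsg.indFun T' (irrCongr eT ψ.1 : T' → ℂ) h)
        (pull hKH θ : K' → ℂ) = multNat hKT ψ.1 θ ∧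
      ∀ ψ' : T' → ℂ, Cfsg.IsIrrCharacter T' ψ' →
        Cfsg.classInner (fun x : K'.subgroupOf T' => ψ' x)
          (CfsgLib.OddOrderChar.onSubgroupOf K' T' (pull hKH θ : K' → ℂ)) ≠ 0 →
        Cfsg.indFun T' ψ' = Cfsg.indFun T' (irrCongr eT ψ.1 : T' → ℂ) →
          ψ' = (irrCongr eT ψ.1 : T' → ℂ) := by
    intro ψ
    have := CfsgLib.OddOrderChar.clifford_correspondence K' T' (pull hKH θ).2 hT
      (irrCongr eT ψ.1).2 (by rw [hmult]; exact_mod_cast ψ.2)
    rwa [hmult] at this
  let Φ : {ψ : IrrCharacter T // multNat hKT ψ θ ≠ 0} →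
      {χ : IrrCharacter H // multNat hKH χ θ ≠ 0} := fun ψ =>
    ⟨⟨_, (hcl ψ).1⟩, by
      have h := (hcl ψ).2.1
      rw [classInner_pull hKH ⟨_, (hcl ψ).1⟩ θ] at h
      rw [Nat.cast_injective h]
      exact ψ.2⟩
  have hΦ : Function.Bijective Φ := by
    refine ⟨fun ψ₁ ψ₂ h => ?_, fun χ => ?_⟩
    · have := (hcl ψ₂).2.2 _ (irrCongr eT ψ₁.1).2 (by rw [hmult]; exact_mod_cast ψ₁.2)
        (congrArg (fun z => ((z.1 : IrrCharacter H) : H → ℂ)) h)
      exact Subtype.ext ((irrCongr eT).injective (Subtype.ext this))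
    · obtain ⟨ψ, e, he, hψ, hind, hres, -⟩ :=
        CfsgLib.CharactersDeep.Clifford.exists_induced_from_inertia K' (pull hKH θ).2 T' hT
          (fun x hx => le_fixer_self θ hx) χ.1.2
          (by rw [classInner_pull]; exact_mod_cast χ.2)
      let ψT : IrrCharacter T := (irrCongr eT).symm ⟨ψ, hψ⟩
      have hψT : (irrCongr eT ψT : T' → ℂ) = ψ :=
        congrArg Subtype.val ((irrCongr eT).apply_symm_apply ⟨ψ, hψ⟩)
      have hne : multNat hKT ψT θ ≠ 0 := by
        have h := hmult ψT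
        rw [hψT] at h
        intro h0
        rw [h0, Nat.cast_zero] at h
        let E : K'.subgroupOf T' ≃* K' := Subgroup.subgroupOfEquivOfLe
          (fun x hx => le_fixer_self θ hx)
        have h2 : (fun x : K'.subgroupOf T' => ψ x) = (e : ℂ) •
            CfsgLib.OddOrderChar.onSubgroupOf K' T' (pull hKH θ : K' → ℂ) := by
          funext x
          exact congrFun hres (E x)
        rw [h2, classInner_smul_left,
          CfsgLib.OddOrderChar.classInner_onSubgroupOf K' T' (fun x hx => le_fixer_self θ hx),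
          classInner_isIrr_self (pull hKH θ).2, mul_one] at h
        exact he.ne' (by exact_mod_cast h)
      refine ⟨⟨ψT, hne⟩, Subtype.ext (Subtype.ext ?_)⟩
      show Cfsg.indFun T' (irrCongr eT ψT : T' → ℂ) = _
      rw [hψT, hind]
  have hdeg : ∀ ψ, deg (Φ ψ).1 = (fixer θ).relIndex H * deg ψ.1 := by
    intro ψ
    apply Nat.cast_injective (R := ℂ)
    rw [← deg_spec]
    show Cfsg.indFun T' (irrCongr eT ψ.1 : T' → ℂ) 1 = _
    rw [indFun_one, irrCongr_apply, map_one, deg_spec, Nat.cast_mul]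
    rfl
  unfold count
  refine Nat.card_congr ?_
  calc {χ : IrrCharacter H // Q (deg χ) ∧ multNat hKH χ θ ≠ 0}
      ≃ {χ : {χ : IrrCharacter H // multNat hKH χ θ ≠ 0} // Q (deg χ.1)} :=
        (Equiv.subtypeEquivRight fun χ => and_comm).trans
          (Equiv.subtypeSubtypeEquivSubtypeInter _ _).symm
    _ ≃ {ψ : {ψ : IrrCharacter T // multNat hKT ψ θ ≠ 0} //
          Q ((fixer θ).relIndex H * deg ψ.1)} :=
        ((Equiv.ofBijective Φ hΦ).subtypeEquiv fun ψ => by
          rw [Equiv.ofBijective_apply, hdeg]).symm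
    _ ≃ _ := (Equiv.subtypeSubtypeEquivSubtypeInter (fun ψ : IrrCharacter T => multNat hKT ψ θ ≠ 0)
          (fun ψ => Q ((fixer θ).relIndex H * deg ψ))).trans
          (Equiv.subtypeEquivRight fun ψ => and_comm)

end CfsgLib.RelMcKay
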