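import Cfsg.Agent.RelMcKay.Basic
import Cfsg.Agent.OddOrderChar.AbelianInertia
import Cfsg.Agent.Characters.Linear

/-!
# Extensions of an invariant character and their linear twists
-/

set_option autoImplicit false
set_option linter.unusedSectionVars false
set_option linter.style.haveILetI false

namespace CfsgLib.RelMcKay

open Cfsg CfsgLib.Characters CfsgLib.RelGlauberman CfsgLib.CharactersDeep
open scoped ComplexConjugate Classical Pointwise

variable {G : Type*} [Group G] [Finite G]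

noncomputable local instance instFintypeSub2 (H : Subgroup G) : Fintype H := Fintype.ofFinite H

variable {K M : Subgroup G}

/-- `ρ` extends `θ`. -/
def Ext (hKM : K ≤ M) (θ : IrrCharacter K) (ρ : IrrCharacter M) : Prop :=
  ∀ k : K, (ρ : M → ℂ) (Subgroup.inclusion hKM k) = (θ : K → ℂ) k

/-- The linear characters of `M` trivial on `K`. -/
def Triv (hKM : K ≤ M) (l : M →* ℂˣ) : Prop := ∀ k : K, l (Subgroup.inclusion hKM k) = 1

/-- The twist of a character by a linear character. -/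
noncomputable def twist (ρ : IrrCharacter M) (l : M →* ℂˣ) : IrrCharacter M :=
  ⟨fun g => (l g : ℂ) * (ρ : M → ℂ) g,
    (ExtensionCriteria.twist ρ.2 (deg_spec ρ) l).1⟩

theorem twist_apply (ρ : IrrCharacter M) (l : M →* ℂˣ) (g : M) :
    (twist ρ l : M → ℂ) g = (l g : ℂ) * (ρ : M → ℂ) g := rfl

theorem twist_one (ρ : IrrCharacter M) : twist ρ 1 = ρ :=
  Subtype.ext (funext fun g => by simp [twist_apply])

theorem twist_mul (ρ : IrrCharacter M) (l l' : M →* ℂˣ) :
    twist (twist ρ l) l' = twist ρ (l * l') :=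
  Subtype.ext (funext fun g => by simp [twist_apply]; ring)

variable {hKM : K ≤ M} {θ : IrrCharacter K} {ρ ρ' : IrrCharacter M}

theorem Ext.twist (h : Ext hKM θ ρ) {l : M →* ℂˣ} (hl : Triv hKM l) :
    Ext hKM θ (RelMcKay.twist ρ l) := fun k => by
  rw [twist_apply, hl k, h k]; simp

theorem Ext.le_fixer (h : Ext hKM θ ρ) (hn : M ≤ Subgroup.normalizer (K : Set G)) :
    M ≤ fixer θ := fun x hx => ⟨hn hx, fun k k' hk => by
  rw [← h k', ← h k, ← isClassFunction_of_isIrr ρ.2 (Subgroup.inclusion hKM k) ⟨x, hx⟩]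
  exact congrArg _ (Subtype.ext hk)⟩

theorem Ext.multNat (h : Ext hKM θ ρ) : CfsgLib.RelGlauberman.multNat hKM ρ θ = 1 := by
  apply multNat_unique
  rw [multRes_eq_classInner, show (fun c : K => (ρ : M → ℂ) (Subgroup.inclusion hKM c)) =
    (θ : K → ℂ) from funext h, Nat.cast_one]
  exact classInner_isIrr_self θ.2

theorem Ext.deg_eq (h : Ext hKM θ ρ) : deg ρ = deg θ := by
  apply Nat.cast_injective (R := ℂ)
  rw [← deg_spec, ← deg_spec, ← h 1, map_one]

theorem ext_of_deg (hfix : M ≤ fixer θ) (hne : CfsgLib.RelGlauberman.multNat hKM ρ θ ≠ 0)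
    (hd : deg ρ ≤ deg θ) : Ext hKM θ ρ := by
  intro k
  have h1 := deg_eq_of_fixed hKM hfix hne
  have hm : CfsgLib.RelGlauberman.multNat hKM ρ θ = 1 := by
    have h2 : CfsgLib.RelGlauberman.multNat hKM ρ θ * deg θ ≤ 1 * deg θ := by
      rw [one_mul, ← h1]; exact hd
    have := Nat.le_of_mul_le_mul_right h2 (deg_pos θ)
    omega
  rw [res_eq_of_fixed hKM hfix hne, hm]
  simp

theorem Conj.ext {x : G} {θ' : IrrCharacter K} (h : Ext hKM θ ρ) (hρ : Conj M x ρ ρ')
    (hθ : Conj K x θ θ') : Ext hKM θ' ρ' := by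
  intro k'
  have hk : x⁻¹ * (k' : G) * x ∈ K := by
    have := (Subgroup.mem_normalizer_iff.1 (inv_mem hθ.1) (k' : G)).1 k'.2
    simpa using this
  rw [hθ.2 ⟨_, hk⟩ k' (by group), ← h]
  exact hρ.2 _ _ (by simp [mul_assoc])

/-- Two extensions differ by a linear character trivial on `K`. -/
theorem Ext.exists_twist (h : Ext hKM θ ρ) (h' : Ext hKM θ ρ')
    (hn : M ≤ Subgroup.normalizer (K : Set G)) :
    ∃ l : M →* ℂˣ, Triv hKM l ∧ ρ' = RelMcKay.twist ρ l := by
  haveI := subgroupOf_normal hn hKM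
  haveI : Fintype (K.subgroupOf M) := Fintype.ofFinite _
  obtain ⟨l, hl, he⟩ := ExtensionCriteria.exists_twist (K.subgroupOf M) ρ.2 ρ'.2 (pull hKM θ).2
    (fun n => h (Subgroup.subgroupOfEquivOfLe hKM n))
    (fun n => h' (Subgroup.subgroupOfEquivOfLe hKM n))
  exact ⟨l, fun k => hl ((Subgroup.subgroupOfEquivOfLe hKM).symm k), Subtype.ext he⟩

/-- Twists by different linear characters trivial on `K` differ. -/
theorem Ext.twist_injective (h : Ext hKM θ ρ) (hn : M ≤ Subgroup.normalizer (K : Set G))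
    {l l' : M →* ℂˣ} (hl : Triv hKM l) (hl' : Triv hKM l')
    (he : RelMcKay.twist ρ l = RelMcKay.twist ρ l') : l = l' := by
  haveI := subgroupOf_normal hn hKM
  haveI : Fintype (K.subgroupOf M) := Fintype.ofFinite _
  let N := K.subgroupOf M
  have hker : ∀ {l : M →* ℂˣ}, Triv hKM l → N ≤ l.ker := fun {l} hl x hx => by
    rw [MonoidHom.mem_ker]
    exact hl ⟨(x : G), hx⟩
  have hθ' : Cfsg.IsIrrCharacter N fun n : N => (ρ : M → ℂ) n := by
    convert (pull hKM θ).2 using 1
    funext n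
    exact h (Subgroup.subgroupOfEquivOfLe hKM n)
  have key := Gallagher.prodInfl_injective N ρ.2 hθ'
    (isIrr_linChar (QuotientGroup.lift N l (hker hl)))
    (isIrr_linChar (QuotientGroup.lift N l' (hker hl'))) (by
      funext g
      have := congrFun (congrArg Subtype.val he) g
      simp only [twist_apply] at this
      simp only [Gallagher.prodInfl, QuotientGroup.lift_mk, mul_comm ((ρ : M → ℂ) g), this])
  ext g
  simpa using congrFun key (g : M ⧸ N)

/-- If `M ⧸ K` is abelian, the characters over `θ` are the twists of an extension. -/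
theorem Ext.exists_twist_of_over (h : Ext hKM θ ρ) (hn : M ≤ Subgroup.normalizer (K : Set G))
    (hcomm : ∀ x ∈ M, ∀ y ∈ M, x * y * x⁻¹ * y⁻¹ ∈ K) {η : IrrCharacter M}
    (hη : CfsgLib.RelGlauberman.multNat hKM η θ ≠ 0) :
    ∃ l : M →* ℂˣ, Triv hKM l ∧ η = RelMcKay.twist ρ l := by
  haveI := subgroupOf_normal hn hKM
  haveI : Fintype (K.subgroupOf M) := Fintype.ofFinite _
  let N := K.subgroupOf M
  haveI : Fintype (M ⧸ N) := Fintype.ofFinite _
  have hres : (fun n : N => (ρ : M → ℂ) n) = (pull hKM θ : N → ℂ) := by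
    funext n
    exact h (Subgroup.subgroupOfEquivOfLe hKM n)
  obtain ⟨β, hβ, he⟩ := Gallagher.exists_eq_prodInfl N ρ.2 (hres ▸ (pull hKM θ).2) η.2 (by
    rw [hres, classInner_pull]; exact_mod_cast hη)
  have hc : ∀ x y : M ⧸ N, x * y = y * x := by
    intro x y
    obtain ⟨a, rfl⟩ := QuotientGroup.mk_surjective x
    obtain ⟨b, rfl⟩ := QuotientGroup.mk_surjective y
    rw [← QuotientGroup.mk_mul, ← QuotientGroup.mk_mul, QuotientGroup.eq_iff_div_mem,
      Subgroup.mem_subgroupOf]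
    simpa [div_eq_mul_inv, mul_assoc] using hcomm a a.2 b b.2
  obtain ⟨f, hf⟩ := exists_hom_of_degree_one (isCharacter_of_isIrr hβ)
    (CfsgLib.OddOrderChar.irr_degree_one_of_comm hc ⟨β, hβ⟩)
  refine ⟨f.comp (QuotientGroup.mk' N), fun k => ?_, Subtype.ext ?_⟩
  · rw [MonoidHom.comp_apply, QuotientGroup.mk'_apply,
      (QuotientGroup.eq_one_iff _).2 (by exact Subgroup.mem_subgroupOf.2 k.2), map_one]
  · rw [he]
    funext g
    rw [twist_apply, Gallagher.prodInfl, hf]
    simp [mul_comm]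

/-- A cyclic overgroup carries an extension. -/
theorem exists_ext_cyclic {a : G} (ha : a ∈ fixer θ) :
    ∃ ρ : IrrCharacter ↥(K ⊔ Subgroup.zpowers a), Ext le_sup_left θ ρ := by
  let M : Subgroup G := K ⊔ Subgroup.zpowers a
  have hfix : M ≤ fixer θ := sup_le (le_fixer_self θ) (Subgroup.zpowers_le.2 ha)
  have hn := hfix.trans (fixer_le_normalizer θ)
  haveI := subgroupOf_normal hn (le_sup_left : K ≤ M)
  haveI : Fintype (K.subgroupOf M) := Fintype.ofFinite _
  let N := K.subgroupOf M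
  let q : Subgroup.zpowers a →* M ⧸ N :=
    (QuotientGroup.mk' N).comp (Subgroup.inclusion le_sup_right)
  have hq : Function.Surjective q := by
    intro x
    obtain ⟨⟨y, hy⟩, rfl⟩ := QuotientGroup.mk_surjective x
    obtain ⟨k, hk, z, hz, rfl⟩ : ∃ k ∈ K, ∃ z ∈ Subgroup.zpowers a, k * z = y := by
      have h := Subgroup.coe_mul_of_right_le_normalizer_left K (Subgroup.zpowers a)
        (Subgroup.zpowers_le.2 (fixer_le_normalizer θ ha))
      have hy' : y ∈ (K : Set G) * (Subgroup.zpowers a : Set G) := by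
        rw [← h]; exact hy
      obtain ⟨k, hk, z, hz, e⟩ := hy'
      exact ⟨k, hk, z, hz, e⟩
    refine ⟨⟨z, hz⟩, ?_⟩
    show QuotientGroup.mk _ = QuotientGroup.mk _
    rw [QuotientGroup.eq_iff_div_mem, Subgroup.mem_subgroupOf]
    simpa [div_eq_mul_inv, mul_assoc] using K.inv_mem hk
  obtain ⟨χ, hχ, he⟩ := ExtensionCriteria.extends_of_cyclic N (pull (le_sup_left : K ≤ M) θ).2
    (fun g n => congrFun ((mem_fixer_iff_conjBy hn le_sup_left θ g).1 (hfix g.2)) n)
    (isCyclic_of_surjective q hq)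
  exact ⟨⟨χ, hχ⟩, fun k => he ((Subgroup.subgroupOfEquivOfLe (le_sup_left : K ≤ M)).symm k)⟩

end CfsgLib.RelMcKay
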