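import Cfsg.Agent.RelMcKay.Over
import Cfsg.Prelude.Def_Local

/-!
# The relative count of `p'`-degree characters in a `p`-solvable group
-/

set_option autoImplicit false
set_option linter.unusedSectionVars false
set_option linter.style.haveILetI false

namespace CfsgLib.RelMcKay

open Cfsg CfsgLib.Characters CfsgLib.RelGlauberman
open scoped Classical Pointwise

variable {G : Type*} [Group G] [Finite G]

noncomputable local instance instFintypeSub8 (H : Subgroup G) : Fintype H := Fintype.ofFinite H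
noncomputable local instance instFintypeIrr8 (H : Subgroup G) : Fintype (IrrCharacter H) :=
  Fintype.ofFinite _

theorem count_congr_sub {L H H' : Subgroup G} (h : H = H') (hLH : L ≤ H) (hLH' : L ≤ H')
    (ν : IrrCharacter L) (Q : ℕ → Prop) : count hLH ν Q = count hLH' ν Q := by
  subst h; rfl

theorem count_congr_pred {L H : Subgroup G} (hLH : L ≤ H) (ν : IrrCharacter L) {Q Q' : ℕ → Prop}
    (h : ∀ d, Q d ↔ Q' d) : count hLH ν Q = count hLH ν Q' := by
  rw [show Q = Q' from funext fun d => propext (h d)]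

theorem relIndex_ne_zero' {A B : Subgroup G} : A.relIndex B ≠ 0 :=
  Subgroup.index_ne_zero_of_finite (H := A.subgroupOf B)

variable {p : ℕ} [Fact p.Prime]

theorem card_conj (x : G) (S : Subgroup G) :
    Nat.card (S.map (MulAut.conj x).toMonoidHom) = Nat.card S :=
  Subgroup.card_map_of_injective (MulAut.conj x).injective

/-- Conjugacy of Sylow subgroups inside a subgroup. -/
theorem exists_conj_sylow {T S₁ S₂ : Subgroup G} (h1 : IsPGroup p S₁) (h2 : IsPGroup p S₂)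
    (h1T : S₁ ≤ T) (h2T : S₂ ≤ T) (hi1 : ¬ p ∣ S₁.relIndex T) (hi2 : ¬ p ∣ S₂.relIndex T) :
    ∃ t ∈ T, ∀ y, y ∈ S₁ ↔ t * y * t⁻¹ ∈ S₂ := by
  let P₁ : Sylow p T := (h1.of_equiv (Subgroup.subgroupOfEquivOfLe h1T).symm).toSylow hi1
  let P₂ : Sylow p T := (h2.of_equiv (Subgroup.subgroupOfEquivOfLe h2T).symm).toSylow hi2
  obtain ⟨t, ht⟩ := MulAction.exists_smul_eq T P₁ P₂
  have key : ∀ y : T, y ∈ S₁.subgroupOf T ↔ t * y * t⁻¹ ∈ S₂.subgroupOf T := by
    intro y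
    have hP₂ : S₂.subgroupOf T = (P₂ : Subgroup T) := rfl
    rw [hP₂, ← ht, Sylow.coe_subgroup_smul, Subgroup.mem_smul_pointwise_iff_exists]
    constructor
    · exact fun hy => ⟨y, hy, by simp [MulAut.smul_def]⟩
    · rintro ⟨z, hz, e⟩
      have : z = y := by simpa [MulAut.smul_def] using e
      exact this ▸ hz
  refine ⟨t, t.2, fun y => ⟨fun hy => (key ⟨y, h1T hy⟩).1 hy, fun hy => ?_⟩⟩
  have hyT : y ∈ T := by
    have := mul_mem (mul_mem (inv_mem t.2) (h2T hy)) t.2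
    simpa [mul_assoc] using this
  exact (key ⟨y, hyT⟩).2 hy

theorem mem_normalizer_of_iff {S : Subgroup G} {n : G} (h : ∀ y, y ∈ S ↔ n * y * n⁻¹ ∈ S) :
    n ∈ Subgroup.normalizer (S : Set G) := Subgroup.mem_normalizer_iff.2 h

/-- Invariant characters below a common character are conjugate under the normaliser of `S`. -/
theorem exists_conj_normalizer {K H S : Subgroup G} (hn : H ≤ Subgroup.normalizer (K : Set G))
    (hKH : K ≤ H) (hS : IsPGroup p S) (hSH : S ≤ H) (hsyl : ¬ p ∣ S.relIndex H)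
    {χ : IrrCharacter H} {θ θ' : IrrCharacter K} (hθ : S ≤ fixer θ) (hθ' : S ≤ fixer θ')
    (h : multNat hKH χ θ ≠ 0) (h' : multNat hKH χ θ' ≠ 0) :
    ∃ n ∈ H ⊓ Subgroup.normalizer (S : Set G), Conj K n θ θ' := by
  obtain ⟨x, hx, hc⟩ := exists_conj_of_constituents hn hKH h h'
  let T : Subgroup G := H ⊓ fixer θ
  have hST : S ≤ T := le_inf hSH hθ
  let S' : Subgroup G := S.map (MulAut.conj x⁻¹).toMonoidHom
  have hS' : IsPGroup p S' := hS.map _
  have hS'T : S' ≤ T := by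
    rintro _ ⟨s, hs, rfl⟩
    refine Subgroup.mem_inf.2 ⟨?_, ?_⟩
    · simpa using mul_mem (mul_mem (inv_mem hx) (hSH hs)) hx
    · have := (hc.symm.fixer_map (y := s)).2 (hθ' hs)
      simpa using this
  have hi1 : ¬ p ∣ S.relIndex T := fun hd => hsyl (hd.trans
    (Dvd.intro _ (Subgroup.relIndex_mul_relIndex S T H hST inf_le_left)))
  have hi2 : ¬ p ∣ S'.relIndex T := by
    have e : S'.relIndex T = S.relIndex T := by
      have e1 := Subgroup.relIndex_mul_relIndex ⊥ S' T bot_le hS'T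
      have e2 := Subgroup.relIndex_mul_relIndex ⊥ S T bot_le hST
      rw [Subgroup.relIndex_bot_left, Subgroup.relIndex_bot_left, card_conj] at e1
      rw [Subgroup.relIndex_bot_left, Subgroup.relIndex_bot_left] at e2
      exact Nat.eq_of_mul_eq_mul_left Nat.card_pos (e1.trans e2.symm)
    rwa [e]
  obtain ⟨t, ht, hty⟩ := exists_conj_sylow hS hS' hST hS'T hi1 hi2
  refine ⟨x * t, Subgroup.mem_inf.2 ⟨mul_mem hx (Subgroup.mem_inf.1 ht).1,
    mem_normalizer_of_iff fun y => (hty y).trans ⟨?_, ?_⟩⟩,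
    Conj.trans (show Conj K t θ θ from (Subgroup.mem_inf.1 ht).2) hc⟩
  · rintro ⟨s, hs, e⟩
    have : x * t * y * (x * t)⁻¹ = s := by
      rw [show x * t * y * (x * t)⁻¹ = x * (t * y * t⁻¹) * x⁻¹ by group, ← e]
      simp [mul_assoc]
    rwa [this]
  · intro hy
    exact ⟨_, hy, by simp [mul_assoc]⟩

/-- A `p'`-degree character has an invariant constituent. -/
theorem exists_invariant_constituent {K H S : Subgroup G}
    (hn : H ≤ Subgroup.normalizer (K : Set G)) (hKH : K ≤ H) (hS : IsPGroup p S) (hSH : S ≤ H)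
    (hsyl : ¬ p ∣ S.relIndex H) {χ : IrrCharacter H} (hd : ¬ p ∣ deg χ) :
    ∃ θ : IrrCharacter K, S ≤ fixer θ ∧ multNat hKH χ θ ≠ 0 := by
  obtain ⟨θ, hθ⟩ := exists_constituent_of hKH χ
  let T : Subgroup G := H ⊓ fixer θ
  have hT : ¬ p ∣ T.relIndex H := by
    intro hp
    rw [Subgroup.inf_relIndex_left] at hp
    refine hd ?_
    rw [deg_eq hn hKH hθ]
    exact Dvd.dvd.mul_left (Dvd.dvd.mul_right hp _) _
  obtain ⟨Q⟩ := (inferInstance : Nonempty (Sylow p T))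
  let S₂ : Subgroup G := (Q : Subgroup T).map T.subtype
  have hS₂ : IsPGroup p S₂ := Q.isPGroup'.map _
  have hS₂T : S₂ ≤ T := Subgroup.map_subtype_le _
  have hi2 : ¬ p ∣ S₂.relIndex H := by
    rw [← Subgroup.relIndex_mul_relIndex S₂ T H hS₂T inf_le_left]
    intro hp
    rcases (Fact.out : p.Prime).dvd_mul.1 hp with h | h
    · refine Q.not_dvd_index ?_
      have e : S₂.relIndex T = (Q : Subgroup T).index := by
        rw [Subgroup.relIndex, Subgroup.subgroupOf, Subgroup.comap_map_eq_self_of_injective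
          Subtype.val_injective]
      rwa [e] at h
    · exact hT h
  obtain ⟨t, ht, hty⟩ := exists_conj_sylow hS₂ hS (hS₂T.trans inf_le_left) hSH hi2 hsyl
  obtain ⟨θ', hθ'⟩ := exists_conj (hn ht) θ
  refine ⟨θ', fun s hs => ?_, ?_⟩
  · have h1 : t⁻¹ * s * t ∈ S₂ := (hty _).2 (by simpa [mul_assoc] using hs)
    have := hθ'.fixer_map.2 (Subgroup.mem_inf.1 (hS₂T h1)).2
    simpa [mul_assoc] using this
  · rw [multNat_conj hKH (le_fixer_self χ ht : Conj H t χ χ) hθ']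
    exact hθ

/-- Reduce a count over `ν` to invariant characters of an intermediate normal subgroup. -/
theorem count_eq_of_constituents {L K K' H H' S : Subgroup G} (hLK : L ≤ K) (hLK' : L ≤ K')
    (hKH : K ≤ H) (hK'H' : K' ≤ H') (hn : H ≤ Subgroup.normalizer (K : Set G))
    (hn' : H' ≤ Subgroup.normalizer (K' : Set G)) (hS : IsPGroup p S) (hSH' : S ≤ H')
    (hH'H : H' ≤ H) (hsyl : ¬ p ∣ S.relIndex H)
    (hNS : H ⊓ Subgroup.normalizer (S : Set G) ≤ H') {ν : IrrCharacter L} (hν : H ≤ fixer ν)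
    (e : {θ : IrrCharacter K // S ≤ fixer θ ∧ multNat hLK θ ν ≠ 0} ≃
      {φ : IrrCharacter K' // S ≤ fixer φ ∧ multNat hLK' φ ν ≠ 0})
    (he : ∀ n ∈ H ⊓ Subgroup.normalizer (S : Set G), ∀ θ₁ θ₂,
      Conj K' n (e θ₁).1 (e θ₂).1 ↔ Conj K n θ₁.1 θ₂.1)
    (hc : ∀ θ, count hKH θ.1 (fun d => ¬ p ∣ d) = count hK'H' (e θ).1 (fun d => ¬ p ∣ d)) :
    count (hLK.trans hKH) ν (fun d => ¬ p ∣ d) = count (hLK'.trans hK'H') ν (fun d => ¬ p ∣ d) := by
  set N := H ⊓ Subgroup.normalizer (S : Set G)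
  have hsyl' : ¬ p ∣ S.relIndex H' := fun hd => hsyl (hd.trans
    (Dvd.intro _ (Subgroup.relIndex_mul_relIndex S H' H hSH' hH'H)))
  have hSH : S ≤ H := hSH'.trans hH'H
  have hfib : ∀ {A B : Subgroup G} (hLA : L ≤ A) (hAB : A ≤ B) (θ : IrrCharacter A),
      multNat hLA θ ν ≠ 0 →
      Nat.card {b : {χ : IrrCharacter B // ¬ p ∣ deg χ ∧ multNat (hLA.trans hAB) χ ν ≠ 0} //
        multNat hAB b.1 θ ≠ 0} = count hAB θ (fun d => ¬ p ∣ d) := by
    intro A B hLA hAB θ hθ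
    refine Nat.card_congr ((Equiv.subtypeSubtypeEquivSubtypeInter
      (fun χ : IrrCharacter B => ¬ p ∣ deg χ ∧ multNat (hLA.trans hAB) χ ν ≠ 0)
      (fun χ => multNat hAB χ θ ≠ 0)).trans (Equiv.subtypeEquivRight fun χ =>
        ⟨fun h => ⟨h.1.1, h.2⟩, fun h => ⟨⟨h.1, multNat_trans_ne_zero hLA hAB h.2 hθ⟩, h.2⟩⟩))
  have hex : ∀ {A B : Subgroup G} (hLA : L ≤ A) (hAB : A ≤ B),
      B ≤ Subgroup.normalizer (A : Set G) → B ≤ H → S ≤ B → ¬ p ∣ S.relIndex B →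
      ∀ χ : {χ : IrrCharacter B // ¬ p ∣ deg χ ∧ multNat (hLA.trans hAB) χ ν ≠ 0},
        ∃ θ : {θ : IrrCharacter A // S ≤ fixer θ ∧ multNat hLA θ ν ≠ 0},
          multNat hAB χ.1 θ.1 ≠ 0 := by
    intro A B hLA hAB hn hBH hSB hi χ
    obtain ⟨θ, hθ, hm⟩ := exists_invariant_constituent hn hAB hS hSB hi χ.2.1
    obtain ⟨ν', hν'⟩ := exists_constituent_of hLA θ
    have := eq_of_fixed (hLA.trans hAB) (hBH.trans hν) χ.2.2
      (multNat_trans_ne_zero hLA hAB hm hν')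
    exact ⟨⟨θ, hθ, this ▸ hν'⟩, hm⟩
  show Nat.card {χ : IrrCharacter H // ¬ p ∣ deg χ ∧ multNat (hLK.trans hKH) χ ν ≠ 0} =
    Nat.card {χ : IrrCharacter H' // ¬ p ∣ deg χ ∧ multNat (hLK'.trans hK'H') χ ν ≠ 0}
  refine card_eq_of_fibres
    (A := {θ : IrrCharacter K // S ≤ fixer θ ∧ multNat hLK θ ν ≠ 0})
    (A' := {φ : IrrCharacter K' // S ≤ fixer φ ∧ multNat hLK' φ ν ≠ 0})
    (B := {χ : IrrCharacter H // ¬ p ∣ deg χ ∧ multNat (hLK.trans hKH) χ ν ≠ 0})
    (B' := {χ : IrrCharacter H' // ¬ p ∣ deg χ ∧ multNat (hLK'.trans hK'H') χ ν ≠ 0})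
    (fun θ₁ θ₂ => ∃ n ∈ N, Conj K n θ₁.1 θ₂.1)
    (fun φ₁ φ₂ => ∃ n ∈ N, Conj K' n φ₁.1 φ₂.1)
    ⟨fun θ => ⟨1, one_mem _, Conj.refl_one _⟩,
      fun ⟨n, hn, h⟩ => ⟨n⁻¹, inv_mem hn, h.symm⟩,
      fun ⟨n, hn, h⟩ ⟨m, hm, h'⟩ => ⟨m * n, mul_mem hm hn, h.trans h'⟩⟩
    (fun χ θ => multNat hKH χ.1 θ.1 ≠ 0) (fun χ φ => multNat hK'H' χ.1 φ.1 ≠ 0)
    (hex hLK hKH hn le_rfl hSH hsyl)
    (fun χ θ hr θ₂ => ⟨fun h2 => exists_conj_normalizer hn hKH hS hSH hsyl θ.2.1 θ₂.2.1 hr h2,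
      fun ⟨n, hnN, h⟩ => ?_⟩)
    (hex hLK' hK'H' hn' hH'H hSH' hsyl')
    (fun χ φ hr φ₂ => ⟨fun h2 => ?_, fun ⟨n, hnN, h⟩ => ?_⟩)
    e (fun θ₁ θ₂ => ⟨fun ⟨n, hn, h⟩ => ⟨n, hn, (he n hn θ₁ θ₂).1 h⟩,
      fun ⟨n, hn, h⟩ => ⟨n, hn, (he n hn θ₁ θ₂).2 h⟩⟩)
    (fun θ => ?_)
  · rw [multNat_conj hKH (le_fixer_self χ.1 (Subgroup.mem_inf.1 hnN).1 : Conj H n χ.1 χ.1) h]
    exact hr
  · obtain ⟨n, hn2, h⟩ := exists_conj_normalizer hn' hK'H' hS hSH' hsyl' φ.2.1 φ₂.2.1 hr h2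
    exact ⟨n, Subgroup.mem_inf.2 ⟨hH'H (Subgroup.mem_inf.1 hn2).1, (Subgroup.mem_inf.1 hn2).2⟩, h⟩
  · rw [multNat_conj hK'H' (le_fixer_self χ.1 (hNS hnN) : Conj H' n χ.1 χ.1) h]
    exact hr
  · exact (hfib hLK hKH θ.1 θ.2.2).trans ((hc θ).trans (hfib hLK' hK'H' (e θ).1 (e θ).2.2).symm)

/-- `count_over_eq` with the normaliser and fixed-point subgroup named freely. -/
theorem count_over_eq' (D : Setup p G) {N C : Subgroup G} (hN : N = D.N) (hC : C = D.C)
    (hCK : C ≤ D.K) (hCN : C ≤ N) (θ : IrrCharacter D.K) (φ : IrrCharacter C)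
    (hθ : D.H ≤ fixer θ) (hφ : N ≤ fixer φ) (hm : (multNat hCK θ φ : ZMod p) ≠ 0)
    (hd : ¬ p ∣ deg θ ↔ ¬ p ∣ deg φ) :
    count D.hKH θ (fun d => ¬ p ∣ d) = count hCN φ (fun d => ¬ p ∣ d) := by
  subst hN; subst hC
  exact count_over_eq D θ φ hθ hφ hm hd

theorem relIndex_lt {L L' H : Subgroup G} (h1 : L < L') (h2 : L' ≤ H) :
    L'.relIndex H < L.relIndex H := by
  rw [← Subgroup.relIndex_mul_relIndex L L' H h1.le h2]
  have hpos : 0 < L'.relIndex H := Nat.pos_of_ne_zero relIndex_ne_zero'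
  have hne : L.relIndex L' ≠ 1 := fun h => h1.not_ge (Subgroup.relIndex_eq_one.1 h)
  have hne0 : L.relIndex L' ≠ 0 := relIndex_ne_zero'
  exact lt_mul_left hpos (by omega)

theorem relIndex_lt' {L T H : Subgroup G} (h1 : L ≤ T) (h2 : T < H) :
    L.relIndex T < L.relIndex H := by
  rw [← Subgroup.relIndex_mul_relIndex L T H h1 h2.le]
  have hne : T.relIndex H ≠ 1 := fun h => h2.not_ge (Subgroup.relIndex_eq_one.1 h)
  have hne0 : T.relIndex H ≠ 0 := relIndex_ne_zero'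
  have hpos : 0 < L.relIndex T := Nat.pos_of_ne_zero relIndex_ne_zero'
  exact lt_mul_right hpos (by omega)

/-- A `p`-solvable group has a normal `p`- or `p'`-section above `L`. -/
theorem exists_section (hG : Cfsg.IsPSolvable p G) {L H : Subgroup G} (hLH : L ≤ H)
    (hHL : H ≤ Subgroup.normalizer (L : Set G)) (hne : ¬ H ≤ L) :
    ∃ K : Subgroup G, L < K ∧ K ≤ H ∧ H ≤ Subgroup.normalizer (K : Set G) ∧
      ((∃ m, L.relIndex K ∣ p ^ m) ∨ ¬ p ∣ L.relIndex K) := by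
  obtain ⟨n, A, h0, hlast, -, hnorm, hstep⟩ := hG
  obtain ⟨i, hi1, hi2⟩ : ∃ i : Fin n, A i.castSucc ⊓ H ≤ L ∧ ¬ A i.succ ⊓ H ≤ L := by
    by_contra hno
    push Not at hno
    have key : ∀ j : Fin (n + 1), A j ⊓ H ≤ L := by
      intro j
      induction j using Fin.induction with
      | zero => rw [h0, bot_inf_eq]; exact bot_le
      | succ i ih => exact hno i ih
    exact hne (by simpa [hlast] using key (Fin.last n))
  set B : Subgroup G := A i.succ ⊓ H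
  have hBH : B ≤ H := inf_le_right
  have hnB : H ≤ Subgroup.normalizer (B : Set G) :=
    le_normalizer_of_normalises fun x hx y hy => Subgroup.mem_inf.2
      ⟨(hnorm _).conj_mem y (Subgroup.mem_inf.1 hy).1 x,
        mul_mem (mul_mem hx (Subgroup.mem_inf.1 hy).2) (inv_mem hx)⟩
  refine ⟨L ⊔ B, lt_of_le_of_ne le_sup_left fun e => hi2 (le_sup_right.trans e.ge),
    sup_le hLH hBH, fun x hx => conj_mem_sup (hHL hx) (hnB hx), ?_⟩
  let Γ : Subgroup G := L ⊔ B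
  haveI := subgroupOf_normal (H := Γ) (sup_le Subgroup.le_normalizer (hBH.trans hHL)) le_sup_left
  have e1 : L.relIndex Γ = L.relIndex B := by
    rw [← Subgroup.relIndex_subgroupOf (le_refl Γ),
      show Γ.subgroupOf Γ = L.subgroupOf Γ ⊔ B.subgroupOf Γ from
        Subgroup.subgroupOf_sup le_sup_left le_sup_right,
      Subgroup.relIndex_sup_left, Subgroup.relIndex_subgroupOf le_sup_right]
  have e2 : L.relIndex B ∣ (A i.castSucc).relIndex (A i.succ) ∨ (A i.castSucc).relIndex (A i.succ) = 1 := by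
    left
    have h1 : L.relIndex B ∣ (A i.castSucc ⊓ H).relIndex B := Subgroup.relIndex_dvd_of_le_left B hi1
    have h2 : (A i.castSucc ⊓ H).relIndex B = (A i.castSucc).relIndex B := by
      rw [← Subgroup.inf_relIndex_right (A i.castSucc ⊓ H) B, inf_assoc,
        inf_eq_right.2 hBH, Subgroup.inf_relIndex_right]
    haveI := hnorm i.castSucc
    refine h1.trans (h2 ▸ ?_)
    rw [← Subgroup.inf_relIndex_right (A i.castSucc) (A i.succ)]
    have h3 : (A i.castSucc).relIndex B = (A i.castSucc).relIndex (B ⊔ A i.castSucc) :=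
      (Subgroup.relIndex_sup_right (H := B) (K := A i.castSucc)).symm
    rw [h3]
    haveI : (A i.succ).Normal := hnorm _
    calc (A i.castSucc).relIndex (B ⊔ A i.castSucc)
        ∣ (A i.castSucc).relIndex (A i.succ ⊔ A i.castSucc) :=
          Dvd.intro _ (Subgroup.relIndex_mul_relIndex _ (B ⊔ A i.castSucc) _ le_sup_right
            (sup_le_sup_right inf_le_left _))
      _ = _ := by rw [Subgroup.relIndex_sup_right, Subgroup.inf_relIndex_right]
  rcases e2 with e2 | e2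
  · rcases hstep i with ⟨m, hm⟩ | hcop
    · exact Or.inl ⟨m, by rw [e1, ← hm]; exact e2⟩
    · refine Or.inr fun hd => ?_
      rw [e1] at hd
      exact ((Fact.out : p.Prime).coprime_iff_not_dvd.1 hcop.symm) (hd.trans e2)
  · rcases hstep i with ⟨m, hm⟩ | hcop
    · exact absurd e2 fun h => hi2 (le_trans (inf_le_inf_right H (Subgroup.relIndex_eq_one.1 h)) hi1)
    · exact absurd e2 fun h => hi2 (le_trans (inf_le_inf_right H (Subgroup.relIndex_eq_one.1 h)) hi1)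

theorem le_sup_of_pow {L K S H : Subgroup G} (hS : IsPGroup p S) (hSH : S ≤ H)
    (hsyl : ¬ p ∣ S.relIndex H) (hLK : L ≤ K) (hKH : K ≤ H)
    (hn : H ≤ Subgroup.normalizer (K : Set G)) {m : ℕ} (hm : L.relIndex K ∣ p ^ m) :
    K ≤ L ⊔ S := by
  set P : Subgroup G := L ⊔ S
  set J : Subgroup G := K ⊓ P
  have hPH : P ≤ H := sup_le (hLK.trans hKH) hSH
  let Γ : Subgroup G := K ⊔ P
  haveI := subgroupOf_normal (H := Γ) (sup_le Subgroup.le_normalizer (hPH.trans hn)) le_sup_left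
  have e1 : K.relIndex Γ = K.relIndex P := by
    rw [← Subgroup.relIndex_subgroupOf (le_refl Γ),
      show Γ.subgroupOf Γ = K.subgroupOf Γ ⊔ P.subgroupOf Γ from
        Subgroup.subgroupOf_sup le_sup_left le_sup_right,
      Subgroup.relIndex_sup_left, Subgroup.relIndex_subgroupOf le_sup_right]
  have a1 := Subgroup.relIndex_mul_relIndex ⊥ P Γ bot_le le_sup_right
  have a2 := Subgroup.relIndex_mul_relIndex ⊥ K Γ bot_le le_sup_left
  have a3 := Subgroup.relIndex_mul_relIndex ⊥ J P bot_le inf_le_right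
  have a4 := Subgroup.relIndex_mul_relIndex ⊥ J K bot_le inf_le_left
  have e2 : J.relIndex P = K.relIndex P := Subgroup.inf_relIndex_right K P
  simp only [Subgroup.relIndex_bot_left] at a1 a2 a3 a4
  rw [e2] at a3
  rw [e1] at a2
  have e3 : J.relIndex K = P.relIndex Γ := by
    have h1 : Nat.card J * K.relIndex P * P.relIndex Γ = Nat.card J * K.relIndex P * J.relIndex K :=
      calc _ = Nat.card P * P.relIndex Γ := by rw [a3]
        _ = Nat.card K * K.relIndex P := a1.trans a2.symm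
        _ = _ := by rw [← a4]; ring
    exact (Nat.eq_of_mul_eq_mul_left
      (Nat.mul_pos Nat.card_pos (Nat.pos_of_ne_zero relIndex_ne_zero')) h1).symm
  have hp' : ¬ p ∣ J.relIndex K := by
    rw [e3]
    intro hd
    refine hsyl ((hd.trans (Subgroup.relIndex_dvd_of_le_left Γ (le_sup_right : S ≤ P))).trans ?_)
    exact Dvd.intro _ (Subgroup.relIndex_mul_relIndex S Γ H
      (le_sup_right.trans le_sup_right) (sup_le hKH hPH))
  obtain ⟨j, -, hj⟩ := (Nat.dvd_prime_pow (Fact.out : p.Prime)).1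
    ((Subgroup.relIndex_dvd_of_le_left K (le_inf hLK le_sup_left : L ≤ J)).trans hm)
  rcases Nat.eq_zero_or_pos j with rfl | hj0
  · exact (Subgroup.relIndex_eq_one.1 (by rw [hj, pow_zero])).trans inf_le_right
  · exact absurd (hj ▸ dvd_pow_self p hj0.ne') hp'

/-- Invariance under `S` is invariance under `L ⊔ S`, and moves along with the normaliser. -/
theorem le_fixer_of_conj {L C S : Subgroup G} (hLC : L ≤ C) {n : G}
    (hn : n ∈ Subgroup.normalizer ((L ⊔ S : Subgroup G) : Set G)) {φ φ' : IrrCharacter C}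
    (hφ : S ≤ fixer φ) (h : Conj C n φ φ') : S ≤ fixer φ' := by
  intro s hs
  have h1 : n⁻¹ * s * n ∈ L ⊔ S := by
    have := (Subgroup.mem_normalizer_iff.1 (inv_mem hn) s).1 (Subgroup.mem_sup_right hs)
    simpa using this
  have := h.fixer_map.2 ((sup_le (hLC.trans (le_fixer_self φ)) hφ) h1)
  simpa [mul_assoc] using this

/-- The relative McKay count for `p`-solvable groups. -/
theorem relative_count (hG : Cfsg.IsPSolvable p G) (n : ℕ) :
    ∀ (L H S : Subgroup G), L.relIndex H = n → ∀ (hLH : L ≤ H),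
      H ≤ Subgroup.normalizer (L : Set G) → IsPGroup p S → S ≤ H → ¬ p ∣ S.relIndex H →
      ∀ ν : IrrCharacter L, S ≤ fixer ν →
      ∀ hLN : L ≤ H ⊓ Subgroup.normalizer ((L ⊔ S : Subgroup G) : Set G),
        count hLH ν (fun d => ¬ p ∣ d) = count hLN ν (fun d => ¬ p ∣ d) := by
  induction n using Nat.strong_induction_on with
  | _ n ih =>
  intro L H S hn hLH hHL hS hSH hsyl ν hν hLN
  subst hn
  set N : Subgroup G := H ⊓ Subgroup.normalizer ((L ⊔ S : Subgroup G) : Set G)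
  have hSN : S ≤ N := le_inf hSH (le_sup_right.trans Subgroup.le_normalizer)
  have hNH : N ≤ H := inf_le_left
  have hN'S : H ⊓ Subgroup.normalizer (S : Set G) ≤ N := fun x hx => Subgroup.mem_inf.2
    ⟨(Subgroup.mem_inf.1 hx).1,
      conj_mem_sup (hHL (Subgroup.mem_inf.1 hx).1) (Subgroup.mem_inf.1 hx).2⟩
  -- the stabiliser of `ν`
  by_cases hfix : H ≤ fixer ν
  swap
  · let T : Subgroup G := H ⊓ fixer ν
    have hLT : L ≤ T := le_inf hLH (le_fixer_self ν)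
    have hST : S ≤ T := le_inf hSH hν
    have hlt : T < H := lt_of_le_of_ne inf_le_left fun e => hfix (e ▸ inf_le_right)
    have hLTN : L ≤ T ⊓ Subgroup.normalizer ((L ⊔ S : Subgroup G) : Set G) :=
      le_inf hLT (hLN.trans inf_le_right)
    have hidx : ∀ {X : Subgroup G}, S ≤ X → ¬ p ∣ S.relIndex X → ∀ d,
        (¬ p ∣ (fixer ν).relIndex X * d ↔ ¬ p ∣ d) := by
      intro X hSX hi d
      have h1 : ¬ p ∣ (fixer ν).relIndex X :=
        fun hd => hi (hd.trans (Subgroup.relIndex_dvd_of_le_left X hν))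
      exact not_congr ⟨fun h => ((Fact.out : p.Prime).dvd_mul.1 h).resolve_left h1,
        fun h => Dvd.dvd.mul_left h _⟩
    have hsylN : ¬ p ∣ S.relIndex N := fun hd => hsyl (hd.trans
      (Dvd.intro _ (Subgroup.relIndex_mul_relIndex S N H hSN hNH)))
    rw [count_stabilizer hHL hLH, count_stabilizer (hNH.trans hHL) hLN,
      count_congr_pred _ ν (hidx hSH hsyl), count_congr_pred _ ν (hidx hSN hsylN)]
    rw [ih _ (relIndex_lt' hLT hlt) L T S rfl hLT (inf_le_left.trans hHL) hS hST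
      (fun hd => hsyl (hd.trans (Dvd.intro _ (Subgroup.relIndex_mul_relIndex S T H hST inf_le_left))))
      ν hν hLTN]
    exact count_congr_sub (inf_right_comm H (fixer ν) _) _ _ ν _
  by_cases hHle : H ≤ L
  · refine count_congr_sub (le_antisymm (le_inf le_rfl fun x hx => ?_) inf_le_left) _ _ ν _
    exact Subgroup.le_normalizer (Subgroup.mem_sup_left (hHle hx))
  obtain ⟨K, hLK, hKH, hHK, hsect⟩ := exists_section hG hLH hHL hHle
  set H' : Subgroup G := H ⊓ Subgroup.normalizer ((K ⊔ S : Subgroup G) : Set G)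
  have hKH' : K ≤ H' := le_inf hKH (le_sup_left.trans Subgroup.le_normalizer)
  have hSH' : S ≤ H' := le_inf hSH (le_sup_right.trans Subgroup.le_normalizer)
  have hH'H : H' ≤ H := inf_le_left
  have hN'H' : H ⊓ Subgroup.normalizer (S : Set G) ≤ H' := fun x hx => Subgroup.mem_inf.2
    ⟨(Subgroup.mem_inf.1 hx).1,
      conj_mem_sup (hHK (Subgroup.mem_inf.1 hx).1) (Subgroup.mem_inf.1 hx).2⟩
  have step : count hLH ν (fun d => ¬ p ∣ d) =
      count (hLK.le.trans hKH') ν (fun d => ¬ p ∣ d) := by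
    refine count_eq_of_constituents hLK.le hLK.le hKH hKH' hHK (hH'H.trans hHK) hS hSH' hH'H hsyl
      hN'H' hfix (Equiv.refl _) (fun _ _ _ _ => Iff.rfl) fun θ => ?_
    exact ih _ (relIndex_lt hLK hKH) K H S rfl hKH hHK hS hSH hsyl θ.1 θ.2.1 hKH'
  rw [step]
  by_cases hlt : H' < H
  · have hsyl' : ¬ p ∣ S.relIndex H' := fun hd => hsyl (hd.trans
      (Dvd.intro _ (Subgroup.relIndex_mul_relIndex S H' H hSH' hH'H)))
    have hLH'N : L ≤ H' ⊓ Subgroup.normalizer ((L ⊔ S : Subgroup G) : Set G) :=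
      le_inf (hLK.le.trans hKH') (hLN.trans inf_le_right)
    rw [ih _ (relIndex_lt' (hLK.le.trans hKH') hlt) L H' S rfl _ (hH'H.trans hHL) hS hSH' hsyl' ν hν
      hLH'N]
    refine count_congr_sub (le_antisymm ?_ (le_inf ?_ inf_le_right)) _ _ ν _
    · exact le_inf (inf_le_left.trans hH'H) inf_le_right
    · refine fun x hx => Subgroup.mem_inf.2 ⟨hNH hx, ?_⟩
      have e : K ⊔ S = K ⊔ (L ⊔ S) := by rw [← sup_assoc, sup_eq_left.2 hLK.le]
      rw [e]
      exact conj_mem_sup (hHK (hNH hx)) (Subgroup.mem_inf.1 hx).2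
  have hH' : H' = H := (eq_or_lt_of_le hH'H).resolve_right hlt
  rw [count_congr_sub hH' _ hLH]
  rcases hsect with ⟨m, hm⟩ | hidx
  · -- `K` lies in `L ⊔ S`
    have hKP : K ⊔ S = L ⊔ S :=
      le_antisymm (sup_le (le_sup_of_pow hS hSH hsyl hLK.le hKH hHK hm) le_sup_right)
        (sup_le_sup_right hLK.le S)
    refine count_congr_sub ?_ _ _ ν _
    show H = H ⊓ Subgroup.normalizer ((L ⊔ S : Subgroup G) : Set G)
    rw [← hKP]
    exact hH'.symm
  -- Frattini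
  have hMn : H ≤ Subgroup.normalizer ((K ⊔ S : Subgroup G) : Set G) := hH' ▸ inf_le_right
  have hdec : ∀ x ∈ H, ∃ k ∈ K, ∃ n ∈ N, x = k * n := by
    intro x hx
    have hMH : K ⊔ S ≤ H := sup_le hKH hSH
    let S' : Subgroup G := S.map (MulAut.conj x).toMonoidHom
    have hS'M : S' ≤ K ⊔ S := by
      rintro _ ⟨s, hs, rfl⟩
      exact (Subgroup.mem_normalizer_iff.1 (hMn hx) s).1 (Subgroup.mem_sup_right hs)
    have hi1 : ¬ p ∣ S.relIndex (K ⊔ S) := fun hd => hsyl (hd.trans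
      (Dvd.intro _ (Subgroup.relIndex_mul_relIndex S (K ⊔ S) H le_sup_right hMH)))
    have hi2 : ¬ p ∣ S'.relIndex (K ⊔ S) := by
      have e : S'.relIndex (K ⊔ S) = S.relIndex (K ⊔ S) := by
        have e1 := Subgroup.relIndex_mul_relIndex ⊥ S' (K ⊔ S) bot_le hS'M
        have e2 := Subgroup.relIndex_mul_relIndex ⊥ S (K ⊔ S) bot_le le_sup_right
        rw [Subgroup.relIndex_bot_left, Subgroup.relIndex_bot_left, card_conj] at e1
        rw [Subgroup.relIndex_bot_left, Subgroup.relIndex_bot_left] at e2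
        exact Nat.eq_of_mul_eq_mul_left Nat.card_pos (e1.trans e2.symm)
      rwa [e]
    obtain ⟨t, ht, hty⟩ := exists_conj_sylow hS (hS.map _) le_sup_right hS'M hi1 hi2
    obtain ⟨k, hk, s, hs, rfl⟩ := exists_mul_of_mem_sup' (hSH.trans hHK) ht
    refine ⟨k, hk, s * ((k * s)⁻¹ * x), mul_mem (hSN hs) (hN'S (Subgroup.mem_inf.2
      ⟨mul_mem (inv_mem (hMH ht)) hx, mem_normalizer_of_iff fun y => ?_⟩)), by group⟩
    rw [hty ((k * s)⁻¹ * x * y * ((k * s)⁻¹ * x)⁻¹),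
      show k * s * ((k * s)⁻¹ * x * y * ((k * s)⁻¹ * x)⁻¹) * (k * s)⁻¹ = x * y * x⁻¹ by group]
    exact (Subgroup.mem_map_iff_mem (f := (MulAut.conj x).toMonoidHom)
      (MulAut.conj x).injective).symm
  let D : Setup p G :=
    ⟨H, L, K, S, hS, hSH, hsyl, hHL, hHK, hLK.le, hKH, hidx, hdec⟩
  set C : Subgroup G := D.C
  have hfixed : IsFixedMod S K L C := D.fixedMod
  have hCK : C ≤ K := D.C_le_K
  have hLC : L ≤ C := le_inf hLK.le hLN
  have hnSK : Normalises S K := normalises_of_le_normalizer (hSH.trans hHK)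
  have hnSL : Normalises S L := normalises_of_le_normalizer (hSH.trans hHL)
  have hLn : ∀ k ∈ K, ∀ l ∈ L, k * l * k⁻¹ ∈ L := fun k hk l hl =>
    (Subgroup.mem_normalizer_iff.1 (hHL (hKH hk)) l).1 hl
  obtain ⟨f, hf⟩ := (hasCorr_iff hfixed.le).1
    (relative_glauberman S K L C hS hnSK hnSL hLK.le hLn hidx hfixed)
  have hSC : S ≤ Subgroup.normalizer (C : Set G) := hSN.trans D.N_le_normalizer_C
  have hνtrans : ∀ {θ : IrrCharacter K} {φ : IrrCharacter C}, multNat hCK θ φ ≠ 0 →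
      (multNat hLK.le θ ν ≠ 0 ↔ multNat hLC φ ν ≠ 0) := by
    intro θ φ h
    constructor
    · intro h1
      obtain ⟨ν', hν'⟩ := exists_constituent_of hLC φ
      exact (eq_of_fixed hLK.le (hKH.trans hfix) h1 (multNat_trans_ne_zero hLC hCK h hν')) ▸ hν'
    · exact fun h1 => multNat_trans_ne_zero hLC hCK h h1
  have hfm : ∀ θ : Inv S K, (multNat hCK θ.1 (f θ).1 : ZMod p) ≠ 0 := fun θ => by
    rcases (hf θ (f θ)).1 rfl with e | e <;> rw [e] <;> simp
  have hfm0 : ∀ θ : Inv S K, multNat hCK θ.1 (f θ).1 ≠ 0 := fun θ h =>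
    hfm θ (by rw [h, Nat.cast_zero])
  let eK : {θ : IrrCharacter K // S ≤ fixer θ} ≃ Inv S K :=
    Equiv.subtypeEquivRight (le_fixer_iff (hSH.trans hHK))
  let eC : {φ : IrrCharacter C // S ≤ fixer φ} ≃ Inv S C :=
    Equiv.subtypeEquivRight (le_fixer_iff hSC)
  let e : {θ : IrrCharacter K // S ≤ fixer θ ∧ multNat hLK.le θ ν ≠ 0} ≃
      {φ : IrrCharacter C // S ≤ fixer φ ∧ multNat hLC φ ν ≠ 0} :=
    ((Equiv.subtypeSubtypeEquivSubtypeInter (fun θ : IrrCharacter K => S ≤ fixer θ)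
        (fun θ => multNat hLK.le θ ν ≠ 0)).symm.trans
      (((eK.trans f).trans eC.symm).subtypeEquiv
        (q := fun φ : {φ : IrrCharacter C // S ≤ fixer φ} => multNat hLC φ.1 ν ≠ 0)
        fun θ => hνtrans (hfm0 (eK θ)))).trans
      (Equiv.subtypeSubtypeEquivSubtypeInter (fun φ : IrrCharacter C => S ≤ fixer φ)
        (fun φ => multNat hLC φ ν ≠ 0))
  have hmult : ∀ θ, (multNat hCK θ.1 (e θ).1 : ZMod p) ≠ 0 := fun θ => hfm (eK ⟨θ.1, θ.2.1⟩)
  have hunique : ∀ θ (φ : IrrCharacter C), S ≤ fixer φ →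
      (multNat hCK θ (φ) : ZMod p) ≠ 0 → ∀ hθ : S ≤ fixer θ,
        (f (eK ⟨θ, hθ⟩)).1 = φ := by
    intro θ φ hφ hne hθ
    by_contra hh
    exact hne ((hf (eK ⟨θ, hθ⟩) (eC ⟨φ, hφ⟩)).2 fun e' =>
      hh (congrArg Subtype.val e').symm)
  have hequiv : ∀ n ∈ N, ∀ θ₁ θ₂,
      Conj C n (e θ₁).1 (e θ₂).1 ↔ Conj K n θ₁.1 θ₂.1 := by
    intro n hn θ₁ θ₂
    have hnK := hHK (hNH hn)
    have hnP : n ∈ Subgroup.normalizer ((L ⊔ S : Subgroup G) : Set G) := (Subgroup.mem_inf.1 hn).2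
    obtain ⟨θ₃, h3⟩ := exists_conj hnK θ₁.1
    obtain ⟨φ₃, g3⟩ := exists_conj (D.N_le_normalizer_C hn) (e θ₁).1
    have hθ₃ : S ≤ fixer θ₃ := le_fixer_of_conj hLK.le hnP θ₁.2.1 h3
    have hφ₃ : S ≤ fixer φ₃ := le_fixer_of_conj hLC hnP (e θ₁).2.1 g3
    have hm3 : (multNat hCK θ₃ φ₃ : ZMod p) ≠ 0 := by
      rw [multNat_conj hCK h3 g3]; exact hmult θ₁
    have e3 := hunique θ₃ φ₃ hφ₃ hm3 hθ₃
    constructor
    · intro h
      have : φ₃ = (e θ₂).1 := g3.unique h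
      have h4 : eK ⟨θ₃, hθ₃⟩ = eK ⟨θ₂.1, θ₂.2.1⟩ :=
        f.injective (Subtype.ext (e3.trans this))
      rw [show θ₂.1 = θ₃ from (congrArg Subtype.val h4).symm]
      exact h3
    · intro h
      obtain rfl : θ₃ = θ₂.1 := h3.unique h
      rw [show (e θ₂).1 = φ₃ from e3]
      exact g3
  refine count_eq_of_constituents hLK.le hLC hKH D.C_le_N hHK D.N_le_normalizer_C hS hSN hNH hsyl
    hN'S hfix e (fun n hn θ₁ θ₂ => hequiv n (hN'S hn) θ₁ θ₂) fun θ => ?_
  set φ := (e θ).1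
  have hφS : S ≤ fixer φ := (e θ).2.1
  have hdeg : (deg θ.1 : ZMod p) = (multNat hCK θ.1 φ : ZMod p) * (deg φ : ZMod p) :=
    degree_congr hS hnSK (normalises_of_le_normalizer hSC) hCK (eK ⟨θ.1, θ.2.1⟩)
      (f (eK ⟨θ.1, θ.2.1⟩)) (fun η hη => (hf _ η).2 hη) (deg θ.1) deg (deg_spec θ.1) deg_spec
  have hd : ¬ p ∣ deg θ.1 ↔ ¬ p ∣ deg φ := by
    rw [← ZMod.natCast_eq_zero_iff, ← ZMod.natCast_eq_zero_iff, hdeg, mul_eq_zero,
      or_iff_right (hmult θ)]
  have hfixeq : ∀ n ∈ N, n ∈ fixer φ ↔ n ∈ fixer θ.1 := fun n hn => hequiv n hn θ θ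
  rw [count_stabilizer hHK hKH θ.1, count_stabilizer D.N_le_normalizer_C D.C_le_N φ]
  have hidx1 : ¬ p ∣ (fixer θ.1).relIndex H :=
    fun hd => hsyl (hd.trans (Subgroup.relIndex_dvd_of_le_left H θ.2.1))
  have hidx2 : ¬ p ∣ (fixer φ).relIndex N := fun hd => hsyl
    ((hd.trans (Subgroup.relIndex_dvd_of_le_left N hφS)).trans
      (Dvd.intro _ (Subgroup.relIndex_mul_relIndex S N H hSN hNH)))
  have hpred : ∀ {a : ℕ}, ¬ p ∣ a → ∀ d, (¬ p ∣ a * d ↔ ¬ p ∣ d) := fun {a} ha d =>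
    not_congr ⟨fun h => ((Fact.out : p.Prime).dvd_mul.1 h).resolve_left ha,
      fun h => Dvd.dvd.mul_left h _⟩
  rw [count_congr_pred _ θ.1 (hpred hidx1), count_congr_pred _ φ (hpred hidx2)]
  set T : Subgroup G := H ⊓ fixer θ.1
  have hdecT : ∀ x ∈ T, ∃ k ∈ K,
      ∃ m ∈ T ⊓ Subgroup.normalizer ((L ⊔ S : Subgroup G) : Set G), x = k * m := by
    intro x hx
    obtain ⟨k, hk, m, hm, rfl⟩ := hdec x (Subgroup.mem_inf.1 hx).1
    refine ⟨k, hk, m, Subgroup.mem_inf.2 ⟨Subgroup.mem_inf.2 ⟨hNH hm, ?_⟩,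
      (Subgroup.mem_inf.1 hm).2⟩, rfl⟩
    simpa using mul_mem (inv_mem (le_fixer_self θ.1 hk)) (Subgroup.mem_inf.1 hx).2
  let DT : Setup p G :=
    ⟨T, L, K, S, hS, le_inf hSH θ.2.1,
      fun hd => hsyl (hd.trans (Dvd.intro _
        (Subgroup.relIndex_mul_relIndex S T H (le_inf hSH θ.2.1) inf_le_left))),
      inf_le_left.trans hHL, inf_le_left.trans hHK, hLK.le, le_inf hKH (le_fixer_self θ.1), hidx,
      hdecT⟩
  have hNT : N ⊓ fixer φ = DT.N := by
    show N ⊓ fixer φ = (H ⊓ fixer θ.1) ⊓ Subgroup.normalizer ((L ⊔ S : Subgroup G) : Set G)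
    ext x
    constructor
    · intro hx
      obtain ⟨h1, h2⟩ := Subgroup.mem_inf.1 hx
      exact Subgroup.mem_inf.2 ⟨Subgroup.mem_inf.2 ⟨hNH h1, (hfixeq x h1).1 h2⟩,
        (Subgroup.mem_inf.1 h1).2⟩
    · intro hx
      obtain ⟨h12, h3⟩ := Subgroup.mem_inf.1 hx
      have h1 : x ∈ N := Subgroup.mem_inf.2 ⟨(Subgroup.mem_inf.1 h12).1, h3⟩
      exact Subgroup.mem_inf.2 ⟨h1, (hfixeq x h1).2 (Subgroup.mem_inf.1 h12).2⟩
  have hCT : C = DT.C := by
    show K ⊓ N = K ⊓ DT.N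
    rw [← hNT]
    refine le_antisymm (fun x hx => ?_) (inf_le_inf_left K inf_le_left)
    exact Subgroup.mem_inf.2 ⟨(Subgroup.mem_inf.1 hx).1,
      Subgroup.mem_inf.2 ⟨(Subgroup.mem_inf.1 hx).2, le_fixer_self φ hx⟩⟩
  exact count_over_eq' DT hNT hCT hCK (le_inf D.C_le_N (le_fixer_self φ)) θ.1 φ inf_le_right
    inf_le_right (hmult θ) hd

end CfsgLib.RelMcKay
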