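import Cfsg.Agent.RelMcKay.Basic
import Cfsg.Agent.Characters.Induction
import Cfsg.Agent.CharactersDeep.Extension

/-!
# The commutator pairing of an invariant irreducible character

For `θ` an irreducible character of `K` fixed by `g` and `h`, with `g h g⁻¹ h⁻¹ ∈ K`, the number
`omega θ g h` is the scalar by which lifts of `g` and `h` to the module of `θ` fail to commute,
written as an average of `θ` over commutators in the two cosets.
-/

set_option autoImplicit false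
set_option linter.unusedSectionVars false
set_option linter.style.haveILetI false

namespace CfsgLib.RelMcKay

open Cfsg CfsgLib.Characters CfsgLib.RelGlauberman
open scoped ComplexConjugate Classical

variable {G : Type*} [Group G] [Finite G]

noncomputable local instance instFintypeSub1 (H : Subgroup G) : Fintype H := Fintype.ofFinite H

variable {K : Subgroup G}

/-- The commutator pairing. -/
noncomputable def omega (θ : IrrCharacter K) (g h : G) : ℂ :=
  (deg θ : ℂ) / (Nat.card K : ℂ) ^ 2 * ∑ a : K, ∑ b : K,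
    Cfsg.extendByZero K (θ : K → ℂ) (g * a * (h * b) * (g * a)⁻¹ * (h * b)⁻¹)

/-- A representation affording `θ`. -/
structure Model (θ : IrrCharacter K) where
  /-- the dimension -/
  d : ℕ
  /-- the representation -/
  rep : Representation ℂ K (Fin d → ℂ)
  irr : rep.IsIrreducible
  char : rep.character = (θ : K → ℂ)

theorem nonempty_model (θ : IrrCharacter K) : Nonempty (Model θ) := by
  obtain ⟨d, R, hR, e⟩ := θ.2
  exact ⟨⟨d, R, hR, e⟩⟩

namespace Model

variable {θ : IrrCharacter K} (R : Model θ)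

theorem d_eq : R.d = deg θ := by
  apply Nat.cast_injective (R := ℂ)
  rw [← deg_spec, ← R.char, Representation.char_one, Module.finrank_fin_fun]

theorem d_ne_zero : (R.d : ℂ) ≠ 0 := by
  rw [R.d_eq]; exact_mod_cast (deg_pos θ).ne'

/-- `T` is the lift of `g`. -/
def Lifts (g : G) (T : (Module.End ℂ (Fin R.d → ℂ))ˣ) : Prop :=
  ∀ k k' : K, (k' : G) = g * (k : G) * g⁻¹ →
    (T : Module.End ℂ (Fin R.d → ℂ)) * R.rep k = R.rep k' * T

theorem exists_lifts {g : G} (hg : g ∈ fixer θ) : ∃ T, R.Lifts g T := by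
  have hn : ∀ k ∈ K, g * k * g⁻¹ ∈ K := fun k hk =>
    (Subgroup.mem_normalizer_iff.1 (hg : Conj K g θ θ).1 k).1 hk
  let f : K →* K :=
    { toFun := fun k => ⟨g * k * g⁻¹, hn k k.2⟩
      map_one' := Subtype.ext (by simp)
      map_mul' := fun a b => Subtype.ext (by simp [mul_assoc]) }
  obtain ⟨e⟩ := equiv_of_char_eq R.rep (R.rep.comp f) (funext fun k => by
    show R.rep.character k = R.rep.character (f k)
    rw [R.char, (hg : Conj K g θ θ).2 k (f k) rfl])
  have hu : IsUnit (e.toLinearEquiv.toLinearMap : Module.End ℂ (Fin R.d → ℂ)) := by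
    rw [LinearMap.isUnit_iff_isUnit_det]; exact LinearEquiv.isUnit_det' _
  refine ⟨hu.unit, fun k k' hk => LinearMap.ext fun x => ?_⟩
  rw [show k' = f k from Subtype.ext hk, IsUnit.unit_spec]
  exact equiv_map e k x

theorem lifts_self (k : K) : R.Lifts (k : G) (R.rep.toHomUnits k) := by
  intro a a' ha
  rw [MonoidHom.coe_toHomUnits, ← map_mul, ← map_mul]
  congr 1
  exact Subtype.ext (by simp [ha, mul_assoc])

theorem Lifts.mul {g h : G} {T U : (Module.End ℂ (Fin R.d → ℂ))ˣ} (hn : ∀ k ∈ K, h * k * h⁻¹ ∈ K)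
    (hT : R.Lifts g T) (hU : R.Lifts h U) : R.Lifts (g * h) (T * U) := by
  intro k k'' hk
  let k' : K := ⟨h * k * h⁻¹, hn k k.2⟩
  rw [Units.val_mul, mul_assoc, hU k k' rfl, ← mul_assoc, hT k' k'' (by rw [hk]; simp [k', mul_assoc]),
    mul_assoc]

theorem Lifts.conj_rep {g : G} {T : (Module.End ℂ (Fin R.d → ℂ))ˣ} (hT : R.Lifts g T) (k k' : K)
    (hk : (k' : G) = g * k * g⁻¹) :
    (T : Module.End ℂ (Fin R.d → ℂ)) * R.rep k * (↑T⁻¹ : Module.End ℂ (Fin R.d → ℂ)) = R.rep k' := by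
  rw [hT k k' hk, mul_assoc, Units.mul_inv, mul_one]

/-- Schur: the average of the conjugates of an operator. -/
theorem sum_conj (X : Module.End ℂ (Fin R.d → ℂ)) :
    ∑ a : K, R.rep a * X * R.rep a⁻¹ =
      ((Nat.card K : ℂ) * LinearMap.trace ℂ _ X / R.d) • (1 : Module.End ℂ (Fin R.d → ℂ)) := by
  haveI := R.irr
  obtain ⟨c, hc⟩ := schur_scalar R.rep (∑ a : K, R.rep a * X * R.rep a⁻¹) fun h v => by
    simp only [LinearMap.sum_apply, map_sum, Module.End.mul_apply]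
    refine Fintype.sum_bijective (h⁻¹ * ·) (Group.mulLeft_bijective h⁻¹) _ _ fun a => ?_
    simp only [← Module.End.mul_apply, ← map_mul, ← mul_assoc]
    rw [mul_inv_cancel, one_mul]
    simp
  have ht := congrArg (LinearMap.trace ℂ (Fin R.d → ℂ)) hc
  rw [map_sum, map_smul, LinearMap.trace_id, Module.finrank_fin_fun, smul_eq_mul,
    Finset.sum_congr rfl (g := fun _ => LinearMap.trace ℂ _ X) (fun a _ => by
      rw [LinearMap.trace_mul_comm, ← mul_assoc, ← map_mul, inv_mul_cancel, map_one, one_mul]),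
    Finset.sum_const, Finset.card_univ, nsmul_eq_mul, ← Nat.card_eq_fintype_card] at ht
  rw [hc, ht, mul_div_assoc, div_self R.d_ne_zero, mul_one]
  rfl

/-- The trace in coordinates. -/
theorem trace_eq_sum (X : Module.End ℂ (Fin R.d → ℂ)) :
    LinearMap.trace ℂ _ X = ∑ i, X (Pi.single i 1) i := by
  rw [LinearMap.trace_eq_matrix_trace ℂ (Pi.basisFun ℂ (Fin R.d))]
  simp [Matrix.trace, LinearMap.toMatrix_apply]

/-- Orthogonality of matrix coefficients, in trace form. -/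
theorem sum_trace_mul (A B : Module.End ℂ (Fin R.d → ℂ)) :
    ∑ b : K, LinearMap.trace ℂ _ (A * R.rep b) * LinearMap.trace ℂ _ (R.rep b⁻¹ * B) =
      (Nat.card K : ℂ) / R.d * LinearMap.trace ℂ _ (A * B) := by
  let X : Fin R.d → Fin R.d → Module.End ℂ (Fin R.d → ℂ) := fun i j =>
    (LinearMap.proj j : (Fin R.d → ℂ) →ₗ[ℂ] ℂ).smulRight (Pi.single i 1)
  have hX : ∀ i j w, X i j w = w j • (Pi.single i 1 : Fin R.d → ℂ) := fun i j w => rfl
  have htr : ∀ i j, LinearMap.trace ℂ _ (X i j) = if i = j then 1 else 0 := by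
    intro i j
    rw [R.trace_eq_sum]
    simp only [hX, Pi.smul_apply, smul_eq_mul, Pi.single_apply, mul_ite, mul_one, mul_zero]
    rw [Finset.sum_ite_eq' Finset.univ i]
    simp [eq_comm]
  have h1 : ∀ (b : K) i j, (A * (R.rep b * X i j * R.rep b⁻¹) * B) (Pi.single j 1) i =
      (A * R.rep b) (Pi.single i 1) i * (R.rep b⁻¹ * B) (Pi.single j 1) j := by
    intro b i j
    simp only [Module.End.mul_apply, hX, map_smul, Pi.smul_apply, smul_eq_mul, mul_comm]
  calc _ = ∑ b : K, ∑ i, ∑ j, (A * (R.rep b * X i j * R.rep b⁻¹) * B) (Pi.single j 1) i :=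
        Finset.sum_congr rfl fun b _ => by
          simp only [h1, R.trace_eq_sum]
          rw [Finset.sum_mul_sum]
    _ = ∑ i, ∑ j, (A * (∑ b : K, R.rep b * X i j * R.rep b⁻¹) * B) (Pi.single j 1) i := by
        rw [Finset.sum_comm]
        refine Finset.sum_congr rfl fun i _ => ?_
        rw [Finset.sum_comm]
        refine Finset.sum_congr rfl fun j _ => ?_
        simp only [Finset.mul_sum, Finset.sum_mul, LinearMap.sum_apply, Finset.sum_apply]
    _ = _ := by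
        rw [R.trace_eq_sum (A * B), Finset.mul_sum]
        refine Finset.sum_congr rfl fun i _ => ?_
        rw [Finset.sum_eq_single i]
        · simp [R.sum_conj, htr]
        · intro j _ hj
          simp [R.sum_conj, htr, Ne.symm hj]
        · simp

/-- The scalar commutator of two lifts. -/
theorem exists_scalar {g h : G} {T U : (Module.End ℂ (Fin R.d → ℂ))ˣ} (hT : R.Lifts g T)
    (hU : R.Lifts h U) (hg : g ∈ fixer θ) (hh : h ∈ fixer θ) (z : K)
    (hz : (z : G) = g * h * g⁻¹ * h⁻¹) :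
    ∃ ω : ℂ, ω ≠ 0 ∧ (T : Module.End ℂ (Fin R.d → ℂ)) * U * ↑T⁻¹ * ↑U⁻¹ = ω • R.rep z := by
  haveI := R.irr
  haveI := nontrivial_of_isIrreducible R.rep
  have hn : ∀ {x : G}, x ∈ fixer θ → ∀ k ∈ K, x * k * x⁻¹ ∈ K := fun {x} hx k hk =>
    (Subgroup.mem_normalizer_iff.1 (hx : Conj K x θ θ).1 k).1 hk
  have key : ∀ k k' : K, (k' : G) = (z : G) * k * (z : G)⁻¹ →
      ((T * U * T⁻¹ * U⁻¹ : (Module.End ℂ (Fin R.d → ℂ))ˣ) : Module.End ℂ (Fin R.d → ℂ)) * R.rep k =
        R.rep k' * (T * U * T⁻¹ * U⁻¹ : (Module.End ℂ (Fin R.d → ℂ))ˣ) := by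
    have inv : ∀ {x : G} {V : (Module.End ℂ (Fin R.d → ℂ))ˣ}, x ∈ fixer θ → R.Lifts x V →
        R.Lifts x⁻¹ V⁻¹ := by
      intro x V hx hV k k' hk
      rw [Units.inv_mul_eq_iff_eq_mul, ← mul_assoc, Units.eq_mul_inv_iff_mul_eq,
        hV k' k (by rw [hk]; group)]
    rw [hz]
    exact Lifts.mul R (hn (inv_mem hh)) (Lifts.mul R (hn (inv_mem hg))
      (Lifts.mul R (hn hh) hT hU) (inv hg hT)) (inv hh hU)
  obtain ⟨c, hc⟩ := schur_scalar R.rep
    (R.rep z⁻¹ * ((T * U * T⁻¹ * U⁻¹ : (Module.End ℂ (Fin R.d → ℂ))ˣ) : Module.End ℂ (Fin R.d → ℂ)))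
    fun k v => by
      simp only [← Module.End.mul_apply]
      refine LinearMap.congr_fun ?_ v
      rw [mul_assoc, key k (z * k * z⁻¹) rfl, ← mul_assoc, ← map_mul, ← mul_assoc (R.rep k),
        ← map_mul]
      congr 2
      group
  have he := congrArg (R.rep z * ·) hc
  simp only [← mul_assoc, ← map_mul, mul_inv_cancel, map_one, one_mul] at he
  have he2 : (T : Module.End ℂ (Fin R.d → ℂ)) * U * ↑T⁻¹ * ↑U⁻¹ = c • R.rep z := by
    rw [← Units.val_mul, ← Units.val_mul, ← Units.val_mul, he]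
    exact LinearMap.ext fun v => by simp
  refine ⟨c, fun h0 => ?_, he2⟩
  rw [h0, zero_smul, ← Units.val_mul, ← Units.val_mul, ← Units.val_mul] at he2
  exact not_isUnit_zero (he2 ▸ Units.isUnit _)

/-- The pairing is the inverse of the scalar. -/
theorem omega_eq {g h : G} {T U : (Module.End ℂ (Fin R.d → ℂ))ˣ} (hT : R.Lifts g T)
    (hU : R.Lifts h U) (hg : g ∈ fixer θ) (hh : h ∈ fixer θ) (z : K)
    (hz : (z : G) = g * h * g⁻¹ * h⁻¹) {ω : ℂ} (hω0 : ω ≠ 0)
    (hω : (T : Module.End ℂ (Fin R.d → ℂ)) * U * ↑T⁻¹ * ↑U⁻¹ = ω • R.rep z) :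
    omega θ g h = ω⁻¹ := by
  set A : Module.End ℂ (Fin R.d → ℂ) := ↑T
  set A' : Module.End ℂ (Fin R.d → ℂ) := ↑T⁻¹
  set B : Module.End ℂ (Fin R.d → ℂ) := ↑U
  set B' : Module.End ℂ (Fin R.d → ℂ) := ↑U⁻¹
  have hn : ∀ {x : G}, x ∈ fixer θ → ∀ k ∈ K, x * k * x⁻¹ ∈ K := fun {x} hx k hk =>
    (Subgroup.mem_normalizer_iff.1 (hx : Conj K x θ θ).1 k).1 hk
  have hz' : R.rep z = ω⁻¹ • (A * B * A' * B') := by rw [hω, smul_smul, inv_mul_cancel₀ hω0, one_smul]
  have hterm : ∀ a b : K,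
      Cfsg.extendByZero K (θ : K → ℂ) (g * a * (h * b) * (g * a)⁻¹ * (h * b)⁻¹) =
        ω⁻¹ * LinearMap.trace ℂ _ (A * R.rep a * (B * R.rep b) * R.rep a⁻¹ * A' * (R.rep b⁻¹ * B')) := by
    intro a b
    let a' : K := ⟨g * a * g⁻¹, hn hg _ a.2⟩
    let u : K := ⟨h * (b * a⁻¹ : K) * h⁻¹, hn hh _ (b * a⁻¹).2⟩
    let u' : K := ⟨g * u * g⁻¹, hn hg _ u.2⟩
    let b' : K := ⟨h * (b⁻¹ : K) * h⁻¹, hn hh _ (b⁻¹).2⟩
    have e : g * a * (h * b) * (g * a)⁻¹ * (h * b)⁻¹ = ((a' * u' * z * b' : K) : G) := by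
      simp only [Subgroup.coe_mul, a', u', u, b', hz, Subgroup.coe_inv]; group
    rw [e, extendByZero_coe, ← R.char, Representation.character]
    simp only [map_mul]
    rw [← Lifts.conj_rep R hT a a' rfl, ← Lifts.conj_rep R hT u u' rfl,
      ← Lifts.conj_rep R hU (b * a⁻¹) u rfl, ← Lifts.conj_rep R hU b⁻¹ b' rfl, hz', map_mul R.rep b]
    simp only [A, A', B, B', smul_mul_assoc, mul_smul_comm, map_smul, smul_eq_mul]
    congr 2
    simp only [← mul_assoc, Units.inv_mul_cancel_right, Units.mul_inv_cancel_right]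
  have hA : A * A' = 1 := Units.mul_inv T
  have hB : B * B' = 1 := Units.mul_inv U
  have hsum : ∑ a : K, ∑ b : K,
      LinearMap.trace ℂ _ (A * R.rep a * (B * R.rep b) * R.rep a⁻¹ * A' * (R.rep b⁻¹ * B')) =
      (Nat.card K : ℂ) / R.d * ((Nat.card K : ℂ) / R.d * R.d) := by
    rw [Finset.sum_comm]
    have step : ∀ b : K, ∑ a : K,
        LinearMap.trace ℂ _ (A * R.rep a * (B * R.rep b) * R.rep a⁻¹ * A' * (R.rep b⁻¹ * B')) =
        (Nat.card K : ℂ) / R.d * (LinearMap.trace ℂ _ (B * R.rep b) *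
          LinearMap.trace ℂ _ (R.rep b⁻¹ * B')) := by
      intro b
      have e : ∀ a : K, A * R.rep a * (B * R.rep b) * R.rep a⁻¹ * A' * (R.rep b⁻¹ * B') =
          A * (R.rep a * (B * R.rep b) * R.rep a⁻¹) * (A' * (R.rep b⁻¹ * B')) := fun a => by
        simp only [mul_assoc]
      simp only [e]
      rw [← map_sum, ← Finset.sum_mul, ← Finset.mul_sum, R.sum_conj, mul_smul_comm, mul_one,
        smul_mul_assoc, ← mul_assoc, hA, one_mul, map_smul, smul_eq_mul]
      ring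
    simp only [step]
    rw [← Finset.mul_sum, R.sum_trace_mul, hB, LinearMap.trace_one, Module.finrank_fin_fun]
  have hd := R.d_ne_zero
  have hK : (Nat.card K : ℂ) ≠ 0 := Nat.cast_ne_zero.2 Nat.card_pos.ne'
  rw [omega]
  simp only [hterm, ← Finset.mul_sum, hsum, ← R.d_eq]
  field_simp

end Model

variable {θ : IrrCharacter K}

/-- The pairing is multiplicative in the first variable. -/
theorem omega_mul_left {g g' h : G} (hg : g ∈ fixer θ) (hg' : g' ∈ fixer θ) (hh : h ∈ fixer θ)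
    (hz : g * h * g⁻¹ * h⁻¹ ∈ K) (hz' : g' * h * g'⁻¹ * h⁻¹ ∈ K) :
    omega θ (g * g') h = omega θ g h * omega θ g' h := by
  obtain ⟨R⟩ := nonempty_model θ
  obtain ⟨T, hT⟩ := R.exists_lifts hg
  obtain ⟨T', hT'⟩ := R.exists_lifts hg'
  obtain ⟨U, hU⟩ := R.exists_lifts hh
  obtain ⟨w, hw0, hw⟩ := R.exists_scalar hT hU hg hh ⟨_, hz⟩ rfl
  obtain ⟨w', hw0', hw'⟩ := R.exists_scalar hT' hU hg' hh ⟨_, hz'⟩ rfl
  have hn : ∀ k ∈ K, g' * k * g'⁻¹ ∈ K := fun k hk =>
    (Subgroup.mem_normalizer_iff.1 (hg' : Conj K g' θ θ).1 k).1 hk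
  let z : K := ⟨_, hz⟩
  let z' : K := ⟨_, hz'⟩
  let z'' : K := ⟨g * z' * g⁻¹, (Subgroup.mem_normalizer_iff.1 (hg : Conj K g θ θ).1 _).1 z'.2⟩
  have he : ((T * T' : (Module.End ℂ (Fin R.d → ℂ))ˣ) : Module.End ℂ (Fin R.d → ℂ)) * U *
      ↑(T * T')⁻¹ * ↑U⁻¹ = (w' * w) • R.rep (z'' * z) := by
    rw [map_mul, ← Model.Lifts.conj_rep R hT z' z'' rfl, ← smul_mul_smul_comm, ← hw,
      ← smul_mul_assoc, ← mul_smul_comm, ← hw']
    simp only [mul_inv_rev, Units.val_mul, ← mul_assoc, Units.inv_mul_cancel_right]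
  rw [R.omega_eq hT hU hg hh z rfl hw0 hw, R.omega_eq hT' hU hg' hh z' rfl hw0' hw',
    R.omega_eq (Model.Lifts.mul R hn hT hT') hU (mul_mem hg hg') hh (z'' * z)
      (by simp [z, z', z'', mul_assoc]) (mul_ne_zero hw0' hw0) he, mul_inv_rev]

/-- The pairing is antisymmetric. -/
theorem omega_mul_swap {g h : G} (hg : g ∈ fixer θ) (hh : h ∈ fixer θ)
    (hz : g * h * g⁻¹ * h⁻¹ ∈ K) : omega θ g h * omega θ h g = 1 := by
  obtain ⟨R⟩ := nonempty_model θ
  obtain ⟨T, hT⟩ := R.exists_lifts hg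
  obtain ⟨U, hU⟩ := R.exists_lifts hh
  obtain ⟨w, hw0, hw⟩ := R.exists_scalar hT hU hg hh ⟨_, hz⟩ rfl
  let z : K := ⟨_, hz⟩
  have h1 : ((U : Module.End ℂ (Fin R.d → ℂ)) * T * ↑U⁻¹ * ↑T⁻¹) *
      (w • R.rep z) = 1 := by
    rw [← hw]
    simp only [← mul_assoc, Units.inv_mul_cancel_right, Units.mul_inv_cancel_right, Units.mul_inv]
  have he : (U : Module.End ℂ (Fin R.d → ℂ)) * T * ↑U⁻¹ * ↑T⁻¹ = w⁻¹ • R.rep z⁻¹ := by
    calc _ = (U : Module.End ℂ (Fin R.d → ℂ)) * T * ↑U⁻¹ * ↑T⁻¹ *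
          ((w • R.rep z) * (w⁻¹ • R.rep z⁻¹)) := by
          rw [smul_mul_smul_comm, mul_inv_cancel₀ hw0, ← map_mul, mul_inv_cancel, map_one, one_smul,
            mul_one]
      _ = _ := by rw [← mul_assoc, h1, one_mul]
  rw [R.omega_eq hT hU hg hh z rfl hw0 hw,
    R.omega_eq hU hT hh hg z⁻¹ (by simp [z, mul_assoc]) (inv_ne_zero hw0) he, inv_inv,
    inv_mul_cancel₀ hw0]

theorem omega_self {g : G} (hg : g ∈ fixer θ) : omega θ g g = 1 := by
  obtain ⟨R⟩ := nonempty_model θ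
  obtain ⟨T, hT⟩ := R.exists_lifts hg
  rw [R.omega_eq hT hT hg hg 1 (by simp) one_ne_zero (by simp), inv_one]

/-- An extension has the same pairing. -/
theorem omega_extends {M : Subgroup G} (hKM : K ≤ M) {ρ : IrrCharacter M}
    (hext : ∀ k : K, (ρ : M → ℂ) (Subgroup.inclusion hKM k) = (θ : K → ℂ) k) {g h : G}
    (hg : g ∈ fixer θ) (hh : h ∈ fixer θ) (hg' : g ∈ fixer ρ) (hh' : h ∈ fixer ρ)
    (hz : g * h * g⁻¹ * h⁻¹ ∈ K) : omega ρ g h = omega θ g h := by
  obtain ⟨P⟩ := nonempty_model ρ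
  have hchar : Representation.character (P.rep.comp (Subgroup.inclusion hKM)) = (θ : K → ℂ) := by
    funext k
    show P.rep.character (Subgroup.inclusion hKM k) = _
    rw [P.char]
    exact hext k
  haveI : Representation.IsIrreducible (P.rep.comp (Subgroup.inclusion hKM)) := by
    rw [isIrreducible_iff_classInner, hchar]
    exact classInner_isIrr_self θ.2
  let R : Model θ := ⟨P.d, P.rep.comp (Subgroup.inclusion hKM), inferInstance, hchar⟩
  obtain ⟨T, hT⟩ := P.exists_lifts hg'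
  obtain ⟨U, hU⟩ := P.exists_lifts hh'
  obtain ⟨w, hw0, hw⟩ := P.exists_scalar hT hU hg' hh' ⟨_, hKM hz⟩ rfl
  rw [P.omega_eq hT hU hg' hh' _ rfl hw0 hw]
  exact (R.omega_eq (T := T) (U := U) (fun k k' hk => hT _ _ hk) (fun k k' hk => hU _ _ hk) hg hh
    ⟨_, hz⟩ rfl hw0 hw).symm

end CfsgLib.RelMcKay
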