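import Cfsg.Agent.RelMcKay.Extensions
import Cfsg.Agent.RelMcKay.Action
import Mathlib.GroupTheory.SchurZassenhaus

/-!
# Orbit counting, invariant extensions, complements
-/

set_option autoImplicit false
set_option linter.unusedSectionVars false
set_option linter.style.haveILetI false

namespace CfsgLib.RelMcKay

open Cfsg CfsgLib.Characters CfsgLib.RelGlauberman
open scoped Classical Pointwise

/-- Two sets fibred over equivalent orbit spaces with equal fibres have the same size. -/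
theorem card_eq_of_fibres {A A' B B' : Type*} [Finite A] [Finite B] [Finite B']
    (E : A → A → Prop) (E' : A' → A' → Prop) (hE : Equivalence E)
    (r : B → A → Prop) (r' : B' → A' → Prop) (h1 : ∀ b, ∃ a, r b a)
    (h2 : ∀ b a, r b a → ∀ a', (r b a' ↔ E a a')) (h1' : ∀ b, ∃ a, r' b a)
    (h2' : ∀ b a, r' b a → ∀ a', (r' b a' ↔ E' a a')) (e : A ≃ A')
    (he : ∀ a a', E' (e a) (e a') ↔ E a a')
    (hc : ∀ a, Nat.card {b // r b a} = Nat.card {b // r' b (e a)}) :
    Nat.card B = Nat.card B' := by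
  let s : Setoid A := ⟨E, hE⟩
  haveI : Finite (Quotient s) := inferInstance
  haveI := Fintype.ofFinite (Quotient s)
  choose a ha using h1
  choose a' ha' using h1'
  let q : B → Quotient s := fun b => Quotient.mk s (a b)
  let q' : B' → Quotient s := fun b => Quotient.mk s (e.symm (a' b))
  rw [← Nat.card_congr (Equiv.sigmaFiberEquiv q), ← Nat.card_congr (Equiv.sigmaFiberEquiv q'),
    Nat.card_sigma, Nat.card_sigma]
  refine Finset.sum_congr rfl fun x _ => ?_
  obtain ⟨c, rfl⟩ := Quotient.mk_surjective x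
  have hq : ∀ b, q b = Quotient.mk s c ↔ r b c := fun b =>
    Quotient.eq.trans (h2 b _ (ha b) c).symm
  have hq' : ∀ b, q' b = Quotient.mk s c ↔ r' b (e c) := fun b => by
    refine Quotient.eq.trans ?_
    show E (e.symm (a' b)) c ↔ _
    rw [← he, e.apply_symm_apply]
    exact (h2' b _ (ha' b) (e c)).symm
  rw [Nat.card_congr (Equiv.subtypeEquivRight hq), Nat.card_congr (Equiv.subtypeEquivRight hq')]
  exact hc c

variable {G : Type*} [Group G] [Finite G]

noncomputable local instance instFintypeSub6 (H : Subgroup G) : Fintype H := Fintype.ofFinite H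

variable {K M N : Subgroup G}

/-- The multiplicity of an invariant constituent divides the index. -/
theorem multNat_dvd_relIndex {H : Subgroup G} (hKH : K ≤ H) {θ : IrrCharacter K}
    (hfix : H ≤ fixer θ) {χ : IrrCharacter H} (h : multNat hKH χ θ ≠ 0) :
    multNat hKH χ θ ∣ K.relIndex H := by
  haveI := subgroupOf_normal (hfix.trans (fixer_le_normalizer θ)) hKH
  haveI : Fintype (K.subgroupOf H) := Fintype.ofFinite _
  refine CfsgLib.CharactersDeep.ExtensionCriteria.ramification_dvd_index (K.subgroupOf H)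
    (pull hKH θ).2 (fun g n => ?_) χ.2 (Nat.pos_of_ne_zero h) (funext fun n => ?_)
  · exact congrFun ((mem_fixer_iff_conjBy (hfix.trans (fixer_le_normalizer θ)) hKH θ g).1 (hfix g.2)) n
  · exact res_eq_of_fixed hKH hfix h (Subgroup.subgroupOfEquivOfLe hKH n)

theorem relIndex_sup_dvd_card {S : Subgroup G} (hS : S ≤ Subgroup.normalizer (K : Set G)) :
    K.relIndex (K ⊔ S) ∣ Nat.card S := by
  let Γ : Subgroup G := K ⊔ S
  haveI := subgroupOf_normal (H := Γ) (sup_le Subgroup.le_normalizer hS) le_sup_left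
  rw [← Subgroup.relIndex_subgroupOf (le_refl Γ),
    show Γ.subgroupOf Γ = K.subgroupOf Γ ⊔ S.subgroupOf Γ from
      Subgroup.subgroupOf_sup le_sup_left le_sup_right,
    Subgroup.relIndex_sup_left, Subgroup.relIndex_subgroupOf le_sup_right]
  exact Subgroup.index_dvd_card _

theorem Triv.conj_eq {hKM : K ≤ M} {l : M →* ℂˣ} (hl : Triv hKM l) {n : G}
    (hK : n ∈ Subgroup.normalizer (K : Set G)) {k k' : M} (hk : (k' : G) = n * k * n⁻¹)
    (h : (k : G) ∈ K) : l k' = 1 := by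
  have : (k' : G) ∈ K := hk ▸ (Subgroup.mem_normalizer_iff.1 hK _).1 h
  exact hl ⟨_, this⟩

/-- Conjugation of twists of an invariant extension. -/
theorem conj_twist_iff {hKM : K ≤ M} {θ : IrrCharacter K} {ρ₀ : IrrCharacter M}
    (hext : Ext hKM θ ρ₀) (hn : M ≤ Subgroup.normalizer (K : Set G)) {n : G} (hρ : n ∈ fixer ρ₀)
    (hK : n ∈ Subgroup.normalizer (K : Set G)) {l l' : M →* ℂˣ} (hl : Triv hKM l)
    (hl' : Triv hKM l') :
    Conj M n (twist ρ₀ l) (twist ρ₀ l') ↔
      ∀ k k' : M, (k' : G) = n * k * n⁻¹ → l' k' = l k := by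
  have hnM : n ∈ Subgroup.normalizer (M : Set G) := (hρ : Conj M n ρ₀ ρ₀).1
  constructor
  · intro h
    let c : M →* M :=
      { toFun := fun k => ⟨n⁻¹ * k * n, by
          simpa using (Subgroup.mem_normalizer_iff.1 (inv_mem hnM) _).1 k.2⟩
        map_one' := Subtype.ext (by simp)
        map_mul' := fun a b => Subtype.ext (by simp [mul_assoc]) }
    have hc : Triv hKM (l.comp c) := fun k => by
      have hk : n⁻¹ * (k : G) * n ∈ K := by
        simpa using (Subgroup.mem_normalizer_iff.1 (inv_mem hK) _).1 k.2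
      exact hl ⟨_, hk⟩
    have h2 : Conj M n (twist ρ₀ l) (twist ρ₀ (l.comp c)) := by
      refine ⟨hnM, fun k k' hk => ?_⟩
      rw [twist_apply, twist_apply, MonoidHom.comp_apply,
        show c k' = k from Subtype.ext (by simp [c, hk, mul_assoc]),
        (hρ : Conj M n ρ₀ ρ₀).2 k k' hk]
    have h3 := hext.twist_injective hn hl' hc (h.unique h2)
    intro k k' hk
    rw [h3, MonoidHom.comp_apply]
    exact congrArg l (Subtype.ext (by simp [c, hk, mul_assoc]))
  · intro h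
    refine ⟨hnM, fun k k' hk => ?_⟩
    rw [twist_apply, twist_apply, h k k' hk, (hρ : Conj M n ρ₀ ρ₀).2 k k' hk]

theorem Triv.pow_relIndex {hKM : K ≤ M} {l : M →* ℂˣ} (hl : Triv hKM l)
    (hn : M ≤ Subgroup.normalizer (K : Set G)) : l ^ K.relIndex M = 1 := by
  haveI := subgroupOf_normal hn hKM
  refine MonoidHom.ext fun k => ?_
  rw [MonoidHom.pow_apply, ← map_pow, MonoidHom.one_apply]
  exact hl ⟨((k ^ K.relIndex M : M) : G), Subgroup.pow_index_mem (K.subgroupOf M) k⟩

/-- A `p'`-group of operators modulo inner ones fixes some extension, for `p`-power index. -/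
theorem exists_invariant_ext {p : ℕ} [Fact p.Prime] {hKM : K ≤ M} {θ : IrrCharacter K}
    (hfixM : M ≤ fixer θ) (hfixN : N ≤ fixer θ) (hNM : N ≤ Subgroup.normalizer (M : Set G))
    {D : Subgroup G} (hDN : D ≤ N) (hDM : D ≤ M) (hidx : ¬ p ∣ D.relIndex N) {a : ℕ}
    (hpow : K.relIndex M ∣ p ^ a) {ρ : IrrCharacter M} (hext : Ext hKM θ ρ) :
    ∃ ρ₀ : IrrCharacter M, Ext hKM θ ρ₀ ∧ N ≤ fixer ρ₀ := by
  have hn := hfixM.trans (fixer_le_normalizer θ)
  let act : N → (M →* ℂˣ) →* (M →* ℂˣ) := fun n =>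
    MonoidHom.compHom' (
      { toFun := fun k => ⟨(n : G)⁻¹ * k * n, by
          simpa using (Subgroup.mem_normalizer_iff.1 (inv_mem (hNM n.2)) _).1 k.2⟩
        map_one' := Subtype.ext (by simp)
        map_mul' := fun a b => Subtype.ext (by simp [mul_assoc]) } : M →* M)
  have act_apply : ∀ (n : N) (l : M →* ℂˣ) (k k' : M), (k' : G) = n * k * (n : G)⁻¹ →
      act n l k' = l k := fun n l k k' hk =>
    congrArg l (Subtype.ext (by simp [hk, mul_assoc]))
  have act_triv : ∀ (n : N) {l}, Triv hKM l → Triv hKM (act n l) := by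
    intro n l hl k
    have hk : (n : G)⁻¹ * (k : G) * n ∈ K := by
      simpa using (Subgroup.mem_normalizer_iff.1
        (inv_mem (fixer_le_normalizer θ (hfixN n.2))) _).1 k.2
    exact hl ⟨_, hk⟩
  have conj_tw : ∀ (n : N) {ρ' ρ'' : IrrCharacter M} (l : M →* ℂˣ), Conj M (n : G) ρ' ρ'' →
      Conj M (n : G) (twist ρ' l) (twist ρ'' (act n l)) := by
    intro n ρ' ρ'' l h
    refine ⟨h.1, fun k k' hk => ?_⟩
    rw [twist_apply, twist_apply, act_apply n l k k' hk, h.2 k k' hk]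
  have hex : ∀ n : N, ∃ l : M →* ℂˣ, Triv hKM l ∧ Conj M (n : G) ρ (twist ρ l) := by
    intro n
    obtain ⟨ρ', hρ'⟩ := exists_conj (hNM n.2) ρ
    obtain ⟨l, hl, he⟩ := hext.exists_twist (Conj.ext hext hρ' (hfixN n.2)) hn
    exact ⟨l, hl, he ▸ hρ'⟩
  choose c hc hcρ using hex
  have hcuniq : ∀ (n : N) {l : M →* ℂˣ}, Triv hKM l → Conj M (n : G) ρ (twist ρ l) → c n = l :=
    fun n l hl h => hext.twist_injective hn (hc n) hl ((hcρ n).unique h)
  have hmul : ∀ n n' : N, c (n * n') = c n * act n (c n') := by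
    intro n n'
    refine hcuniq _ (fun k => ?_) ?_
    · rw [MonoidHom.mul_apply, hc n k, act_triv n (hc n') k, one_mul]
    · have h := (hcρ n').trans (conj_tw n (c n') (hcρ n))
      rw [twist_mul] at h
      exact h
  have hD : ∀ d : N, (d : G) ∈ D → c d = 1 := fun d hd =>
    hcuniq d (fun k => rfl) (by rw [twist_one]; exact le_fixer_self ρ (hDM hd))
  let D' := D.subgroupOf N
  haveI : Fintype (N ⧸ D') := Fintype.ofFinite _
  let cb : N ⧸ D' → (M →* ℂˣ) := fun q => c q.out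
  have hcb : ∀ n : N, cb (n : N ⧸ D') = c n := by
    intro n
    obtain ⟨d, hd⟩ := QuotientGroup.mk_out_eq_mul D' n
    show c ((n : N ⧸ D').out) = _
    rw [hd, hmul, hD d.1 d.2, map_one]
    exact MonoidHom.ext fun k => mul_one (c n k)
  set μ : M →* ℂˣ := ∏ q, cb q
  have hμt : Triv hKM μ := fun k => by
    rw [show μ (Subgroup.inclusion hKM k) = ∏ q, cb q (Subgroup.inclusion hKM k) from
      MonoidHom.finsetProd_apply _ _ _]
    exact Finset.prod_eq_one fun q _ => hc _ k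
  have hμ : ∀ (n : N) (k : M), c n k ^ D.relIndex N * act n μ k = μ k := by
    intro n k
    rw [map_prod, MonoidHom.finsetProd_apply, MonoidHom.finsetProd_apply, Subgroup.relIndex,
      Subgroup.index_eq_card, Nat.card_eq_fintype_card, ← Finset.card_univ, ← Finset.prod_const,
      ← Finset.prod_mul_distrib]
    refine Fintype.prod_equiv (MulAction.toPerm n) _ _ fun q => ?_
    obtain ⟨m, rfl⟩ := QuotientGroup.mk_surjective q
    rw [hcb, ← MonoidHom.mul_apply, ← hmul, ← hcb (n * m)]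
    rfl
  have hcop : Nat.Coprime (D.relIndex N) (p ^ a) :=
    Nat.Coprime.pow_right a ((Fact.out : p.Prime).coprime_iff_not_dvd.2 hidx).symm
  obtain ⟨i, hi⟩ : ∃ i : ℕ, D.relIndex N * i ≡ 1 [MOD p ^ a] := by
    obtain ⟨i, hi⟩ := Nat.chineseRemainder (Nat.coprime_one_right (p ^ a)) 1 0
    obtain ⟨j, hj⟩ := Nat.chineseRemainder hcop 0 1
    have h0 : D.relIndex N ∣ j := Nat.modEq_zero_iff_dvd.1 hj.1
    obtain ⟨i, rfl⟩ := h0
    exact ⟨i, hj.2⟩
  let μi : M →* ℂˣ := (powMonoidHom i).comp μ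
  have hμi : ∀ k, μi k = μ k ^ i := fun k => rfl
  refine ⟨twist ρ μi, hext.twist fun k => by rw [hμi, hμt k, one_pow], fun n hn' => ?_⟩
  have h := conj_tw ⟨n, hn'⟩ μi (hcρ ⟨n, hn'⟩)
  rw [twist_mul] at h
  have hone : c ⟨n, hn'⟩ * act ⟨n, hn'⟩ μi = μi := by
    refine MonoidHom.ext fun k => ?_
    have h2 : c ⟨n, hn'⟩ k ^ p ^ a = 1 := by
      obtain ⟨b, hb⟩ := hpow
      rw [hb, pow_mul, ← MonoidHom.pow_apply, (hc _).pow_relIndex hn, MonoidHom.one_apply, one_pow]
    have h1 : c ⟨n, hn'⟩ k ^ (D.relIndex N * i) = c ⟨n, hn'⟩ k := by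
      conv_rhs => rw [← pow_one (c ⟨n, hn'⟩ k)]
      exact pow_eq_pow_iff_modEq.2 (hi.of_dvd (orderOf_dvd_of_pow_eq_one h2))
    rw [MonoidHom.mul_apply, hμi, show act ⟨n, hn'⟩ μi k = (act ⟨n, hn'⟩ μ k) ^ i from rfl, ← h1,
      pow_mul, ← mul_pow, hμ]
  rw [hone] at h
  exact h

/-- A Hall complement modulo `C` of the image of a `p`-group. -/
theorem exists_hall_complement {p : ℕ} [Fact p.Prime] {C S T : Subgroup G} (hS : IsPGroup p S)
    (hCT : C ≤ T) (hST : S ≤ T) (hTC : T ≤ Subgroup.normalizer (C : Set G))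
    (hTD : T ≤ Subgroup.normalizer ((C ⊔ S : Subgroup G) : Set G))
    (hidx : ¬ p ∣ (C ⊔ S).relIndex T) :
    ∃ W : Subgroup G, C ≤ W ∧ W ≤ T ∧ W ⊓ (C ⊔ S) = C ∧
      (∀ x ∈ T, ∃ w ∈ W, ∃ d ∈ C ⊔ S, x = w * d) ∧ ¬ p ∣ C.relIndex W := by
  set D := C ⊔ S
  have hDT : D ≤ T := sup_le hCT hST
  haveI := subgroupOf_normal hTC hCT
  haveI := subgroupOf_normal hTD hDT
  let π := QuotientGroup.mk' (C.subgroupOf T)
  let Db : Subgroup (T ⧸ C.subgroupOf T) := (D.subgroupOf T).map π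
  haveI : Db.Normal := Subgroup.Normal.map inferInstance π (QuotientGroup.mk'_surjective _)
  have hker : (C.subgroupOf T) ≤ D.subgroupOf T := fun x hx => (le_sup_left : C ≤ D) hx
  have hindex : Db.index = D.relIndex T := by
    rw [Subgroup.index_map_eq _ (QuotientGroup.mk'_surjective _) (by rw [QuotientGroup.ker_mk']; exact hker)]
    rfl
  have hDp : IsPGroup p Db := by
    refine IsPGroup.to_le (IsPGroup.map (H := S.subgroupOf T)
      (hS.of_equiv (Subgroup.subgroupOfEquivOfLe hST).symm) π) ?_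
    rintro _ ⟨⟨y, hy⟩, hyD, rfl⟩
    have he := Subgroup.coe_mul_of_right_le_normalizer_left C S (hST.trans hTC)
    have hy' : y ∈ (C : Set G) * (S : Set G) := by rw [← he]; exact hyD
    obtain ⟨c, hc, s, hs, e⟩ := hy'
    refine ⟨⟨s, hST hs⟩, hs, ?_⟩
    show QuotientGroup.mk _ = QuotientGroup.mk _
    rw [QuotientGroup.eq_iff_div_mem, Subgroup.mem_subgroupOf]
    simpa [← e, div_eq_mul_inv, mul_assoc] using C.inv_mem hc
  have hcop : Nat.Coprime (Nat.card Db) Db.index := by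
    obtain ⟨k, hk⟩ := IsPGroup.iff_card.1 hDp
    rw [hk, hindex]
    exact Nat.Coprime.pow_left k ((Fact.out : p.Prime).coprime_iff_not_dvd.2 hidx)
  obtain ⟨Wb, hWb⟩ := Subgroup.exists_right_complement'_of_coprime hcop
  let W' : Subgroup T := Wb.comap π
  have hmem : ∀ {x : G} (hx : x ∈ T), x ∈ W'.map T.subtype ↔ π ⟨x, hx⟩ ∈ Wb := by
    intro x hx
    refine ⟨?_, fun h => ⟨⟨x, hx⟩, h, rfl⟩⟩
    rintro ⟨y, hy, rfl⟩
    exact hy
  refine ⟨W'.map T.subtype, fun c hc => (hmem (hCT hc)).2 ?_, Subgroup.map_subtype_le _, ?_, ?_, ?_⟩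
  · rw [show π ⟨c, hCT hc⟩ = 1 from (QuotientGroup.eq_one_iff _).2 hc]
    exact one_mem _
  · refine le_antisymm ?_ (le_inf (fun c hc => (hmem (hCT hc)).2 ?_) le_sup_left)
    · rintro _ ⟨⟨y, hy, rfl⟩, hD⟩
      have h1 : π y ∈ Db ⊓ Wb := ⟨⟨y, hD, rfl⟩, hy⟩
      rw [hWb.disjoint.eq_bot, Subgroup.mem_bot] at h1
      exact (QuotientGroup.eq_one_iff (N := C.subgroupOf T) y).1 h1
    · rw [show π ⟨c, hCT hc⟩ = 1 from (QuotientGroup.eq_one_iff _).2 hc]
      exact one_mem _
  · intro x hx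
    have h1 : π ⟨x, hx⟩⁻¹ ∈ ((Db : Set (T ⧸ C.subgroupOf T)) * (Wb : Set _)) := by
      rw [hWb.mul_eq]; exact Set.mem_univ _
    obtain ⟨_, ⟨⟨d, hdT⟩, hd, rfl⟩, w, hw, e⟩ := h1
    have hd' : (d : G) ∈ D := hd
    refine ⟨x * d, (hmem (mul_mem hx hdT)).2 ?_, d⁻¹, inv_mem hd', by group⟩
    have e' : π ⟨d, hdT⟩ * w = (π ⟨x, hx⟩)⁻¹ := e.trans (map_inv π _)
    have : π ⟨x * d, mul_mem hx hdT⟩ = w⁻¹ := by
      rw [show (⟨x * d, mul_mem hx hdT⟩ : T) = ⟨x, hx⟩ * ⟨d, hdT⟩ from rfl, map_mul,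
        ← inv_inv (π ⟨x, hx⟩), ← e', mul_inv_rev, inv_mul_cancel_right]
    rw [this]
    exact inv_mem hw
  · have h1 : C.relIndex (W'.map T.subtype) = Nat.card Wb := by
      have h2 : (W'.map π) = Wb :=
        Subgroup.map_comap_eq_self_of_surjective (QuotientGroup.mk'_surjective _) Wb
      calc C.relIndex (W'.map T.subtype)
          = (C.subgroupOf T).relIndex W' := (Subgroup.relIndex_comap C T.subtype W').symm
        _ = ((⊥ : Subgroup (T ⧸ C.subgroupOf T)).comap π).relIndex W' := by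
            rw [MonoidHom.comap_bot, QuotientGroup.ker_mk']
        _ = Nat.card Wb := by rw [Subgroup.relIndex_comap, h2, Subgroup.relIndex_bot_left]
    rw [h1, ← (hWb.symm).index_eq_card, hindex]
    exact hidx

end CfsgLib.RelMcKay
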