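import Cfsg.Agent.RelMcKay.Chain
import Cfsg.Agent.RelMcKay.Counting
import Cfsg.Agent.RelMcKay.Tools

/-!
# Counting `p'`-degree characters over corresponding invariant characters

`K ⧸ L` is a `p'`-group, `H = K N` with `N` the normaliser of `L ⊔ S`, and `θ`, `φ` correspond.
-/

set_option autoImplicit false
set_option linter.unusedSectionVars false
set_option linter.style.haveILetI false

namespace CfsgLib.RelMcKay

open Cfsg CfsgLib.Characters CfsgLib.RelGlauberman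
open scoped ComplexConjugate Classical Pointwise

variable {G : Type*} [Group G] [Finite G]

noncomputable local instance instFintypeSub7 (H : Subgroup G) : Fintype H := Fintype.ofFinite H
noncomputable local instance instFintypeIrr7 (H : Subgroup G) : Fintype (IrrCharacter H) :=
  Fintype.ofFinite _

/-- The setting of the coprime step. -/
structure Setup (p : ℕ) (G : Type*) [Group G] where
  /-- the group -/
  H : Subgroup G
  /-- the bottom normal subgroup -/
  L : Subgroup G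
  /-- the normal subgroup with `p'` quotient -/
  K : Subgroup G
  /-- a Sylow subgroup of `H` -/
  S : Subgroup G
  hS : IsPGroup p S
  hSH : S ≤ H
  hsyl : ¬ p ∣ S.relIndex H
  hHL : H ≤ Subgroup.normalizer (L : Set G)
  hHK : H ≤ Subgroup.normalizer (K : Set G)
  hLK : L ≤ K
  hKH : K ≤ H
  hidx : ¬ p ∣ L.relIndex K
  hdec : ∀ x ∈ H, ∃ k ∈ K, ∃ n ∈ H ⊓ Subgroup.normalizer ((L ⊔ S : Subgroup G) : Set G), x = k * n

namespace Setup

variable {p : ℕ} [Fact p.Prime] (D : Setup p G)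

/-- The normaliser. -/
abbrev N : Subgroup G := D.H ⊓ Subgroup.normalizer ((D.L ⊔ D.S : Subgroup G) : Set G)

/-- The fixed points. -/
abbrev C : Subgroup G := D.K ⊓ D.N

theorem S_le_N : D.S ≤ D.N :=
  le_inf D.hSH (le_sup_right.trans Subgroup.le_normalizer)

theorem inf_eq : (D.L ⊔ D.S) ⊓ D.K ≤ D.L := by
  rintro x ⟨hx, hxK⟩
  have hSL : D.S ≤ Subgroup.normalizer (D.L : Set G) := D.hSH.trans D.hHL
  obtain ⟨l, hl, s, hs, rfl⟩ := exists_mul_of_mem_sup' hSL hx
  refine mul_mem hl ?_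
  have hsK : s ∈ D.K := by simpa using mul_mem (inv_mem (D.hLK hl)) hxK
  haveI := subgroupOf_normal (D.hKH.trans D.hHL) D.hLK
  obtain ⟨k, hk⟩ := D.hS ⟨s, hs⟩
  have h1 : (⟨s, hsK⟩ : D.K) ^ D.L.relIndex D.K ∈ D.L.subgroupOf D.K :=
    Subgroup.pow_index_mem _ _
  have h2 : s ^ p ^ k = 1 := congrArg Subtype.val hk
  have hco : Nat.gcd (D.L.relIndex D.K) (p ^ k) = 1 :=
    Nat.Coprime.pow_right k ((Fact.out : p.Prime).coprime_iff_not_dvd.2 D.hidx).symm
  have h4 : s ^ ((D.L.relIndex D.K : ℤ) * Nat.gcdA (D.L.relIndex D.K) (p ^ k) +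
      ((p ^ k : ℕ) : ℤ) * Nat.gcdB (D.L.relIndex D.K) (p ^ k)) = s := by
    rw [← Nat.gcd_eq_gcd_ab, hco]; simp
  rw [← h4, zpow_add, zpow_mul, zpow_mul, zpow_natCast, zpow_natCast, h2, one_zpow, mul_one]
  exact zpow_mem (show s ^ D.L.relIndex D.K ∈ D.L from h1) _

theorem fixedMod : IsFixedMod D.S D.K D.L D.C := by
  intro k
  constructor
  · rintro ⟨hk, -, hkP⟩
    refine ⟨hk, fun s hs => D.inf_eq ⟨?_, ?_⟩⟩
    · show s * k * s⁻¹ * k⁻¹ ∈ D.L ⊔ D.S
      rw [show s * k * s⁻¹ * k⁻¹ = s * (k * s⁻¹ * k⁻¹) by group]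
      exact mul_mem (Subgroup.mem_sup_right hs)
        ((Subgroup.mem_normalizer_iff.1 hkP _).1 (inv_mem (Subgroup.mem_sup_right hs)))
    · show s * k * s⁻¹ * k⁻¹ ∈ D.K
      exact mul_mem ((Subgroup.mem_normalizer_iff.1 (D.hHK (D.hSH hs)) _).1 hk)
        (inv_mem (show k ∈ D.K from hk))
  · rintro ⟨hk, hk'⟩
    refine ⟨hk, D.hKH hk, ?_⟩
    have hP : ∀ c : G, c ∈ D.K → (∀ s ∈ D.S, s * c * s⁻¹ * c⁻¹ ∈ D.L) →
        ∀ x ∈ D.L ⊔ D.S, c * x * c⁻¹ ∈ D.L ⊔ D.S := by
      intro c hc hc' x hx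
      obtain ⟨l, hl, s, hs, rfl⟩ := exists_mul_of_mem_sup' (D.hSH.trans D.hHL) hx
      rw [show c * (l * s) * c⁻¹ = (c * l * c⁻¹) * ((s * c * s⁻¹ * c⁻¹)⁻¹ * s) by group]
      exact mul_mem (Subgroup.mem_sup_left
          ((Subgroup.mem_normalizer_iff.1 (D.hHL (D.hKH hc)) _).1 hl))
        (mul_mem (Subgroup.mem_sup_left (inv_mem (hc' s hs))) (Subgroup.mem_sup_right hs))
    obtain ⟨C₀, hC₀⟩ := exists_fixedMod D.S D.K D.L
      (fun k hk q hq => (Subgroup.mem_normalizer_iff.1 (D.hHL (D.hKH hk)) q).1 hq)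
    exact le_normalizer_of_normalises (A := C₀)
      (fun c hc => hP c ((hC₀ c).1 hc).1 ((hC₀ c).1 hc).2) ((hC₀ k).2 ⟨hk, hk'⟩)

theorem C_le_K : D.C ≤ D.K := inf_le_left

theorem C_le_N : D.C ≤ D.N := inf_le_right

theorem N_le_H : D.N ≤ D.H := inf_le_left

theorem N_le_normalizer_C : D.N ≤ Subgroup.normalizer (D.C : Set G) :=
  le_normalizer_of_normalises fun n hn c hc =>
    Subgroup.mem_inf.2
      ⟨(Subgroup.mem_normalizer_iff.1 (D.hHK (D.N_le_H hn)) c).1 (Subgroup.mem_inf.1 hc).1,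
        mul_mem (mul_mem hn (Subgroup.mem_inf.1 hc).2) (inv_mem hn)⟩

theorem N_le_normalizer_M :
    D.N ≤ Subgroup.normalizer ((D.K ⊔ D.S : Subgroup G) : Set G) := by
  intro n hn
  have e : D.K ⊔ D.S = D.K ⊔ (D.L ⊔ D.S) := by
    rw [← sup_assoc, sup_eq_left.2 D.hLK]
  rw [e]
  exact conj_mem_sup (D.hHK (D.N_le_H hn)) hn.2

theorem inf_sup_eq : (D.K ⊔ D.S) ⊓ D.N = D.C ⊔ D.S := by
  refine le_antisymm ?_ (sup_le (le_inf (D.C_le_K.trans le_sup_left) D.C_le_N)
    (le_inf le_sup_right D.S_le_N))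
  intro x hx'
  obtain ⟨hx, hxN⟩ := Subgroup.mem_inf.1 hx'
  obtain ⟨k, hk, s, hs, rfl⟩ := exists_mul_of_mem_sup' (D.hSH.trans D.hHK) hx
  exact mul_mem (Subgroup.mem_sup_left (Subgroup.mem_inf.2
      ⟨hk, by simpa using mul_mem hxN (inv_mem (D.S_le_N hs))⟩))
    (Subgroup.mem_sup_right hs)

theorem H_le_normalizer_M :
    D.H ≤ Subgroup.normalizer ((D.K ⊔ D.S : Subgroup G) : Set G) := by
  intro x hx
  obtain ⟨k, hk, n, hn, rfl⟩ := D.hdec x hx
  exact mul_mem (Subgroup.le_normalizer (Subgroup.mem_sup_left hk)) (D.N_le_normalizer_M hn)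

theorem relIndex_pow : ∃ a : ℕ, D.K.relIndex (D.K ⊔ D.S) ∣ p ^ a ∧
    D.C.relIndex (D.C ⊔ D.S) ∣ p ^ a := by
  obtain ⟨a, ha⟩ := IsPGroup.iff_card.1 D.hS
  exact ⟨a, ha ▸ relIndex_sup_dvd_card (D.hSH.trans D.hHK),
    ha ▸ relIndex_sup_dvd_card (D.S_le_N.trans D.N_le_normalizer_C)⟩

theorem not_dvd_relIndex_M : ¬ p ∣ (D.K ⊔ D.S).relIndex D.H := fun h =>
  D.hsyl (h.trans (Subgroup.relIndex_dvd_of_le_left D.H le_sup_right))

theorem not_dvd_relIndex_D : ¬ p ∣ (D.C ⊔ D.S).relIndex D.N := fun h =>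
  D.hsyl ((h.trans (Subgroup.relIndex_dvd_of_le_left D.N le_sup_right)).trans
    (Dvd.intro _ (Subgroup.relIndex_mul_relIndex D.S D.N D.H D.S_le_N D.N_le_H)))

end Setup

variable {p : ℕ} [Fact p.Prime]

/-- A `p'`-degree character over an invariant `θ` lies over an extension to a `p`-power overgroup. -/
theorem exists_ext_constituent {K M H : Subgroup G} (hKM : K ≤ M) (hMH : M ≤ H)
    (hMn : H ≤ Subgroup.normalizer (M : Set G)) {θ : IrrCharacter K} (hfix : H ≤ fixer θ) {a : ℕ}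
    (hpow : K.relIndex M ∣ p ^ a) {χ : IrrCharacter H} (hd : ¬ p ∣ deg χ)
    (h : multNat (hKM.trans hMH) χ θ ≠ 0) :
    ∃ ρ : IrrCharacter M, Ext hKM θ ρ ∧ multNat hMH χ ρ ≠ 0 := by
  obtain ⟨ρ, h1, h2⟩ := exists_between hKM hMH h
  refine ⟨ρ, ext_of_deg (hMH.trans hfix) h2 ?_, h1⟩
  have hρ : ¬ p ∣ deg ρ := fun hp => hd (by
    rw [deg_eq hMn hMH h1]; exact Dvd.dvd.mul_left (Dvd.dvd.mul_left hp _) _)
  have hm := deg_eq_of_fixed hKM (hMH.trans hfix) h2
  have hdvd := (multNat_dvd_relIndex hKM (hMH.trans hfix) h2).trans hpow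
  obtain ⟨j, -, hj⟩ := (Nat.dvd_prime_pow (Fact.out : p.Prime)).1 hdvd
  rcases Nat.eq_zero_or_pos j with rfl | hj0
  · rw [hm, hj, pow_zero, one_mul]
  · exact absurd (by rw [hm, hj]; exact Dvd.dvd.mul_right (dvd_pow_self p hj0.ne') _) hρ

/-- Over an extension, prime-to-`p` degree is automatic when the index is prime to `p`. -/
theorem count_over_ext {M H : Subgroup G} (hMH : M ≤ H)
    (hMn : H ≤ Subgroup.normalizer (M : Set G)) (hidx : ¬ p ∣ M.relIndex H)
    {ρ : IrrCharacter M} (hρ : ¬ p ∣ deg ρ) {χ : IrrCharacter H} (h : multNat hMH χ ρ ≠ 0) :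
    ¬ p ∣ deg χ := by
  rw [deg_eq hMn hMH h]
  intro hp
  have hT : ¬ p ∣ (fixer ρ).relIndex H := fun hd =>
    hidx (hd.trans (Subgroup.relIndex_dvd_of_le_left H (le_fixer_self ρ)))
  rcases (Fact.out : p.Prime).dvd_mul.1 hp with hm | hp
  · -- the multiplicity lives in the stabiliser
    let T : Subgroup G := H ⊓ fixer ρ
    have hMT : M ≤ T := le_inf hMH (le_fixer_self ρ)
    obtain ⟨η, h1, h2⟩ := exists_between hMT (inf_le_left : T ≤ H) h
    have hm' : ¬ p ∣ M.relIndex T := fun hd => hidx (hd.trans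
      (Dvd.intro _ (Subgroup.relIndex_mul_relIndex M T H hMT inf_le_left)))
    have hle : multNat hMH χ ρ ∣ multNat hMT η ρ := by
      have key := count_stabilizer hMn hMH ρ (fun d => d = deg χ)
      have hpos : 0 < count hMH ρ (fun d => d = deg χ) :=
        Nat.card_pos_iff.2 ⟨⟨⟨χ, rfl, h⟩⟩, inferInstance⟩
      rw [key] at hpos
      obtain ⟨⟨ψ, hψd, hψ⟩⟩ := (Nat.card_pos_iff.1 hpos).1
      have hψm := multNat_dvd_relIndex hMT inf_le_right hψ
      have h3 : multNat hMH χ ρ = multNat hMT ψ ρ := by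
        have e1 := deg_eq hMn hMH h
        rw [deg_eq_of_fixed hMT inf_le_right hψ] at hψd
        rw [← hψd, ← mul_assoc, ← mul_assoc, mul_comm ((fixer ρ).relIndex H)] at e1
        have hpos' : 0 < (fixer ρ).relIndex H :=
          Nat.pos_of_ne_zero fun h0 => hT (h0 ▸ dvd_zero p)
        exact (Nat.eq_of_mul_eq_mul_right hpos' (Nat.eq_of_mul_eq_mul_right (deg_pos ρ) e1)).symm
      exact absurd (hm.trans (h3 ▸ hψm)) hm'
    exact hm' ((hm.trans hle).trans (multNat_dvd_relIndex hMT inf_le_right h2))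
  · exact ((Fact.out : p.Prime).dvd_mul.1 hp).elim hT hρ

/-- The coprime step for an invariant pair. -/
theorem count_over_eq (D : Setup p G) (θ : IrrCharacter D.K) (φ : IrrCharacter D.C)
    (hθ : D.H ≤ fixer θ) (hφ : D.N ≤ fixer φ) (hm : (multNat D.C_le_K θ φ : ZMod p) ≠ 0)
    (hd : ¬ p ∣ deg θ ↔ ¬ p ∣ deg φ) :
    count D.hKH θ (fun d => ¬ p ∣ d) = count D.C_le_N φ (fun d => ¬ p ∣ d) := by
  set M : Subgroup G := D.K ⊔ D.S
  set E : Subgroup G := D.C ⊔ D.S
  have hKM : D.K ≤ M := le_sup_left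
  have hMH : M ≤ D.H := sup_le D.hKH D.hSH
  have hCE : D.C ≤ E := le_sup_left
  have hEN : E ≤ D.N := sup_le D.C_le_N D.S_le_N
  have hEM : E ≤ M := sup_le (D.C_le_K.trans le_sup_left) le_sup_right
  have hNE : D.N ≤ Subgroup.normalizer (E : Set G) := fun n hn => by
    show n ∈ Subgroup.normalizer ((D.C ⊔ D.S : Subgroup G) : Set G)
    rw [← D.inf_sup_eq]
    refine le_normalizer_of_normalises (A := D.N) (fun m hm x hx => Subgroup.mem_inf.2
      ⟨(Subgroup.mem_normalizer_iff.1 (D.N_le_normalizer_M hm) x).1 (Subgroup.mem_inf.1 hx).1,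
        mul_mem (mul_mem hm (Subgroup.mem_inf.1 hx).2) (inv_mem hm)⟩) hn
  have hMKn : M ≤ Subgroup.normalizer (D.K : Set G) := hMH.trans D.hHK
  have hECn : E ≤ Subgroup.normalizer (D.C : Set G) := hEN.trans D.N_le_normalizer_C
  obtain ⟨a, hpowM, hpowE⟩ := D.relIndex_pow
  by_cases hpd : p ∣ deg θ
  · have hφd : p ∣ deg φ := by by_contra h; exact (hd.2 h) hpd
    have z : ∀ {A H : Subgroup G} (hAH : A ≤ H) {ψ : IrrCharacter A}, H ≤ fixer ψ → p ∣ deg ψ →
        count hAH ψ (fun d => ¬ p ∣ d) = 0 := by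
      intro A H hAH ψ hfix hp
      refine Nat.card_eq_zero.2 (Or.inl ⟨fun χ => χ.2.1 ?_⟩)
      rw [deg_eq_of_fixed hAH hfix χ.2.2]
      exact Dvd.dvd.mul_left hp _
    rw [z D.hKH hθ hpd, z D.C_le_N hφ hφd]
  have hφd : ¬ p ∣ deg φ := hd.1 hpd
  -- extensions exist together
  by_cases hex : ∃ ρ : IrrCharacter M, Ext hKM θ ρ
  swap
  · have hex' : ¬ ∃ σ : IrrCharacter E, Ext hCE φ σ := by
      rintro ⟨σ, hσ⟩
      apply hex
      by_contra hno
      push Not at hno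
      -- the multiplicity of `φ` in `θ` would be divisible by `p`
      apply hm
      let F : M → ℂ := Cfsg.indFun (E.subgroupOf M)
        (fun x => (σ : E → ℂ) (Subgroup.subgroupOfEquivOfLe hEM x))
      have hFc : Cfsg.IsCharacter M F := isCharacter_indFun _
        (isCharacter_comp (Subgroup.subgroupOfEquivOfLe hEM).toMonoidHom (isCharacter_of_isIrr σ.2))
      obtain ⟨ρ, hρ⟩ := exists_over hKM θ
      -- restricted to `D.K`, the induced character is induced from `φ`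
      have hres : ∀ k : D.K, F (Subgroup.inclusion hKM k) =
          Cfsg.indFun (D.C.subgroupOf D.K)
            (fun x => (φ : D.C → ℂ) (Subgroup.subgroupOfEquivOfLe D.C_le_K x)) k := by
        intro k
        simp only [F, Cfsg.indFun]
        have hcardE : Nat.card (E.subgroupOf M) = Nat.card E :=
          Nat.card_congr (Subgroup.subgroupOfEquivOfLe hEM).toEquiv
        have hcardC : Nat.card (D.C.subgroupOf D.K) = Nat.card D.C :=
          Nat.card_congr (Subgroup.subgroupOfEquivOfLe D.C_le_K).toEquiv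
        rw [hcardE, hcardC]
        have key : ∀ (x : D.K) (d : E), Cfsg.extendByZero (E.subgroupOf M)
            (fun y => (σ : E → ℂ) (Subgroup.subgroupOfEquivOfLe hEM y))
            ((Subgroup.inclusion hKM x * Subgroup.inclusion hEM d)⁻¹ * Subgroup.inclusion hKM k *
              (Subgroup.inclusion hKM x * Subgroup.inclusion hEM d)) =
            Cfsg.extendByZero (D.C.subgroupOf D.K)
              (fun y => (φ : D.C → ℂ) (Subgroup.subgroupOfEquivOfLe D.C_le_K y))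
              (x⁻¹ * k * x) := by
          intro x d
          by_cases hx : ((x⁻¹ * k * x : D.K) : G) ∈ D.C
          · rw [extendByZero_of_mem (D.C.subgroupOf D.K) _ (show x⁻¹ * k * x ∈ _ from hx)]
            have hmem : (Subgroup.inclusion hKM x * Subgroup.inclusion hEM d)⁻¹ *
                Subgroup.inclusion hKM k * (Subgroup.inclusion hKM x * Subgroup.inclusion hEM d) ∈
                E.subgroupOf M := by
              rw [Subgroup.mem_subgroupOf]
              simp only [Subgroup.coe_mul, Subgroup.coe_inv, Subgroup.coe_inclusion]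
              have : (x : G)⁻¹ * k * x ∈ E := hCE (by simpa using hx)
              have := mul_mem (mul_mem (inv_mem d.2) this) d.2
              simpa [mul_assoc] using this
            rw [extendByZero_of_mem (E.subgroupOf M) _ hmem,
              show (φ : D.C → ℂ) (Subgroup.subgroupOfEquivOfLe D.C_le_K ⟨x⁻¹ * k * x, hx⟩) =
                (σ : E → ℂ) (Subgroup.inclusion hCE
                  (Subgroup.subgroupOfEquivOfLe D.C_le_K ⟨x⁻¹ * k * x, hx⟩)) from (hσ _).symm,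
              ← isClassFunction_of_isIrr σ.2 _ d]
            refine congrArg _ (Subtype.ext ?_)
            simp [Subgroup.subgroupOfEquivOfLe, mul_assoc]
          · rw [extendByZero_of_not_mem (D.C.subgroupOf D.K) _ hx, extendByZero_of_not_mem]
            intro hmem
            rw [Subgroup.mem_subgroupOf] at hmem
            simp only [Subgroup.coe_mul, Subgroup.coe_inv, Subgroup.coe_inclusion] at hmem
            have h1 : (x : G)⁻¹ * k * x ∈ E := by
              have := mul_mem (mul_mem d.2 hmem) (inv_mem d.2)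
              simpa [mul_assoc] using this
            have h2 : (x : G)⁻¹ * k * x ∈ D.K := by simpa using (x⁻¹ * k * x).2
            exact hx (by simpa using (⟨h2, hEN h1⟩ : (x : G)⁻¹ * k * x ∈ D.C))
        have hsum : (∑ x : M, Cfsg.extendByZero (E.subgroupOf M)
            (fun y => (σ : E → ℂ) (Subgroup.subgroupOfEquivOfLe hEM y))
              (x⁻¹ * Subgroup.inclusion hKM k * x)) * (Nat.card D.C : ℂ) =
            (Nat.card E : ℂ) * ∑ x : D.K, Cfsg.extendByZero (D.C.subgroupOf D.K)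
              (fun y => (φ : D.C → ℂ) (Subgroup.subgroupOfEquivOfLe D.C_le_K y))
                (x⁻¹ * k * x) := by
          calc _ = ∑ q : D.K × E, Cfsg.extendByZero (E.subgroupOf M)
                  (fun y => (σ : E → ℂ) (Subgroup.subgroupOfEquivOfLe hEM y))
                  ((Subgroup.inclusion hKM q.1 * Subgroup.inclusion hEM q.2)⁻¹ *
                    Subgroup.inclusion hKM k *
                    (Subgroup.inclusion hKM q.1 * Subgroup.inclusion hEM q.2)) := ?_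
            _ = _ := by
              rw [Fintype.sum_prod_type, Finset.sum_congr rfl fun x _ =>
                Finset.sum_congr rfl fun d _ => key x d]
              simp [Finset.mul_sum, Nat.card_eq_fintype_card]
          rw [← Finset.sum_fiberwise Finset.univ
            (fun q : D.K × E => Subgroup.inclusion hKM q.1 * Subgroup.inclusion hEM q.2),
            Finset.sum_mul]
          refine Finset.sum_congr rfl fun x _ => ?_
          symm
          rw [Finset.sum_congr rfl fun q hq => by rw [(Finset.mem_filter.1 hq).2], Finset.sum_const,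
            nsmul_eq_mul, mul_comm]
          congr 2
          obtain ⟨k₀, hk₀, s₀, hs₀, hx⟩ := exists_mul_of_mem_sup' (D.hSH.trans D.hHK) x.2
          rw [← Fintype.card_subtype, Nat.card_eq_fintype_card]
          have heq : ∀ q : {q : D.K × E //
              Subgroup.inclusion hKM q.1 * Subgroup.inclusion hEM q.2 = x},
              (q.1.1 : G) * (q.1.2 : G) = k₀ * s₀ := fun q => by
            have h := congrArg Subtype.val q.2
            simp only [Subgroup.coe_mul, Subgroup.coe_inclusion] at h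
            rw [h, hx]
          have hmemC : ∀ q : {q : D.K × E //
              Subgroup.inclusion hKM q.1 * Subgroup.inclusion hEM q.2 = x},
              k₀⁻¹ * (q.1.1 : G) ∈ D.C := fun q => by
            have h1 : k₀⁻¹ * (q.1.1 : G) = s₀ * (q.1.2 : G)⁻¹ := by
              rw [eq_mul_inv_iff_mul_eq, mul_assoc, heq q, inv_mul_cancel_left]
            refine Subgroup.mem_inf.2 ⟨mul_mem (inv_mem hk₀) q.1.1.2, ?_⟩
            rw [h1]
            exact mul_mem (D.S_le_N hs₀) (inv_mem (hEN q.1.2.2))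
          refine (Fintype.card_congr
            { toFun := fun c : D.C => (⟨(⟨k₀ * (c : G), mul_mem hk₀ (D.C_le_K c.2)⟩,
                ⟨(c : G)⁻¹ * s₀, mul_mem (inv_mem (hCE c.2)) (Subgroup.mem_sup_right hs₀)⟩),
                  Subtype.ext (by simp [← hx, mul_assoc])⟩ : {q : D.K × E //
                    Subgroup.inclusion hKM q.1 * Subgroup.inclusion hEM q.2 = x})
              invFun := fun q => ⟨k₀⁻¹ * q.1.1, hmemC q⟩
              left_inv := fun c => Subtype.ext (inv_mul_cancel_left k₀ (c : G))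
              right_inv := fun q => Subtype.ext (Prod.ext (Subtype.ext (mul_inv_cancel_left k₀ _))
                (Subtype.ext (by
                  show (k₀⁻¹ * (q.1.1 : G))⁻¹ * s₀ = q.1.2
                  rw [mul_inv_rev, inv_inv, mul_assoc, ← heq q, inv_mul_cancel_left]))) }).symm
        have hC0 : (Nat.card D.C : ℂ) ≠ 0 := Nat.cast_ne_zero.2 Nat.card_pos.ne'
        have hE0 : (Nat.card E : ℂ) ≠ 0 := Nat.cast_ne_zero.2 Nat.card_pos.ne'
        field_simp
        rw [mul_comm] at hsum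
        linear_combination hsum
      obtain ⟨m, hmF⟩ := exists_nat_coeff hFc
      have hval : Cfsg.classInner (fun k : D.K => F (Subgroup.inclusion hKM k)) (θ : D.K → ℂ) =
          multNat D.C_le_K θ φ := by
        rw [show (fun k : D.K => F (Subgroup.inclusion hKM k)) = _ from funext hres,
          classInner_indFun _ _ (isClassFunction_of_isIrr θ.2), classInner_conj_symm,
          show (fun x => (φ : D.C → ℂ) (Subgroup.subgroupOfEquivOfLe D.C_le_K x)) =
            (pull D.C_le_K φ : D.C.subgroupOf D.K → ℂ) from rfl,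
          classInner_pull, Complex.conj_natCast]
      have hexp : (fun k : D.K => F (Subgroup.inclusion hKM k)) =
          ∑ η : IrrCharacter M, (m η : ℂ) •
            fun k : D.K => (η : M → ℂ) (Subgroup.inclusion hKM k) := by
        funext k
        rw [hmF]
        simp [Finset.sum_apply]
      rw [hexp, classInner_sum_left] at hval
      simp only [classInner_smul_left, ← multNat_eq_classInner] at hval
      have hnat : multNat D.C_le_K θ φ = ∑ η, m η * multNat hKM η θ := by exact_mod_cast hval.symm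
      rw [hnat, ZMod.natCast_eq_zero_iff]
      refine Finset.dvd_sum fun η _ => Dvd.dvd.mul_left ?_ _
      by_cases h0 : multNat hKM η θ = 0
      · rw [h0]; exact dvd_zero p
      obtain ⟨j, -, hj⟩ := (Nat.dvd_prime_pow (Fact.out : p.Prime)).1
        ((multNat_dvd_relIndex hKM (hMH.trans hθ) h0).trans hpowM)
      rcases Nat.eq_zero_or_pos j with rfl | hj0
      · refine absurd (ext_of_deg (hMH.trans hθ) h0 ?_) (hno η)
        rw [deg_eq_of_fixed hKM (hMH.trans hθ) h0, hj, pow_zero, one_mul]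
      · rw [hj]; exact dvd_pow_self p hj0.ne'
    have z : ∀ {A B H : Subgroup G} (hAB : A ≤ B) (hBH : B ≤ H) {ψ : IrrCharacter A},
        H ≤ Subgroup.normalizer (B : Set G) → H ≤ fixer ψ → A.relIndex B ∣ p ^ a →
        (¬ ∃ ρ : IrrCharacter B, Ext hAB ψ ρ) →
        count (hAB.trans hBH) ψ (fun d => ¬ p ∣ d) = 0 := by
      intro A B H hAB hBH ψ hn hfix hpow hno
      refine Nat.card_eq_zero.2 (Or.inl ⟨fun χ => hno ?_⟩)
      obtain ⟨ρ, hρ, -⟩ := exists_ext_constituent hAB hBH hn hfix hpow χ.2.1 χ.2.2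
      exact ⟨ρ, hρ⟩
    rw [show count D.hKH θ (fun d => ¬ p ∣ d) = 0 from
        z hKM hMH D.H_le_normalizer_M hθ hpowM hex,
      show count D.C_le_N φ (fun d => ¬ p ∣ d) = 0 from z hCE hEN hNE hφ hpowE hex']
  obtain ⟨ρ', hρ'⟩ := hex
  obtain ⟨ρ₀, hρ₀, hρ₀N⟩ := exists_invariant_ext (p := p) (hMH.trans hθ) (D.N_le_H.trans hθ)
    D.N_le_normalizer_M hEN hEM D.not_dvd_relIndex_D hpowM hρ'
  -- some extension of `φ`
  have hexσ : ∃ σ : IrrCharacter E, Ext hCE φ σ := by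
    have h0 : multNat (hCE.trans hEM) ρ' φ = multNat D.C_le_K θ φ := by
      rw [show multNat (hCE.trans hEM) ρ' φ = _ from multNat_trans D.C_le_K hKM ρ' φ,
        Finset.sum_eq_single θ]
      · rw [hρ'.multNat, one_mul]
      · intro θ' _ hne
        rw [show multNat hKM ρ' θ' = 0 from by_contra fun h' => hne
          (eq_of_fixed hKM (hMH.trans hθ) (by rw [hρ'.multNat]; exact one_ne_zero) h'), zero_mul]
      · simp
    by_contra hno
    push Not at hno
    apply hm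
    rw [← h0, multNat_trans hCE hEM, ZMod.natCast_eq_zero_iff]
    refine Finset.dvd_sum fun η _ => Dvd.dvd.mul_left ?_ _
    by_cases h1 : multNat hCE η φ = 0
    · rw [h1]; exact dvd_zero p
    obtain ⟨j, -, hj⟩ := (Nat.dvd_prime_pow (Fact.out : p.Prime)).1
      ((multNat_dvd_relIndex hCE (hEN.trans hφ) h1).trans hpowE)
    rcases Nat.eq_zero_or_pos j with rfl | hj0
    · refine absurd (ext_of_deg (hEN.trans hφ) h1 ?_) (hno η)
      rw [deg_eq_of_fixed hCE (hEN.trans hφ) h1, hj, pow_zero, one_mul]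
    · rw [hj]; exact dvd_pow_self p hj0.ne'
  obtain ⟨σ', hσ'⟩ := hexσ
  obtain ⟨σ₀, hσ₀, hσ₀N⟩ := exists_invariant_ext (p := p) (hEN.trans hφ) hφ hNE hEN
    le_rfl D.not_dvd_relIndex_D hpowE hσ'
  -- the linear characters correspond
  let ι : E →* M := Subgroup.inclusion hEM
  have hrestr : ∀ {l : M →* ℂˣ}, Triv hKM l → Triv hCE (l.comp ι) := fun {l} hl c =>
    hl ⟨c, D.C_le_K c.2⟩
  have hdecM : ∀ x : M, ∃ k : D.K, ∃ e : E, x = Subgroup.inclusion hKM k * ι e := fun x => by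
    obtain ⟨k, hk, s, hs, he⟩ := exists_mul_of_mem_sup' (D.hSH.trans D.hHK) x.2
    exact ⟨⟨k, hk⟩, ⟨s, Subgroup.mem_sup_right hs⟩, Subtype.ext he.symm⟩
  have hdet : ∀ {l l' : M →* ℂˣ}, Triv hKM l → Triv hKM l' →
      (∀ e, l (ι e) = l' (ι e)) → l = l' := fun {l l'} hl hl' h => MonoidHom.ext fun x => by
    obtain ⟨k, e, rfl⟩ := hdecM x
    rw [map_mul, map_mul, hl k, hl' k, h e]
  have hsurj : ∀ {t : E →* ℂˣ}, Triv hCE t → ∃ l : M →* ℂˣ, Triv hKM l ∧ l.comp ι = t := by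
    intro t ht
    haveI := subgroupOf_normal hMKn hKM
    let q : E →* M ⧸ D.K.subgroupOf M := (QuotientGroup.mk' _).comp ι
    have hq : Function.Surjective q := fun y => by
      obtain ⟨x, rfl⟩ := QuotientGroup.mk_surjective y
      obtain ⟨k, e, rfl⟩ := hdecM x
      refine ⟨e, ?_⟩
      show QuotientGroup.mk (ι e) = QuotientGroup.mk _
      rw [QuotientGroup.mk_mul, (QuotientGroup.eq_one_iff (Subgroup.inclusion hKM k)).2
        (Subgroup.mem_subgroupOf.2 k.2), one_mul]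
    have hker : q.ker ≤ t.ker := fun e he => by
      have hK : (e : G) ∈ D.K := (QuotientGroup.eq_one_iff (N := D.K.subgroupOf M) (ι e)).1 he
      exact ht ⟨e, hK, hEN e.2⟩
    let t' : M ⧸ D.K.subgroupOf M →* ℂˣ := MonoidHom.liftOfSurjective q hq ⟨t, hker⟩
    refine ⟨t'.comp (QuotientGroup.mk' _), fun k => ?_, MonoidHom.ext fun e => ?_⟩
    · rw [MonoidHom.comp_apply, QuotientGroup.mk'_apply,
        (QuotientGroup.eq_one_iff (Subgroup.inclusion hKM k)).2 (Subgroup.mem_subgroupOf.2 k.2),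
        map_one]
    · exact MonoidHom.liftOfRightInverse_comp_apply q _ (Function.rightInverse_surjInv hq) ⟨t, hker⟩ e
  -- the bijection of extensions
  let A := {ρ : IrrCharacter M // Ext hKM θ ρ}
  let A' := {σ : IrrCharacter E // Ext hCE φ σ}
  choose lf hlf hlfe using fun ρ : A => hρ₀.exists_twist ρ.2 hMKn
  let Φ : A → A' := fun ρ => ⟨twist σ₀ ((lf ρ).comp ι), hσ₀.twist (hrestr (hlf ρ))⟩
  have hΦ : Function.Bijective Φ := by
    refine ⟨fun ρ₁ ρ₂ h => ?_, fun σ => ?_⟩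
    · have h1 := hσ₀.twist_injective hECn (hrestr (hlf ρ₁)) (hrestr (hlf ρ₂))
        (congrArg Subtype.val h)
      exact Subtype.ext (by
        rw [hlfe ρ₁, hlfe ρ₂, hdet (hlf ρ₁) (hlf ρ₂) fun e => DFunLike.congr_fun h1 e])
    · obtain ⟨t, ht, hte⟩ := hσ₀.exists_twist σ.2 hECn
      obtain ⟨l, hl, hlt⟩ := hsurj ht
      refine ⟨⟨twist ρ₀ l, hρ₀.twist hl⟩, Subtype.ext ?_⟩
      have hll : lf ⟨twist ρ₀ l, hρ₀.twist hl⟩ = l :=
        hρ₀.twist_injective hMKn (hlf _) hl (hlfe ⟨twist ρ₀ l, hρ₀.twist hl⟩).symm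
      show twist σ₀ ((lf ⟨twist ρ₀ l, hρ₀.twist hl⟩).comp ι) = σ.1
      rw [hll, hlt, hte]
  have hequiv : ∀ (n : G), n ∈ D.N → ∀ ρ₁ ρ₂ : A,
      (Conj E n (Φ ρ₁).1 (Φ ρ₂).1 ↔ Conj M n ρ₁.1 ρ₂.1) := by
    intro n hn ρ₁ ρ₂
    have hnK : n ∈ Subgroup.normalizer (D.K : Set G) := D.hHK (D.N_le_H hn)
    have hnC : n ∈ Subgroup.normalizer (D.C : Set G) := D.N_le_normalizer_C hn
    show Conj E n (twist σ₀ _) (twist σ₀ _) ↔ _
    rw [conj_twist_iff hσ₀ hECn (hσ₀N hn) hnC (hrestr (hlf ρ₁)) (hrestr (hlf ρ₂)), hlfe ρ₁, hlfe ρ₂,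
      conj_twist_iff hρ₀ hMKn (hρ₀N hn) hnK (hlf ρ₁) (hlf ρ₂)]
    constructor
    · intro h k k' hk
      obtain ⟨x, e, rfl⟩ := hdecM k
      have hnE := hNE hn
      let e' : E := ⟨n * e * n⁻¹, (Subgroup.mem_normalizer_iff.1 hnE _).1 e.2⟩
      let x' : D.K := ⟨n * x * n⁻¹, (Subgroup.mem_normalizer_iff.1 hnK _).1 x.2⟩
      rw [show k' = Subgroup.inclusion hKM x' * ι e' from
        Subtype.ext (by simp [x', e', ι, hk, mul_assoc]), map_mul, map_mul, hlf ρ₂ x', hlf ρ₁ x]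
      simp only [one_mul]
      exact h e e' rfl
    · intro h k k' hk
      exact h (ι k) (ι k') hk
  have hfibre : ∀ ρ : A,
      Nat.card {χ : IrrCharacter D.H // multNat hMH χ ρ.1 ≠ 0} =
        Nat.card {χ : IrrCharacter D.N // multNat hEN χ (Φ ρ).1 ≠ 0} := by
    intro ρ
    set σ := (Φ ρ).1
    have hfixeq : ∀ n ∈ D.N, n ∈ fixer σ ↔ n ∈ fixer ρ.1 := fun n hn => hequiv n hn ρ ρ
    have c1 := count_stabilizer D.H_le_normalizer_M hMH ρ.1 fun _ => True
    have c2 := count_stabilizer hNE hEN σ fun _ => True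
    simp only [count, true_and] at c1 c2
    rw [c1, c2]
    set T : Subgroup G := D.H ⊓ fixer ρ.1
    set T' : Subgroup G := D.N ⊓ fixer σ
    have hMT : M ≤ T := le_inf hMH (le_fixer_self ρ.1)
    have hET : E ≤ T' := le_inf hEN (le_fixer_self σ)
    have hT'T : T' ≤ T := fun x hx => ⟨D.N_le_H hx.1, (hfixeq x hx.1).1 hx.2⟩
    obtain ⟨W, hCW, hWT, hWE, hWdec, hWp⟩ := exists_hall_complement (p := p) (C := D.C)
      D.hS (hCE.trans hET) ((le_sup_right : D.S ≤ E).trans hET)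
      (inf_le_left.trans D.N_le_normalizer_C) (inf_le_left.trans hNE)
      (fun h => D.not_dvd_relIndex_D (h.trans
        (Dvd.intro _ (Subgroup.relIndex_mul_relIndex E T' D.N hET inf_le_left))))
    have hWN : W ≤ D.N := hWT.trans inf_le_left
    have hWM : W ⊓ M = D.C := by
      refine le_antisymm (fun x hx => ?_) (le_inf hCW (D.C_le_K.trans hKM))
      rw [← hWE]
      refine ⟨hx.1, ?_⟩
      show x ∈ D.C ⊔ D.S
      rw [← D.inf_sup_eq]
      exact ⟨hx.2, hWN hx.1⟩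
    have hdecT : ∀ x ∈ T, ∃ w ∈ W, ∃ m ∈ M, x = w * m := by
      intro x hx
      obtain ⟨k, hk, n, hn, rfl⟩ := D.hdec x hx.1
      have hnρ : n ∈ fixer ρ.1 := by
        simpa using mul_mem (inv_mem (le_fixer_self ρ.1 (hKM hk))) hx.2
      obtain ⟨w, hw, d, hd, rfl⟩ := hWdec n ⟨hn, (hfixeq n hn).2 hnρ⟩
      refine ⟨w, hw, w⁻¹ * k * w * d, mul_mem ?_ (hEM hd), by group⟩
      have := (Subgroup.mem_normalizer_iff.1 (D.N_le_normalizer_M (inv_mem (hWN hw))) k).1 (hKM hk)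
      simpa using this
    have hdecT' : ∀ x ∈ T', ∃ w ∈ W, ∃ m ∈ E, x = w * m := hWdec
    have f1 := count_eq_sum_omega hMT (hWT.trans hT'T) hdecT (ρ := ρ.1) inf_le_right
    have f2 := count_eq_sum_omega hET hWT hdecT' (ρ := σ) inf_le_right
    rw [hWM] at f1
    rw [show W ⊓ E = D.C from hWE] at f2
    simp only [count, true_and] at f1 f2
    haveI := subgroupOf_normal (hWN.trans D.N_le_normalizer_C) hCW
    have hpair : (∑ w : W, ∑ w' : W,
        if (w : G) * w' * (w : G)⁻¹ * (w' : G)⁻¹ ∈ M then omega ρ.1 w w' else 0) =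
        ∑ w : W, ∑ w' : W,
          if (w : G) * w' * (w : G)⁻¹ * (w' : G)⁻¹ ∈ E then omega σ w w' else 0 := by
      refine Finset.sum_congr rfl fun w _ => Finset.sum_congr rfl fun w' _ => ?_
      have hzW : (w : G) * w' * (w : G)⁻¹ * (w' : G)⁻¹ ∈ W :=
        mul_mem (mul_mem (mul_mem w.2 w'.2) (inv_mem w.2)) (inv_mem w'.2)
      by_cases hzC : (w : G) * w' * (w : G)⁻¹ * (w' : G)⁻¹ ∈ D.C
      · rw [if_pos (hKM (D.C_le_K hzC)), if_pos (hCE hzC),
          omega_extends hKM ρ.2 (hθ (D.N_le_H (hWN w.2))) (hθ (D.N_le_H (hWN w'.2)))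
            (hT'T (hWT w.2)).2 (hT'T (hWT w'.2)).2 (D.C_le_K hzC),
          omega_extends hCE (Φ ρ).2 (hφ (hWN w.2)) (hφ (hWN w'.2)) (hWT w.2).2 (hWT w'.2).2 hzC]
        exact omega_eq D.S D.K D.L D.C D.hS (normalises_of_le_normalizer (D.hSH.trans D.hHK))
          (normalises_of_le_normalizer (D.hSH.trans D.hHL)) D.hLK
          (fun k hk l hl => (Subgroup.mem_normalizer_iff.1 (D.hHL (D.hKH hk)) l).1 hl) D.hidx
          D.fixedMod θ φ (D.hSH.trans hθ) (D.S_le_N.trans hφ) hm w w'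
          (hθ (D.N_le_H (hWN w.2))) (hθ (D.N_le_H (hWN w'.2))) (hφ (hWN w.2)) (hφ (hWN w'.2))
          (D.hHL (D.N_le_H (hWN w.2))) (D.hHL (D.N_le_H (hWN w'.2))) (hWN w.2).2 (hWN w'.2).2
          (D.C.relIndex W) hWp (Subgroup.pow_index_mem (D.C.subgroupOf W) w)
          (Subgroup.pow_index_mem (D.C.subgroupOf W) w') hzC
      · rw [if_neg fun h => hzC (hWM ▸ Subgroup.mem_inf.2 ⟨hzW, h⟩),
          if_neg fun h => hzC (hWE ▸ Subgroup.mem_inf.2 ⟨hzW, h⟩)]
    rw [hpair, ← f2] at f1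
    have hW0 : (Nat.card W : ℂ) * Nat.card D.C ≠ 0 :=
      mul_ne_zero (Nat.cast_ne_zero.2 Nat.card_pos.ne') (Nat.cast_ne_zero.2 Nat.card_pos.ne')
    exact_mod_cast mul_right_cancel₀ hW0 f1
  -- assemble
  unfold count
  refine card_eq_of_fibres (A := A) (A' := A')
    (fun ρ₁ ρ₂ => ∃ n ∈ D.N, Conj M n ρ₁.1 ρ₂.1) (fun σ₁ σ₂ => ∃ n ∈ D.N, Conj E n σ₁.1 σ₂.1)
    ⟨fun ρ => ⟨1, one_mem _, Conj.refl_one _⟩,
      fun ⟨n, hn, h⟩ => ⟨n⁻¹, inv_mem hn, h.symm⟩,
      fun ⟨n, hn, h⟩ ⟨m, hm, h'⟩ => ⟨m * n, mul_mem hm hn, h.trans h'⟩⟩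
    (fun χ ρ => multNat hMH χ.1 ρ.1 ≠ 0) (fun χ σ => multNat hEN χ.1 σ.1 ≠ 0)
    (fun χ => ?_) (fun χ ρ hr ρ₂ => ⟨fun h2 => ?_, fun ⟨n, hn, h⟩ => ?_⟩)
    (fun χ => ?_) (fun χ σ hr σ₂ => ⟨fun h2 => ?_, fun ⟨n, hn, h⟩ => ?_⟩)
    (Equiv.ofBijective Φ hΦ) (fun ρ₁ ρ₂ => ?_) (fun ρ => ?_)
  · obtain ⟨ρ, hρ, h⟩ := exists_ext_constituent hKM hMH D.H_le_normalizer_M hθ hpowM χ.2.1 χ.2.2
    exact ⟨⟨ρ, hρ⟩, h⟩
  · obtain ⟨x, hx, h⟩ := exists_conj_of_constituents D.H_le_normalizer_M hMH hr h2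
    obtain ⟨k, hk, n, hn, rfl⟩ := D.hdec x hx
    refine ⟨n, hn, ?_⟩
    obtain ⟨ρ₃, h3⟩ := exists_conj (D.N_le_normalizer_M hn) ρ.1
    have h4 : Conj M k⁻¹ ρ₂.1 ρ₂.1 := le_fixer_self ρ₂.1 (inv_mem (hKM hk))
    have h5 := h.trans h4
    rw [inv_mul_cancel_left] at h5
    exact h5
  · have hc : Conj D.H n χ.1 χ.1 := le_fixer_self χ.1 (D.N_le_H hn)
    rw [multNat_conj hMH hc h]
    exact hr
  · obtain ⟨σ, hσ, h⟩ := exists_ext_constituent hCE hEN hNE hφ hpowE χ.2.1 χ.2.2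
    exact ⟨⟨σ, hσ⟩, h⟩
  · obtain ⟨x, hx, h⟩ := exists_conj_of_constituents hNE hEN hr h2
    exact ⟨x, hx, h⟩
  · have hc : Conj D.N n χ.1 χ.1 := le_fixer_self χ.1 hn
    rw [multNat_conj hEN hc h]
    exact hr
  · exact ⟨fun ⟨n, hn, h⟩ => ⟨n, hn, (hequiv n hn ρ₁ ρ₂).1 h⟩,
      fun ⟨n, hn, h⟩ => ⟨n, hn, (hequiv n hn ρ₁ ρ₂).2 h⟩⟩
  · have e1 : ∀ (A B H : Subgroup G) (hAB : A ≤ B) (hBH : B ≤ H) (ψ : IrrCharacter A)
        (η : IrrCharacter B), H ≤ Subgroup.normalizer (B : Set G) → ¬ p ∣ B.relIndex H →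
        Ext hAB ψ η → ¬ p ∣ deg ψ →
        Nat.card {b : {χ : IrrCharacter H // ¬ p ∣ deg χ ∧ multNat (hAB.trans hBH) χ ψ ≠ 0} //
          multNat hBH b.1 η ≠ 0} = Nat.card {χ : IrrCharacter H // multNat hBH χ η ≠ 0} := by
      intro A B H hAB hBH ψ η hn hi he hψ
      refine Nat.card_congr ((Equiv.subtypeSubtypeEquivSubtypeInter
        (fun χ : IrrCharacter H => ¬ p ∣ deg χ ∧ multNat (hAB.trans hBH) χ ψ ≠ 0)
        (fun χ => multNat hBH χ η ≠ 0)).trans (Equiv.subtypeEquivRight fun χ =>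
          ⟨fun h => h.2, fun h => ⟨⟨count_over_ext hBH hn hi (by rw [he.deg_eq]; exact hψ) h,
            multNat_trans_ne_zero hAB hBH h (by rw [he.multNat]; exact one_ne_zero)⟩, h⟩⟩))
    rw [Equiv.ofBijective_apply]
    exact (e1 _ _ _ hKM hMH θ ρ.1 D.H_le_normalizer_M D.not_dvd_relIndex_M ρ.2 hpd).trans
      ((hfibre ρ).trans
        (e1 _ _ _ hCE hEN φ (Φ ρ).1 hNE D.not_dvd_relIndex_D (Φ ρ).2 hφd).symm)

end CfsgLib.RelMcKay
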