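import Cfsg.Agent.RelMcKay.Omega
import Cfsg.Agent.RelMcKay.Extensions
import Cfsg.Agent.Characters.Integrality

/-!
# The trace criterion for equality of the commutator pairings

If `θ` and `φ` correspond and a lift of `a` has nonzero trace on the multiplicity space, their
pairings agree at `(a, y)`.  The trace is nonzero when `a` centralises the acting `p`-group modulo
`L`, by the relative Glauberman correspondence in the cyclic overgroups.
-/

set_option autoImplicit false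
set_option linter.unusedSectionVars false
set_option linter.style.haveILetI false

namespace CfsgLib.RelMcKay

open Cfsg CfsgLib.Characters CfsgLib.RelGlauberman CfsgLib.CharactersDeep
open scoped ComplexConjugate Classical Pointwise

variable {G : Type*} [Group G] [Finite G]

noncomputable local instance instFintypeSub3 (H : Subgroup G) : Fintype H := Fintype.ofFinite H

theorem omega_eq_of_sum_ne_zero {C K : Subgroup G} (hCK : C ≤ K) {θ : IrrCharacter K}
    {φ : IrrCharacter C} {g h : G} (hg : g ∈ fixer θ) (hh : h ∈ fixer θ) (hg' : g ∈ fixer φ)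
    (hh' : h ∈ fixer φ) (hz : g * h * g⁻¹ * h⁻¹ ∈ C) (R : Model θ) (R' : Model φ)
    {T : (Module.End ℂ (Fin R.d → ℂ))ˣ} {T' : (Module.End ℂ (Fin R'.d → ℂ))ˣ}
    (hT : R.Lifts g T) (hT' : R'.Lifts g T')
    (hne : ∑ c : C, LinearMap.trace ℂ _ ((T : Module.End ℂ (Fin R.d → ℂ)) *
        R.rep (Subgroup.inclusion hCK c)) *
      LinearMap.trace ℂ _ (R'.rep c⁻¹ * (↑T'⁻¹ : Module.End ℂ (Fin R'.d → ℂ))) ≠ 0) :
    omega θ g h = omega φ g h := by
  obtain ⟨U, hU⟩ := R.exists_lifts hh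
  obtain ⟨U', hU'⟩ := R'.exists_lifts hh'
  obtain ⟨w, hw0, hw⟩ := R.exists_scalar hT hU hg hh ⟨_, hCK hz⟩ rfl
  obtain ⟨w', hw0', hw'⟩ := R'.exists_scalar hT' hU' hg' hh' ⟨_, hz⟩ rfl
  have hnC : ∀ {x : G}, x ∈ fixer φ → ∀ k ∈ C, x * k * x⁻¹ ∈ C := fun {x} hx k hk =>
    (Subgroup.mem_normalizer_iff.1 (hx : Conj C x φ φ).1 k).1 hk
  let z : C := ⟨_, hz⟩
  let z₂ : C := ⟨g⁻¹ * z * g, by simpa using hnC (inv_mem hg') _ z.2⟩
  let e : C ≃ C :=
    { toFun := fun c => z₂⁻¹ * ⟨h * c * h⁻¹, hnC hh' _ c.2⟩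
      invFun := fun c => ⟨h⁻¹ * (z₂ * c : C) * h, by simpa using hnC (inv_mem hh') _ (z₂ * c).2⟩
      left_inv := fun c => Subtype.ext (by simp [mul_assoc])
      right_inv := fun c => Subtype.ext (by simp [mul_assoc]) }
  set F : C → ℂ := fun c => LinearMap.trace ℂ _ ((T : Module.End ℂ (Fin R.d → ℂ)) *
        R.rep (Subgroup.inclusion hCK c)) *
      LinearMap.trace ℂ _ (R'.rep c⁻¹ * (↑T'⁻¹ : Module.End ℂ (Fin R'.d → ℂ))) with hF
  have h1 : (U : Module.End ℂ (Fin R.d → ℂ)) * ↑T⁻¹ * ↑U⁻¹ =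
      w • ((↑T⁻¹ : Module.End ℂ (Fin R.d → ℂ)) * R.rep (Subgroup.inclusion hCK z)) := by
    rw [← mul_smul_comm]
    exact (congrArg ((↑T⁻¹ : Module.End ℂ (Fin R.d → ℂ)) * ·) hw.symm).trans (by
      simp [← mul_assoc]) |>.symm
  have h2 : (U : Module.End ℂ (Fin R.d → ℂ)) * T * ↑U⁻¹ =
      w⁻¹ • (R.rep (Subgroup.inclusion hCK z)⁻¹ * T) := by
    have hX : ((U : Module.End ℂ (Fin R.d → ℂ)) * T * ↑U⁻¹) *
        (w • ((↑T⁻¹ : Module.End ℂ (Fin R.d → ℂ)) * R.rep (Subgroup.inclusion hCK z))) = 1 := by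
      rw [← h1]
      simp only [← mul_assoc, Units.inv_mul_cancel_right, Units.mul_inv_cancel_right, Units.mul_inv]
    calc _ = ((U : Module.End ℂ (Fin R.d → ℂ)) * T * ↑U⁻¹) *
          ((w • ((↑T⁻¹ : Module.End ℂ (Fin R.d → ℂ)) * R.rep (Subgroup.inclusion hCK z))) *
            (w⁻¹ • (R.rep (Subgroup.inclusion hCK z)⁻¹ * T))) := by
          rw [smul_mul_smul_comm, mul_inv_cancel₀ hw0, one_smul, mul_assoc _ _ (R.rep _ * _),
            ← mul_assoc (R.rep _) (R.rep _), ← map_mul, mul_inv_cancel, map_one, one_mul,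
            Units.inv_mul, mul_one]
      _ = _ := by rw [← mul_assoc, hX, one_mul]
  have h3 : (U' : Module.End ℂ (Fin R'.d → ℂ)) * ↑T'⁻¹ * ↑U'⁻¹ =
      w' • (R'.rep z₂ * (↑T'⁻¹ : Module.End ℂ (Fin R'.d → ℂ))) := by
    have hcj : R'.rep z₂ * (↑T'⁻¹ : Module.End ℂ (Fin R'.d → ℂ)) = ↑T'⁻¹ * R'.rep z := by
      rw [Units.mul_inv_eq_iff_eq_mul, mul_assoc, Units.eq_inv_mul_iff_mul_eq]
      exact hT' z₂ z (by simp [z₂, mul_assoc])
    rw [hcj, ← mul_smul_comm]
    exact (congrArg ((↑T'⁻¹ : Module.End ℂ (Fin R'.d → ℂ)) * ·) hw'.symm).trans (by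
      simp [← mul_assoc]) |>.symm
  have hinv : ∀ c, F c = w⁻¹ * w' * F (e c) := by
    intro c
    have hA : (U : Module.End ℂ (Fin R.d → ℂ)) *
        ((T : Module.End ℂ (Fin R.d → ℂ)) * R.rep (Subgroup.inclusion hCK c)) * ↑U⁻¹ =
        w⁻¹ • ((T : Module.End ℂ (Fin R.d → ℂ)) * R.rep (Subgroup.inclusion hCK (e c))) := by
      have hcU := Model.Lifts.conj_rep R hU (Subgroup.inclusion hCK c)
        (Subgroup.inclusion hCK ⟨h * c * h⁻¹, hnC hh' _ c.2⟩) rfl
      have hmap : R.rep (Subgroup.inclusion hCK (e c)) = R.rep (Subgroup.inclusion hCK z₂⁻¹) *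
          R.rep (Subgroup.inclusion hCK ⟨h * c * h⁻¹, hnC hh' _ c.2⟩) := by
        rw [← map_mul]; exact congrArg _ (map_mul _ _ _)
      have hcomm : (T : Module.End ℂ (Fin R.d → ℂ)) * R.rep (Subgroup.inclusion hCK z₂⁻¹) =
          R.rep (Subgroup.inclusion hCK z)⁻¹ * T :=
        hT _ _ (by simp [z₂, mul_assoc])
      rw [hmap, ← mul_assoc (T : Module.End ℂ (Fin R.d → ℂ)), hcomm, ← hcU, ← smul_mul_assoc, ← h2]
      simp only [← mul_assoc, Units.inv_mul_cancel_right]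
    have hB : (U' : Module.End ℂ (Fin R'.d → ℂ)) *
        (R'.rep c⁻¹ * (↑T'⁻¹ : Module.End ℂ (Fin R'.d → ℂ))) * ↑U'⁻¹ =
        w' • (R'.rep (e c)⁻¹ * (↑T'⁻¹ : Module.End ℂ (Fin R'.d → ℂ))) := by
      have hcU := Model.Lifts.conj_rep R' hU' c⁻¹
        ⟨h * (c⁻¹ : C) * h⁻¹, hnC hh' _ (c⁻¹).2⟩ rfl
      have hmap : R'.rep (e c)⁻¹ = R'.rep ⟨h * (c⁻¹ : C) * h⁻¹, hnC hh' _ (c⁻¹).2⟩ * R'.rep z₂ := by
        rw [← map_mul]
        exact congrArg _ (Subtype.ext (by simp [e, mul_assoc]))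
      rw [hmap, mul_assoc (R'.rep _) (R'.rep z₂), ← mul_smul_comm, ← h3, ← hcU]
      simp only [← mul_assoc, Units.inv_mul_cancel_right]
    have tA : ∀ X : Module.End ℂ (Fin R.d → ℂ),
        LinearMap.trace ℂ _ ((U : Module.End ℂ (Fin R.d → ℂ)) * X * (↑U⁻¹ : Module.End ℂ (Fin R.d → ℂ))) = LinearMap.trace ℂ _ X :=
      fun X => by rw [LinearMap.trace_mul_comm, ← mul_assoc, Units.inv_mul, one_mul]
    have tB : ∀ X : Module.End ℂ (Fin R'.d → ℂ),
        LinearMap.trace ℂ _ ((U' : Module.End ℂ (Fin R'.d → ℂ)) * X * (↑U'⁻¹ : Module.End ℂ (Fin R'.d → ℂ))) =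
          LinearMap.trace ℂ _ X :=
      fun X => by rw [LinearMap.trace_mul_comm, ← mul_assoc, Units.inv_mul, one_mul]
    show LinearMap.trace ℂ _ _ * LinearMap.trace ℂ _ _ = _
    rw [← tA, ← tB (R'.rep c⁻¹ * _), hA, hB, map_smul, map_smul, smul_eq_mul, smul_eq_mul]
    simp only [hF]
    ring
  have hsum : ∑ c, F c = w⁻¹ * w' * ∑ c, F c := by
    conv_lhs => rw [Finset.sum_congr rfl fun c _ => hinv c, ← Finset.mul_sum, e.sum_comp F]
  have hww : w⁻¹ * w' = 1 := (mul_eq_right₀ hne).1 hsum.symm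
  rw [R.omega_eq hT hU hg hh _ rfl hw0 hw, R'.omega_eq hT' hU' hg' hh' _ rfl hw0' hw']
  rw [inv_mul_eq_one₀ hw0] at hww
  rw [hww]

variable {p : ℕ} [Fact p.Prime]

/-- A `p`-group centralising `M ⧸ K` fixes every extension of a fixed character, for `p'` index. -/
theorem le_fixer_of_ext {Q K M : Subgroup G} (hQ : IsPGroup p Q) (hKM : K ≤ M)
    (hn : M ≤ Subgroup.normalizer (K : Set G)) (hQM : Q ≤ Subgroup.normalizer (M : Set G))
    (htriv : ∀ s ∈ Q, ∀ k ∈ M, s * k * s⁻¹ * k⁻¹ ∈ K) (hidx : ¬ p ∣ K.relIndex M)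
    {θ : IrrCharacter K} (hθ : Q ≤ fixer θ) {ρ : IrrCharacter M} (hext : Ext hKM θ ρ) :
    Q ≤ fixer ρ := by
  intro s hs
  obtain ⟨ρ', hρ'⟩ := exists_conj (hQM hs) ρ
  obtain ⟨l, hl, he⟩ := hext.exists_twist (Conj.ext hext hρ' (hθ hs)) hn
  have hlinv : ∀ k k' : M, (k' : G) = s * k * s⁻¹ → l k' = l k := by
    intro k k' hk
    let z : K := ⟨_, htriv s hs k k.2⟩
    have : k' = Subgroup.inclusion hKM z * k := Subtype.ext (by simp [z, hk])
    rw [this, map_mul, hl z, one_mul]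
  have hpow : ∀ j : ℕ, Conj M (s ^ j) ρ (twist ρ (l ^ j)) := by
    intro j
    induction j with
    | zero => rw [pow_zero, show l ^ 0 = 1 from MonoidHom.ext fun _ => pow_zero _, twist_one]; exact Conj.refl_one ρ
    | succ j ih =>
      have h1 : Conj M s (twist ρ (l ^ j)) (twist ρ (l ^ (j + 1))) := by
        refine ⟨hQM hs, fun k k' hk => ?_⟩
        have h2 := hρ'.2 k k' hk
        rw [he, twist_apply] at h2
        rw [twist_apply, twist_apply, ← h2, MonoidHom.pow_apply, MonoidHom.pow_apply, pow_succ,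
          Units.val_mul, hlinv k k' hk]
        ring
      have h3 := ih.trans h1
      rwa [← pow_succ'] at h3
  obtain ⟨n, hn'⟩ := hQ ⟨s, hs⟩
  have hsn : s ^ p ^ n = 1 := congrArg Subtype.val hn'
  have h1 : l ^ p ^ n = 1 := by
    refine hext.twist_injective hn (l' := 1) (fun k => ?_) (fun k => rfl) ?_
    · rw [MonoidHom.pow_apply, hl k, one_pow]
    · rw [twist_one]
      exact (hpow (p ^ n)).unique (hsn.symm ▸ Conj.refl_one ρ)
  have h2 : l ^ K.relIndex M = 1 := by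
    haveI := subgroupOf_normal hn hKM
    refine MonoidHom.ext fun k => ?_
    rw [MonoidHom.pow_apply, ← map_pow, MonoidHom.one_apply]
    have hk := Subgroup.pow_index_mem (K.subgroupOf M) k
    exact hl ⟨((k ^ K.relIndex M : M) : G), hk⟩
  have hl1 : l = 1 := by
    have hco : Nat.Coprime (p ^ n) (K.relIndex M) :=
      Nat.Coprime.pow_left _ ((Fact.out : p.Prime).coprime_iff_not_dvd.2 hidx)
    refine MonoidHom.ext fun k => ?_
    have e1 : (l k) ^ p ^ n = 1 := by rw [← MonoidHom.pow_apply, h1]; rfl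
    have e2 : (l k) ^ K.relIndex M = 1 := by rw [← MonoidHom.pow_apply, h2]; rfl
    have := pow_gcd_eq_one.2 ⟨e1, e2⟩
    rwa [hco, pow_one] at this
  rw [hl1, twist_one] at he
  exact he ▸ hρ'

theorem exists_mul_of_mem_sup_zpowers {K : Subgroup G} {a : G}
    (ha : a ∈ Subgroup.normalizer (K : Set G)) {y : G} (hy : y ∈ K ⊔ Subgroup.zpowers a) :
    ∃ k ∈ K, ∃ z ∈ Subgroup.zpowers a, k * z = y := by
  have h := Subgroup.coe_mul_of_right_le_normalizer_left K (Subgroup.zpowers a)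
    (Subgroup.zpowers_le.2 ha)
  have hy' : y ∈ (K : Set G) * (Subgroup.zpowers a : Set G) := by rw [← h]; exact hy
  obtain ⟨k, hk, z, hz, e⟩ := hy'
  exact ⟨k, hk, z, hz, e⟩

theorem relIndex_sup_zpowers {K : Subgroup G} {a : G}
    (ha : a ∈ Subgroup.normalizer (K : Set G)) {r : ℕ} (hr : a ^ r ∈ K) :
    K.relIndex (K ⊔ Subgroup.zpowers a) ∣ r := by
  set M : Subgroup G := K ⊔ Subgroup.zpowers a
  haveI := subgroupOf_normal (K := K) (H := M)
    (sup_le Subgroup.le_normalizer (Subgroup.zpowers_le.2 ha)) le_sup_left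
  set N := K.subgroupOf M
  set x : M ⧸ N := ((⟨a, le_sup_right (a := K) (Subgroup.mem_zpowers a)⟩ : M) : M ⧸ N) with hx
  have hgen : ∀ y : M ⧸ N, y ∈ Subgroup.zpowers x := by
    intro y
    obtain ⟨⟨y, hy⟩, rfl⟩ := QuotientGroup.mk_surjective y
    obtain ⟨k, hk, z, ⟨i, rfl⟩, rfl⟩ := exists_mul_of_mem_sup_zpowers ha hy
    refine ⟨i, ?_⟩
    show x ^ i = _
    rw [hx, ← QuotientGroup.mk_zpow, QuotientGroup.eq_iff_div_mem, Subgroup.mem_subgroupOf]
    simpa [div_eq_mul_inv] using K.inv_mem hk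
  rw [Subgroup.relIndex, Subgroup.index_eq_card, ← orderOf_eq_card_of_forall_mem_zpowers hgen]
  refine orderOf_dvd_of_pow_eq_one ?_
  rw [hx, ← QuotientGroup.mk_pow, QuotientGroup.eq_one_iff]
  exact hr

/-- The pairings agree at `(a, y)` when `a` centralises the acting group modulo `L`. -/
theorem omega_eq_of_centralizes {Q L D C : Subgroup G} (hQ : IsPGroup p Q) (hQD : Normalises Q D)
    (hQL : Normalises Q L) (hLD : L ≤ D) (hLn : ∀ k ∈ D, ∀ l ∈ L, k * l * k⁻¹ ∈ L)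
    (hidx : ¬ p ∣ L.relIndex D) (hC : IsFixedMod Q D L C) {η : IrrCharacter D}
    {φ : IrrCharacter C} (hη : Q ≤ fixer η) (hφ : Q ≤ fixer φ)
    (hm : (multNat hC.le η φ : ZMod p) ≠ 0) {a y : G} (haL : a ∈ Subgroup.normalizer (L : Set G))
    {r : ℕ} (hr : a ^ r ∈ C) (hrp : ¬ p ∣ r) (hcent : ∀ s ∈ Q, s * a * s⁻¹ * a⁻¹ ∈ L)
    (haη : a ∈ fixer η) (haφ : a ∈ fixer φ) (hyη : y ∈ fixer η) (hyφ : y ∈ fixer φ)
    (hz : a * y * a⁻¹ * y⁻¹ ∈ C) : omega η a y = omega φ a y := by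
  haveI := Fintype.ofFinite (Cfsg.IrrCharacter C)
  have haD : a ∈ Subgroup.normalizer (D : Set G) := fixer_le_normalizer η haη
  have haC : a ∈ Subgroup.normalizer (C : Set G) := fixer_le_normalizer φ haφ
  have hCD : C ≤ D := hC.le
  have hLC : L ≤ C := fun l hl => (hC l).2 ⟨hLD hl, fun s hs =>
    mul_mem (hQL s hs l hl) (inv_mem hl)⟩
  obtain ⟨C₀, hC₀⟩ := exists_fixedMod Q (Subgroup.normalizer (L : Set G)) L
    fun k hk q hq => (Subgroup.mem_normalizer_iff.1 hk q).1 hq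
  have haC₀ : Subgroup.zpowers a ≤ C₀ := Subgroup.zpowers_le.2 ((hC₀ a).2 ⟨haL, hcent⟩)
  have hDL : D ≤ Subgroup.normalizer (L : Set G) := by
    intro k hk
    rw [Subgroup.mem_normalizer_iff]
    refine fun l => ⟨fun hl => hLn k hk l hl, fun hl => ?_⟩
    have := hLn k⁻¹ (inv_mem hk) _ hl
    simpa [mul_assoc] using this
  let Dp : Subgroup G := D ⊔ Subgroup.zpowers a
  let Cp : Subgroup G := C ⊔ Subgroup.zpowers a
  have hDDp : D ≤ Dp := le_sup_left
  have hCCp : C ≤ Cp := le_sup_left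
  have hDpL : Dp ≤ Subgroup.normalizer (L : Set G) := sup_le hDL (Subgroup.zpowers_le.2 haL)
  have hC0fix : ∀ k ∈ C₀, ∀ s ∈ Q, s * k * s⁻¹ * k⁻¹ ∈ L := fun k hk => ((hC₀ k).1 hk).2
  have hCp_le : Cp ≤ C₀ :=
    sup_le (fun k hk => (hC₀ k).2 ⟨hDL (hCD hk), ((hC k).1 hk).2⟩) haC₀
  have hfixp : IsFixedMod Q Dp L Cp := by
    intro k
    refine ⟨fun hk => ⟨sup_le (hCD.trans hDDp) le_sup_right hk, hC0fix k (hCp_le hk)⟩,
      fun ⟨hk, hk'⟩ => ?_⟩
    obtain ⟨d, hd, z, hz, rfl⟩ := exists_mul_of_mem_sup_zpowers haD hk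
    have hd0 : d ∈ C₀ := by
      have h1 : d * z ∈ C₀ := (hC₀ _).2 ⟨hDpL hk, hk'⟩
      simpa using mul_mem h1 (inv_mem (haC₀ hz))
    exact mul_mem (le_sup_left (a := C) ((hC d).2 ⟨hd, hC0fix d hd0⟩)) (le_sup_right (a := C) hz)
  have hQDp : Normalises Q Dp := by
    intro s hs k hk
    obtain ⟨d, hd, z, hz, rfl⟩ := exists_mul_of_mem_sup_zpowers haD hk
    have e : s * (d * z) * s⁻¹ = (s * d * s⁻¹) * (s * z * s⁻¹ * z⁻¹) * z := by group
    rw [e]
    exact mul_mem (mul_mem (hDDp (hQD s hs d hd)) (hDDp (hLD (hC0fix z (haC₀ hz) s hs))))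
      (le_sup_right (a := D) hz)
  have hQCp : Normalises Q Cp := hfixp.normalises hQDp hQL
    fun x hx y hy => mul_mem (mul_mem hx hy) (inv_mem hx)
  have hrD : D.relIndex Dp ∣ r := relIndex_sup_zpowers haD (hCD hr)
  have hrC : C.relIndex Cp ∣ r := relIndex_sup_zpowers haC hr
  have hidxp : ¬ p ∣ L.relIndex Dp := by
    rw [← Subgroup.relIndex_mul_relIndex L D Dp hLD hDDp]
    intro h
    exact ((Fact.out : p.Prime).dvd_mul.1 h).elim hidx fun h' => hrp (h'.trans hrD)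
  obtain ⟨χ, hχ⟩ := exists_ext_cyclic haη
  obtain ⟨ξ₀, hξ₀⟩ := exists_ext_cyclic haφ
  have hDpη : Dp ≤ fixer η := sup_le (le_fixer_self η) (Subgroup.zpowers_le.2 haη)
  have hCpφ : Cp ≤ fixer φ := sup_le (le_fixer_self φ) (Subgroup.zpowers_le.2 haφ)
  have hQDn : Q ≤ Subgroup.normalizer (Dp : Set G) := fun s hs => by
    rw [Subgroup.mem_normalizer_iff]
    refine fun k => ⟨fun hk => hQDp s hs k hk, fun hk => ?_⟩
    have := hQDp s⁻¹ (inv_mem hs) _ hk
    simpa [mul_assoc] using this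
  have hQCn : Q ≤ Subgroup.normalizer (Cp : Set G) := fun s hs => by
    rw [Subgroup.mem_normalizer_iff]
    refine fun k => ⟨fun hk => hQCp s hs k hk, fun hk => ?_⟩
    have := hQCp s⁻¹ (inv_mem hs) _ hk
    simpa [mul_assoc] using this
  have hQχ : Q ≤ fixer χ := by
    refine le_fixer_of_ext hQ hDDp (hDpη.trans (fixer_le_normalizer η)) hQDn ?_
      (fun h => hrp (h.trans hrD)) hη hχ
    intro s hs k hk
    obtain ⟨d, hd, z, hz, rfl⟩ := exists_mul_of_mem_sup_zpowers haD hk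
    have e : s * (d * z) * s⁻¹ * (d * z)⁻¹ =
        (s * d * s⁻¹) * (s * z * s⁻¹ * z⁻¹) * d⁻¹ := by group
    rw [e]
    exact mul_mem (mul_mem (hQD s hs d hd) (hLD (hC0fix z (haC₀ hz) s hs))) (inv_mem hd)
  have hQext : ∀ {ξ : IrrCharacter Cp}, Ext hCCp φ ξ → Q ≤ fixer ξ := fun {ξ} hξ =>
    le_fixer_of_ext hQ hCCp (hCpφ.trans (fixer_le_normalizer φ)) hQCn
      (fun s hs k hk => hLC (hC0fix k (hCp_le hk) s hs)) (fun h => hrp (h.trans hrC)) hφ hξ
  obtain ⟨f, hf⟩ := (hasCorr_iff hfixp.le).1 (relative_glauberman Q Dp L Cp hQ hQDp hQL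
    (hLD.trans hDDp) (fun k hk l hl => (Subgroup.mem_normalizer_iff.1 (hDpL hk) l).1 hl) hidxp hfixp)
  let χi : Inv Q Dp := ⟨χ, pInv_of_le_fixer hQχ⟩
  -- the multiplicity of `φ` in `χ`
  have hχφ : multNat (hCD.trans hDDp) χ φ = multNat hCD η φ := by
    rw [multNat_trans hCD hDDp, Finset.sum_eq_single η]
    · rw [hχ.multNat, one_mul]
    · intro η' _ hne
      rw [show multNat hDDp χ η' = 0 from by_contra fun h' =>
        hne (eq_of_fixed hDDp hDpη (by rw [hχ.multNat]; exact one_ne_zero) h'), zero_mul]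
    · simp
  have hchain : multNat (hCD.trans hDDp) χ φ =
      ∑ ξ', multNat hfixp.le χ ξ' * multNat hCCp ξ' φ := multNat_trans hCCp hfixp.le χ φ
  have hnQC : Normalises Q C := hC.normalises hQD hQL
    fun x hx y hy => mul_mem (mul_mem hx hy) (inv_mem hx)
  have hξφ : multNat hCCp (f χi).1 φ ≠ 0 := by
    intro h0
    apply hm
    rw [← hχφ, hchain]
    push_cast
    rw [sum_irr_mod_p hQ hQCp _ fun s ξ' => by
      have h1 := multNat_smul hQDp hQCp hfixp.le s χ ξ'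
      rw [(pInv_iff_fixed hQDp _).1 (pInv_of_le_fixer hQχ) s] at h1
      have h2 := multNat_smul hQCp hnQC hCCp s ξ' φ
      rw [(pInv_iff_fixed hnQC _).1 (pInv_of_le_fixer hφ) s] at h2
      rw [h1, h2]]
    refine Finset.sum_eq_zero fun ξ' hξ' => ?_
    by_cases he : (⟨ξ', (Finset.mem_filter.1 hξ').2⟩ : Inv Q Cp) = f χi
    · rw [show ξ' = (f χi).1 from congrArg Subtype.val he, h0, Nat.cast_zero, mul_zero]
    · rw [(hf χi ⟨ξ', (Finset.mem_filter.1 hξ').2⟩).2 he, zero_mul]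
  have hCpn : Cp ≤ Subgroup.normalizer (C : Set G) := hCpφ.trans (fixer_le_normalizer φ)
  have hcomm : ∀ x ∈ Cp, ∀ y ∈ Cp, x * y * x⁻¹ * y⁻¹ ∈ C := by
    intro x hx y hy
    obtain ⟨c, hc, _, ⟨i, rfl⟩, rfl⟩ := exists_mul_of_mem_sup_zpowers haC hx
    obtain ⟨d, hd, _, ⟨j, rfl⟩, rfl⟩ := exists_mul_of_mem_sup_zpowers haC hy
    have hn : ∀ (i : ℤ), ∀ k ∈ C, a ^ i * k * (a ^ i)⁻¹ ∈ C := fun i k hk =>
      (Subgroup.mem_normalizer_iff.1 (zpow_mem haC i) k).1 hk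
    have e : c * a ^ i * (d * a ^ j) * (c * a ^ i)⁻¹ * (d * a ^ j)⁻¹ =
        c * (a ^ i * d * (a ^ i)⁻¹) * (a ^ j * c⁻¹ * (a ^ j)⁻¹) * d⁻¹ := by group
    show c * a ^ i * (d * a ^ j) * (c * a ^ i)⁻¹ * (d * a ^ j)⁻¹ ∈ C
    rw [e]
    exact mul_mem (mul_mem (mul_mem hc (hn i d hd)) (hn j _ (inv_mem hc))) (inv_mem hd)
  obtain ⟨l₀, hl₀, hξ⟩ := hξ₀.exists_twist_of_over hCpn hcomm hξφ
  set ξ := (f χi).1
  have hξext : Ext hCCp φ ξ := hξ ▸ hξ₀.twist hl₀
  have hξne : (multNat hfixp.le χ ξ : ZMod p) ≠ 0 := by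
    rcases (hf χi (f χi)).1 rfl with h | h <;> rw [h] <;> simp
  have hothers : ∀ l : Cp →* ℂˣ, Triv hCCp l → l ≠ 1 →
      p ∣ multNat hfixp.le χ (twist ξ l) := by
    intro l hl hl1
    rw [← ZMod.natCast_eq_zero_iff]
    refine (hf χi ⟨twist ξ l, pInv_of_le_fixer (hQext (hξext.twist hl))⟩).2 fun he => hl1 ?_
    refine hξext.twist_injective hCpn hl (fun k => rfl) ?_
    rw [twist_one]
    exact congrArg Subtype.val he
  -- the models
  obtain ⟨P⟩ := nonempty_model χ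
  obtain ⟨P'⟩ := nonempty_model ξ
  have hcharD : Representation.character (P.rep.comp (Subgroup.inclusion hDDp)) = (η : D → ℂ) := by
    funext k
    show P.rep.character (Subgroup.inclusion hDDp k) = _
    rw [P.char]; exact hχ k
  haveI : Representation.IsIrreducible (P.rep.comp (Subgroup.inclusion hDDp)) := by
    rw [isIrreducible_iff_classInner, hcharD]; exact classInner_isIrr_self η.2
  have hcharC : Representation.character (P'.rep.comp (Subgroup.inclusion hCCp)) = (φ : C → ℂ) := by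
    funext k
    show P'.rep.character (Subgroup.inclusion hCCp k) = _
    rw [P'.char]; exact hξext k
  haveI : Representation.IsIrreducible (P'.rep.comp (Subgroup.inclusion hCCp)) := by
    rw [isIrreducible_iff_classInner, hcharC]; exact classInner_isIrr_self φ.2
  let R : Model η := ⟨P.d, P.rep.comp (Subgroup.inclusion hDDp), inferInstance, hcharD⟩
  let R' : Model φ := ⟨P'.d, P'.rep.comp (Subgroup.inclusion hCCp), inferInstance, hcharC⟩
  let aD : Dp := ⟨a, le_sup_right (a := D) (Subgroup.mem_zpowers a)⟩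
  let aC : Cp := ⟨a, le_sup_right (a := C) (Subgroup.mem_zpowers a)⟩
  refine omega_eq_of_sum_ne_zero hCD haη hyη haφ hyφ hz R R' (T := P.rep.toHomUnits aD)
    (T' := P'.rep.toHomUnits aC) (fun k k' hk => P.lifts_self aD _ _ hk)
    (fun k k' hk => P'.lifts_self aC _ _ hk) ?_
  -- the sum in terms of characters
  have hterm : ∀ c : C, LinearMap.trace ℂ _ ((P.rep.toHomUnits aD : Module.End ℂ (Fin P.d → ℂ)) *
        R.rep (Subgroup.inclusion hCD c)) *
      LinearMap.trace ℂ _ (R'.rep c⁻¹ *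
        (↑(P'.rep.toHomUnits aC)⁻¹ : Module.End ℂ (Fin P'.d → ℂ))) =
      (χ : Dp → ℂ) (Subgroup.inclusion hfixp.le (aC * Subgroup.inclusion hCCp c)) *
        conj ((ξ : Cp → ℂ) (aC * Subgroup.inclusion hCCp c)) := by
    intro c
    rw [← map_inv, MonoidHom.coe_toHomUnits, MonoidHom.coe_toHomUnits]
    have e1 : (P.rep aD : Module.End ℂ (Fin P.d → ℂ)) * R.rep (Subgroup.inclusion hCD c) =
        P.rep (Subgroup.inclusion hfixp.le (aC * Subgroup.inclusion hCCp c)) :=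
      (map_mul P.rep aD _).symm.trans (congrArg _ (Subtype.ext rfl))
    have e2 : R'.rep c⁻¹ * (P'.rep aC⁻¹ : Module.End ℂ (Fin P'.d → ℂ)) =
        P'.rep (aC * Subgroup.inclusion hCCp c)⁻¹ := by
      show P'.rep (Subgroup.inclusion hCCp c⁻¹) * P'.rep aC⁻¹ = _
      rw [← map_mul, mul_inv_rev, map_inv]
    rw [e1, e2, ← character_inv (isCharacter_of_isIrr ξ.2), ← P.char, ← P'.char]
    rfl
  simp only [R, R'] at hterm ⊢
  simp only [hterm]
  -- expand over the characters of `Cp ⧸ C`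
  haveI := subgroupOf_normal hCpn hCCp
  let N := C.subgroupOf Cp
  haveI : Fintype N := Fintype.ofFinite _
  haveI : Fintype (Cp ⧸ N) := Fintype.ofFinite _
  have hres : (fun n : N => (ξ : Cp → ℂ) n) = (pull hCCp φ : N → ℂ) := by
    funext n
    exact hξext (Subgroup.subgroupOfEquivOfLe hCCp n)
  let ψ : Cp → ℂ := fun x => (χ : Dp → ℂ) (Subgroup.inclusion hfixp.le x)
  obtain ⟨F, hFcl, hF, hFi⟩ := Gallagher.exists_coset_sum N ξ.2 (ψ := ψ)
    (isClassFunction_of_isCharacter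
      (isCharacter_comp (Subgroup.inclusion hfixp.le) (isCharacter_of_isIrr χ.2)))
  let e : C ≃ N :=
    { toFun := fun c => ⟨aC * Subgroup.inclusion hCCp c * aC⁻¹,
        (inferInstance : N.Normal).conj_mem _ (Subgroup.mem_subgroupOf.2 c.2) _⟩
      invFun := fun n => ⟨(aC⁻¹ * n * aC : Cp), by
        have := (inferInstance : N.Normal).conj_mem _ n.2 aC⁻¹
        simpa [Subgroup.mem_subgroupOf, N] using this⟩
      left_inv := fun c => Subtype.ext (by simp [mul_assoc])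
      right_inv := fun n => Subtype.ext (Subtype.ext (by simp [mul_assoc])) }
  have hsumF : ∑ c : C, ψ (aC * Subgroup.inclusion hCCp c) *
      conj ((ξ : Cp → ℂ) (aC * Subgroup.inclusion hCCp c)) = F aC := by
    rw [hF]
    exact Fintype.sum_equiv e _ _ fun c => by simp [e]
  show ∑ c : C, ψ (aC * Subgroup.inclusion hCCp c) *
      conj ((ξ : Cp → ℂ) (aC * Subgroup.inclusion hCCp c)) ≠ 0
  rw [hsumF, congrFun (classFunction_expansion hFcl) aC]
  simp only [Finset.sum_apply, Pi.smul_apply, smul_eq_mul, hFi, mul_assoc, ← Finset.mul_sum]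
  refine mul_ne_zero (Nat.cast_ne_zero.2 Nat.card_pos.ne') fun hzero => ?_
  have hc : ∀ x y : Cp ⧸ N, x * y = y * x := by
    intro x y
    obtain ⟨u, rfl⟩ := QuotientGroup.mk_surjective x
    obtain ⟨v, rfl⟩ := QuotientGroup.mk_surjective y
    rw [← QuotientGroup.mk_mul, ← QuotientGroup.mk_mul, QuotientGroup.eq_iff_div_mem,
      Subgroup.mem_subgroupOf]
    simpa [div_eq_mul_inv, mul_assoc] using hcomm u u.2 v v.2
  have hβ : ∀ β : IrrCharacter (Cp ⧸ N), ∃ l : Cp →* ℂˣ, Triv hCCp l ∧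
      Gallagher.prodInfl N (ξ : Cp → ℂ) (β : Cp ⧸ N → ℂ) = (twist ξ l : Cp → ℂ) ∧
      (l = 1 → (β : Cp ⧸ N → ℂ) = fun _ => 1) := by
    intro β
    obtain ⟨g, hg⟩ := exists_hom_of_degree_one (isCharacter_of_isIrr β.2)
      (CfsgLib.OddOrderChar.irr_degree_one_of_comm hc β)
    refine ⟨g.comp (QuotientGroup.mk' N), fun k => ?_, ?_, fun h1 => ?_⟩
    · rw [MonoidHom.comp_apply, QuotientGroup.mk'_apply,
        (QuotientGroup.eq_one_iff _).2 (by exact Subgroup.mem_subgroupOf.2 k.2), map_one]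
    · funext x
      rw [twist_apply, Gallagher.prodInfl, hg]
      simp [mul_comm]
    · rw [hg]
      funext x
      obtain ⟨x, rfl⟩ := QuotientGroup.mk_surjective x
      have := congrArg (fun l : Cp →* ℂˣ => ((l x : ℂˣ) : ℂ)) h1
      simpa using this
  choose l hl hlp hl1 using hβ
  have hmult : ∀ β : IrrCharacter (Cp ⧸ N), Cfsg.classInner ψ (Gallagher.prodInfl N (ξ : Cp → ℂ) (β : Cp ⧸ N → ℂ)) =
      (multNat hfixp.le χ (twist ξ (l β)) : ℂ) := fun β => by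
    rw [hlp, multNat_eq_classInner]
  simp only [hmult] at hzero
  let β₁ : IrrCharacter (Cp ⧸ N) := ⟨fun _ => 1, isIrr_one⟩
  have hl1' : l β₁ = 1 := by
    refine hξext.twist_injective hCpn (hl β₁) (fun k => rfl) ?_
    rw [twist_one]
    refine Subtype.ext ?_
    rw [← hlp]
    funext x
    exact mul_one _
  rw [← Finset.add_sum_erase _ _ (Finset.mem_univ β₁), hl1', twist_one] at hzero
  simp only [β₁, mul_one] at hzero
  have hdvd : ∀ β ∈ Finset.univ.erase β₁, p ∣ multNat hfixp.le χ (twist ξ (l β)) := fun β hβ =>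
    hothers _ (hl β) fun h => Finset.ne_of_mem_erase hβ (Subtype.ext (hl1 β h))
  choose! k hk using hdvd
  apply hξne
  rw [ZMod.natCast_eq_zero_iff]
  refine dvd_of_isIntegral_div (Fact.out : p.Prime).ne_zero ?_
  have hp : (p : ℂ) ≠ 0 := Nat.cast_ne_zero.2 (Fact.out : p.Prime).ne_zero
  have he : (multNat hfixp.le χ ξ : ℂ) / p =
      -∑ β ∈ Finset.univ.erase β₁, (k β : ℂ) * (β : Cp ⧸ N → ℂ) aC := by
    rw [div_eq_iff hp, neg_mul, eq_neg_iff_add_eq_zero, Finset.sum_mul]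
    rw [← hzero]
    congr 1
    refine Finset.sum_congr rfl fun β hβ => ?_
    rw [hk β hβ]
    push_cast
    ring
  rw [he]
  exact (IsIntegral.sum _ fun β _ => (isIntegral_algebraMap (R := ℤ) (x := (k β : ℤ))).mul
    (character_isIntegral (isCharacter_of_isIrr β.2) _) |> fun h => by simpa using h).neg

end CfsgLib.RelMcKay
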